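import Cfsg.Agent.H932.Spinor
import Cfsg.Agent.LieClassical.OrthForms
import Mathlib
import Cfsg.Agent.H612.Ore.SpCover
import Cfsg.Agent.StandardComponent.SpTwoAut
import Cfsg.Agent.H209.EPX.Defs_m3
import Cfsg.Agent.S4040
import Cfsg.Agent.DS.Gen.Split
import Cfsg.Agent.H528.EP.UB3_m3
import Cfsg.Agent.H417.EP.ASix
import Cfsg.Agent.H259.NatMod
import Cfsg.Agent.ChevalleyStructure.SL2Hom
import Cfsg.Agent.H948.PSLMax
import Cfsg.Agent.S0799
import Cfsg.Agent.H957.EP.RowSixUB_m3
import Cfsg.Agent.S0813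
import Cfsg.Agent.TwoFusion.SLTwoFacts
import Cfsg.Agent.H972.CS.LinkOf_m3
import Cfsg.Agent.H235.TitsRow
import Cfsg.Agent.H369.Ti.Facts
import Cfsg.Agent.Lib.FastPerm
import Cfsg.Agent.H175.BdSp_m3
import Cfsg.Agent.H83.RootCount
import Cfsg.Agent.BpExc.AsmN_m3
import Cfsg.Agent.H476.Conj.Tits
import Cfsg.Agent.H758.EPX.TK_m3
import Cfsg.Agent.H778.ExcTwTor
import Cfsg.Agent.H208.PiExc.Cases
import Cfsg.Agent.H104.EP.U42_m3
import Cfsg.Agent.Lib.ListFast
import Cfsg.Agent.Lib.NodupNat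
import Cfsg.Agent.H603.SporElim
import Cfsg.Agent.H783.EX.Rank
import Cfsg.Agent.H147.SzClass
import Cfsg.Agent.H737.EPO.RelOne_m3
import Cfsg.Agent.H470.EPO.OwnR1_m3
import Cfsg.Agent.H212.U3.Model
import Cfsg.Prelude.Def_GeometricClasses
import Cfsg.Agent.H907.SU3Cases
import Cfsg.Agent.H907.MxSymp2_m3
import Cfsg.Agent.FastGrp
import Cfsg.Agent.Prune
set_option linter.all false

section
prune_inst 0x7fb0acf809b82ddedfff7e77a6d0cffc39901fffe6dff94b7fe061df0b9f030009c56b8509e010fe0ed6e01410b87803fb7eceffe863dc7ffffd5ff41ffbee0fa5e6b508519688340fbc0fff03f0778e7f3fffffffffffffffffffffffffffbeffbdffffffff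

-- part: H948/EPX/Om7A
section
prune_inst 0x4f5307f645d22120008188582f3001c66b600009200484800b86209440dcefe62a907a861f830191280a89cd4603d004813100130c22000000a000c00011f0581108152069348a10426000e800080000000000000000000000000000000041004200000000
set_option linter.all false
open scoped Cfsg.Agent.FastGrp

/-!
# S5745, row `Ω₇(3)`: an element of order five of `Ω₇(3)` in coordinates (helper948)
-/

set_option autoImplicit false
set_option linter.unusedSectionVars false
set_option maxRecDepth 100000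

namespace Cfsg.Agent.H948.EPX.Om7

open QuadraticMap Matrix
open Cfsg.Agent.ClassicalGeometry.Reflection Cfsg.Agent.ClassicalGeometry.SpinorSign
open Cfsg.Agent.LieClassical.OrthCore Cfsg.Agent.LieClassical.OrthForms
open Cfsg.Agent.H932.Spinor

abbrev R := ZMod 3
abbrev I := Unit ⊕ (Fin 3 ⊕ Fin 3)
abbrev V := I → R
abbrev q0 : V → R := Cfsg.quadFormOdd 3 R
noncomputable abbrev Q : QuadraticForm R V := oddForm 3 R
noncomputable abbrev Iso := Cfsg.isometryGroup R ⇑Q

instance : Fact (Nat.Prime 3) := ⟨Nat.prime_three⟩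

theorem two_ne : (2 : R) ≠ 0 := by decide

theorem Qq : (⇑Q : V → R) = q0 := coe_oddForm 3 R

theorem hQ : (QuadraticMap.polarBilin Q).Nondegenerate := by
  exact ⟨fun x hx => nondeg_oddForm 3 R two_ne x hx,
    fun x hx => nondeg_oddForm 3 R two_ne x fun y => by rw [polar_comm]; exact hx y⟩

theorem h3 : (3 : R) = 0 := by decide
theorem h4 : (4 : R) = 1 := by decide
theorem h5 : (5 : R) = 2 := by decide
theorem h6 : (6 : R) = 0 := by decide
theorem h7 : (7 : R) = 1 := by decide
theorem h8 : (8 : R) = 2 := by decide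
theorem h9 : (9 : R) = 0 := by decide

local macro "r3" : tactic => `(tactic| (rw [← sub_eq_zero]; ring_nf; try simp only [h3, h6, h9, mul_zero, neg_zero, add_zero, zero_add, sub_zero]))

def mk7 (a b c d e f g : R) : V := Sum.elim (fun _ => a) (Sum.elim ![b, c, d] ![e, f, g])

def mk (u : Fin 3 → R) (c : Fin 4 → R) : V :=
  mk7 (2 * c 1 + 2 * c 2 + 2 * c 3) (2 * c 1) (u 0 + c 0) (u 1) (c 0 + 2 * c 3) (2 * u 0 + c 0) (u 2)

def cu (x : V) : Fin 3 → R := ![2 * x (.inr (.inl 1)) + x (.inr (.inr 1)), x (.inr (.inl 2)), x (.inr (.inr 2))]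

def cc (x : V) : Fin 4 → R := ![2 * x (.inr (.inl 1)) + 2 * x (.inr (.inr 1)), 2 * x (.inr (.inl 0)),
      2 * x (.inl ()) + x (.inr (.inl 0)) + x (.inr (.inl 1)) + x (.inr (.inr 0)) + x (.inr (.inr 1)),
      2 * x (.inr (.inl 1)) + 2 * x (.inr (.inr 0)) + 2 * x (.inr (.inr 1))]

theorem mk_cc (x : V) : mk (cu x) (cc x) = x := by
  funext i
  rcases i with i | i | i
  · simp [mk, mk7, cu, cc]
    r3
  · fin_cases i <;> simp [mk, mk7, cu, cc] <;> r3
  · fin_cases i <;> simp [mk, mk7, cu, cc] <;> r3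

theorem mk_surj (x : V) : ∃ u c, x = mk u c := ⟨cu x, cc x, (mk_cc x).symm⟩

theorem cu_mk (u : Fin 3 → R) (c : Fin 4 → R) : cu (mk u c) = u := by
  funext i
  fin_cases i <;> simp [mk, mk7, cu] <;> r3

theorem cc_mk (u : Fin 3 → R) (c : Fin 4 → R) : cc (mk u c) = c := by
  funext i
  fin_cases i <;> simp [mk, mk7, cc] <;> r3

theorem mk_inj {u u' : Fin 3 → R} {c c' : Fin 4 → R} (h : mk u c = mk u' c') : u = u' ∧ c = c' := by
  constructor
  · rw [← cu_mk u c, h, cu_mk]
  · rw [← cc_mk u c, h, cc_mk]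

theorem mk_add (u u' : Fin 3 → R) (c c' : Fin 4 → R) : mk (u + u') (c + c') = mk u c + mk u' c' := by
  funext i
  rcases i with i | i | i
  · simp [mk, mk7]; ring
  · fin_cases i <;> simp [mk, mk7] <;> ring
  · fin_cases i <;> simp [mk, mk7] <;> ring

theorem mk_smul (a : R) (u : Fin 3 → R) (c : Fin 4 → R) : mk (a • u) (a • c) = a • mk u c := by
  funext i
  rcases i with i | i | i
  · simp [mk, mk7]; ring
  · fin_cases i <;> simp [mk, mk7] <;> ring
  · fin_cases i <;> simp [mk, mk7] <;> ring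

theorem mk_zero : mk 0 0 = 0 := by
  have := mk_smul 0 0 0
  simpa using this

theorem mk_neg (u : Fin 3 → R) (c : Fin 4 → R) : mk (-u) (-c) = -mk u c := by
  have := mk_smul (-1) u c
  simpa using this

def d1 : V := mk7 0 0 1 0 0 2 0
def dX : V := mk7 0 0 0 1 0 0 0
def dZ : V := mk7 0 0 0 0 0 0 1
def F0 : V := mk7 0 0 1 0 1 1 0
def F1 : V := mk7 2 2 0 0 0 0 0
def F2 : V := mk7 2 0 0 0 0 0 0
def F3 : V := mk7 2 0 0 0 2 0 0
def F4 : V := mk7 0 1 2 0 0 2 0

theorem mk_eq (u : Fin 3 → R) (c : Fin 4 → R) :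
    mk u c = u 0 • d1 + u 1 • dX + u 2 • dZ + c 0 • F0 + c 1 • F1 + c 2 • F2 + c 3 • F3 := by
  funext i
  rcases i with i | i | i
  · simp [mk, mk7, d1, dX, dZ, F0, F1, F2, F3]; r3
  · fin_cases i <;> simp [mk, mk7, d1, dX, dZ, F0, F1, F2, F3] <;> r3
  · fin_cases i <;> simp [mk, mk7, d1, dX, dZ, F0, F1, F2, F3] <;> r3

/-! ### Reflections -/

theorem refl_step {a x y : V} {c : R} (ha : Q a ≠ 0) (hc : q0 a * c = 1) (h : y = x - (c * polar q0 a x) • a) :
    ac (reflIso Q a ha) x = y := by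
  rw [ac_reflIso, h, Qq]
  have : (q0 a)⁻¹ = c := inv_eq_of_mul_eq_one_right hc
  rw [this]

def A1 : V := mk7 1 2 0 0 0 0 0
def A2 : V := mk7 1 2 2 0 1 2 0
def A3 : V := mk7 1 2 0 0 2 0 0
def A4 : V := mk7 1 1 2 0 0 2 0

theorem ne_of {a : V} {c : R} (h : q0 a * c = 1) : Q a ≠ 0 := by
  rw [Qq]
  intro h0
  rw [h0, zero_mul] at h
  exact absurd h (by decide)

theorem hA1 : q0 A1 * 1 = 1 := by decide
theorem hA2 : q0 A2 * 1 = 1 := by decide
theorem hA3 : q0 A3 * 2 = 1 := by decide
theorem hA4 : q0 A4 * 2 = 1 := by decide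

/-- the element of order five -/
noncomputable def Y : Iso := reflIso Q A4 (ne_of hA4) * reflIso Q A3 (ne_of hA3) * reflIso Q A2 (ne_of hA2) *
  reflIso Q A1 (ne_of hA1)

theorem step4 {x x1 x2 x3 x4 : V} (h1 : x1 = x - (1 * polar q0 A1 x) • A1) (h2 : x2 = x1 - (1 * polar q0 A2 x1) • A2)
    (h3 : x3 = x2 - (2 * polar q0 A3 x2) • A3) (h4 : x4 = x3 - (2 * polar q0 A4 x3) • A4) : ac Y x = x4 := by
  rw [Y, ac_mul, ac_mul, ac_mul, refl_step (ne_of hA1) hA1 h1, refl_step (ne_of hA2) hA2 h2,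
    refl_step (ne_of hA3) hA3 h3, refl_step (ne_of hA4) hA4 h4]

theorem Y_d1 : ac Y d1 = d1 := step4 (x1 := d1) (x2 := d1) (x3 := d1) (by decide) (by decide) (by decide) (by decide)

theorem Y_dX : ac Y dX = dX := step4 (x1 := dX) (x2 := dX) (x3 := dX) (by decide) (by decide) (by decide) (by decide)
theorem Y_dZ : ac Y dZ = dZ := step4 (x1 := dZ) (x2 := dZ) (x3 := dZ) (by decide) (by decide) (by decide) (by decide)
theorem Y_F0 : ac Y F0 = F1 :=
  step4 (x1 := mk7 1 2 1 0 1 1 0) (x2 := mk7 0 0 2 0 0 2 0) (x3 := mk7 0 0 2 0 0 2 0) (by decide) (by decide) (by decide) (by decide)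
theorem Y_F1 : ac Y F1 = F2 :=
  step4 (x1 := mk7 1 0 0 0 0 0 0) (x2 := mk7 2 2 2 0 1 2 0) (x3 := mk7 0 1 2 0 0 2 0) (by decide) (by decide) (by decide) (by decide)
theorem Y_F2 : ac Y F2 = F3 :=
  step4 (x1 := mk7 1 1 0 0 0 0 0) (x2 := mk7 1 1 0 0 0 0 0) (x3 := mk7 2 0 0 0 2 0 0) (by decide) (by decide) (by decide) (by decide)
theorem Y_F3 : ac Y F3 = F4 :=
  step4 (x1 := mk7 0 2 0 0 2 0 0) (x2 := mk7 0 2 0 0 2 0 0) (x3 := mk7 2 0 0 0 0 0 0) (by decide) (by decide) (by decide) (by decide)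

def sh (c : Fin 4 → R) : Fin 4 → R := ![-c 3, c 0 - c 3, c 1 - c 3, c 2 - c 3]

theorem Y_mk (u : Fin 3 → R) (c : Fin 4 → R) : ac Y (mk u c) = mk u (sh c) := by
  rw [mk_eq, mk_eq]
  simp only [ac_add, ac_smul, Y_d1, Y_dX, Y_dZ, Y_F0, Y_F1, Y_F2, Y_F3]
  funext i
  rcases i with i | i | i
  · simp [sh, mk7, d1, dX, dZ, F0, F1, F2, F3, F4]; r3
  · fin_cases i <;> simp [sh, mk7, d1, dX, dZ, F0, F1, F2, F3, F4] <;> r3
  · fin_cases i <;> simp [sh, mk7, d1, dX, dZ, F0, F1, F2, F3, F4] <;> r3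

theorem sh5 (c : Fin 4 → R) : sh (sh (sh (sh (sh c)))) = c := by
  funext i
  fin_cases i <;> simp [sh] <;> ring

theorem shsum (c : Fin 4 → R) : c + sh c + sh (sh c) + sh (sh (sh c)) + sh (sh (sh (sh c))) = 0 := by
  funext i
  fin_cases i <;> simp only [sh, Pi.add_apply, Pi.zero_apply, Fin.zero_eta, Fin.mk_one, Fin.reduceFinMk,
    Matrix.cons_val_zero, Matrix.cons_val_one, Matrix.cons_val] <;> ring

theorem Y5 : Y ^ 5 = 1 := by
  apply isometryGroup_ext
  intro x
  obtain ⟨u, c, rfl⟩ := mk_surj x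
  have h : Y ^ 5 = Y * (Y * (Y * (Y * Y))) := by simp only [pow_succ, pow_zero, one_mul, mul_assoc]
  change ac (Y ^ 5) _ = ac 1 _
  rw [h, ac_mul, ac_mul, ac_mul, ac_mul, Y_mk, Y_mk, Y_mk, Y_mk, Y_mk, sh5]
  simp [ac]

/-! ### The form -/

def qE (c : Fin 4 → R) : R := c 0 ^ 2 + 2 * c 0 * c 1 + c 1 * c 3 + (c 1 + c 2 + c 3) ^ 2

def bE (c c' : Fin 4 → R) : R := 2 * c 0 * c' 0 + 2 * (c 0 * c' 1 + c 1 * c' 0) + (c 1 * c' 3 + c 3 * c' 1)
  + 2 * (c 1 + c 2 + c 3) * (c' 1 + c' 2 + c' 3)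

theorem q_mk (u : Fin 3 → R) (c : Fin 4 → R) : q0 (mk u c) = - u 0 ^ 2 + u 1 * u 2 + qE c := by
  simp only [q0, Cfsg.quadFormOdd, mk, mk7, qE, Sum.elim_inl, Sum.elim_inr, Fin.sum_univ_three,
    Matrix.cons_val_zero, Matrix.cons_val_one, Matrix.cons_val]
  linear_combination (u 0 ^ 2 + u 0 * c 0 + (c 1 + c 2 + c 3) ^ 2 + c 1 * c 3) * h3

theorem polar_mk (u u' : Fin 3 → R) (c c' : Fin 4 → R) :
    polar q0 (mk u c) (mk u' c') = u 0 * u' 0 + u 1 * u' 2 + u 2 * u' 1 + bE c c' := by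
  rw [polar, ← mk_add, q_mk, q_mk, q_mk]
  simp only [qE, bE, Pi.add_apply]
  linear_combination (-(u 0 * u' 0)) * h3

end Cfsg.Agent.H948.EPX.Om7

private theorem dce_7df42d66d3f3 : _root_.True := by
  try have : _root_.True := by simp only [_root_.Cfsg.quadFormOdd.eq_1]
  try have : _root_.True := by simp only [_root_.Cfsg.Agent.H948.EPX.Om7.F4.eq_1]
  try have : _root_.True := by simp only [_root_.Cfsg.Agent.H948.EPX.Om7.Y.eq_1]
  try have : _root_.True := by simp only [_root_.Cfsg.Agent.H948.EPX.Om7.d1.eq_1]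
  try have : _root_.True := by simp only [_root_.Cfsg.Agent.H948.EPX.Om7.mk7.eq_1]
  try have : _root_.True := by simp only [_root_.Cfsg.Agent.H948.EPX.Om7.bE.eq_1]
  try have : _root_.True := by simp only [_root_.Cfsg.Agent.H948.EPX.Om7.dZ.eq_1]
  try have : _root_.True := by simp only [_root_.Cfsg.Agent.H948.EPX.Om7.qE.eq_1]
  try have : _root_.True := by simp only [_root_.Cfsg.Agent.H948.EPX.Om7.F2.eq_1]
  try have : _root_.True := by simp only [_root_.Cfsg.Agent.H948.EPX.Om7.F3.eq_1]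
  try have : _root_.True := by simp only [_root_.Cfsg.Agent.H948.EPX.Om7.dX.eq_1]
  try have : _root_.True := by simp only [_root_.Cfsg.Agent.H948.EPX.Om7.F1.eq_1]
  try have : _root_.True := by simp only [_root_.Cfsg.Agent.H948.EPX.Om7.cu.eq_1]
  try have : _root_.True := by simp only [_root_.Cfsg.Agent.H948.EPX.Om7.cc.eq_1]
  try have : _root_.True := by simp only [_root_.Cfsg.Agent.H948.EPX.Om7.F0.eq_1]
  try have : _root_.True := by simp only [_root_.Cfsg.Agent.H948.EPX.Om7.mk.eq_1]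
  try have : _root_.True := by simp only [_root_.Cfsg.Agent.H948.EPX.Om7.sh.eq_1]
  exact _root_.True.intro
end

-- part: H948/EPX/Om7B
section
prune_inst 0x4f5107f644d22120008188582f3003c66b600009200484801d82202440fcede622907a860f020191280a89c44603d004813100130c22000000a000c00011d05a1908302068148a10406000f800080000000000000000000000000000000041004200000000
set_option linter.all false
open scoped Cfsg.Agent.FastGrp

/-!
# S5745, row `Ω₇(3)`: the centraliser of the element of order five (helper948)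
-/

set_option autoImplicit false
set_option linter.unusedSectionVars false
set_option maxRecDepth 100000

namespace Cfsg.Agent.H948.EPX.Om7

open QuadraticMap Matrix
open Cfsg.Agent.ClassicalGeometry.Reflection Cfsg.Agent.ClassicalGeometry.SpinorSign
open Cfsg.Agent.LieClassical.OrthCore Cfsg.Agent.LieClassical.OrthForms
open Cfsg.Agent.H932.Spinor

theorem ac_one (x : V) : ac (1 : Iso) x = x := by simp [ac]

theorem ac_inv (k : Iso) (x : V) : ac k⁻¹ (ac k x) = x := by rw [← ac_mul, inv_mul_cancel, ac_one]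

theorem ac_neg (k : Iso) (x : V) : ac k (-x) = -ac k x := by
  have := ac_smul k (-1) x
  simpa using this

theorem ac_zero (k : Iso) : ac k 0 = 0 := by
  have := ac_smul k 0 0
  simpa using this

theorem iso_ext {g h : Iso} (hh : ∀ x, ac g x = ac h x) : g = h := isometryGroup_ext _ _ _ hh

theorem q_ac (k : Iso) (x : V) : q0 (ac k x) = q0 x := by
  rw [← Qq]
  exact (mem_isometryGroup_iff _ _).1 k.2 x

theorem polar_ac' (k : Iso) (x y : V) : polar q0 (ac k x) (ac k y) = polar q0 x y := by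
  rw [← Qq]
  exact polar_ac Q k x y

theorem comm_ac {k : Iso} (hk : k * Y = Y * k) (x : V) : ac k (ac Y x) = ac Y (ac k x) := by
  rw [← ac_mul, hk, ac_mul]

theorem Y_u (u : Fin 3 → R) : ac Y (mk u 0) = mk u 0 := by
  rw [Y_mk]
  congr 1
  funext i
  fin_cases i <;> simp [sh]

theorem of_sh {c : Fin 4 → R} (h : sh c = c) : c = 0 := by
  have h0 := congrFun h 0
  have h1 := congrFun h 1
  have h2 := congrFun h 2
  have h3 := congrFun h 3
  simp only [sh, Matrix.cons_val_zero, Matrix.cons_val_one, Matrix.cons_val] at h0 h1 h2 h3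
  have key : ∀ a b c d : R, -d = a → a - d = b → b - d = c → c - d = d → a = 0 ∧ b = 0 ∧ c = 0 ∧ d = 0 := by decide
  obtain ⟨e0, e1, e2, e3⟩ := key _ _ _ _ h0 h1 h2 h3
  funext i
  fin_cases i
  · exact e0
  · exact e1
  · exact e2
  · exact e3

theorem mem_U_of {x : V} (h : ac Y x = x) : ∃ u, x = mk u 0 := by
  obtain ⟨u, c, rfl⟩ := mk_surj x
  rw [Y_mk] at h
  obtain ⟨-, h⟩ := mk_inj h
  rw [of_sh h]
  exact ⟨u, rfl⟩

theorem k_U {k : Iso} (hk : k * Y = Y * k) (u : Fin 3 → R) : ∃ u', ac k (mk u 0) = mk u' 0 := by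
  apply mem_U_of
  rw [← comm_ac hk, Y_u]

/-- the norm -/
theorem nm (u : Fin 3 → R) (c : Fin 4 → R) : mk u c + ac Y (mk u c) + ac Y (ac Y (mk u c)) + ac Y (ac Y (ac Y (mk u c)))
    + ac Y (ac Y (ac Y (ac Y (mk u c)))) = mk (-u) 0 := by
  rw [Y_mk, Y_mk, Y_mk, Y_mk, ← mk_add, ← mk_add, ← mk_add, ← mk_add, shsum]
  congr 1
  funext i
  simp only [Pi.add_apply, Pi.neg_apply]
  linear_combination (2 * u i) * h3

theorem k_E {k : Iso} (hk : k * Y = Y * k) (c : Fin 4 → R) : ∃ c', ac k (mk 0 c) = mk 0 c' := by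
  obtain ⟨u', c', h⟩ := mk_surj (ac k (mk 0 c))
  have h1 := nm u' c'
  rw [← h] at h1
  simp only [← comm_ac hk] at h1
  rw [← ac_add, ← ac_add, ← ac_add, ← ac_add, nm, neg_zero, mk_zero, ac_zero, ← mk_zero] at h1
  have h2 := (mk_inj h1).1
  have h4 : u' = 0 := neg_eq_zero.1 h2.symm
  rw [h, h4]
  exact ⟨c', rfl⟩

def c0 : Fin 4 → R := ![1, 0, 0, 0]
def c1 : Fin 4 → R := ![0, 1, 0, 0]
def c2 : Fin 4 → R := ![0, 0, 1, 0]
def c3 : Fin 4 → R := ![0, 0, 0, 1]
def c4 : Fin 4 → R := ![-1, -1, -1, -1]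

theorem sh0 : sh c0 = c1 := by decide
theorem sh1 : sh c1 = c2 := by decide
theorem sh2 : sh c2 = c3 := by decide
theorem sh3 : sh c3 = c4 := by decide

theorem c_list (c : Fin 4 → R) (h1 : qE c = 1) (h2 : bE c (sh c) = 2) :
    c = c0 ∨ c = c1 ∨ c = c2 ∨ c = c3 ∨ c = c4 ∨ c = -c0 ∨ c = -c1 ∨ c = -c2 ∨ c = -c3 ∨ c = -c4 := by
  have key : ∀ a0 a1 a2 a3 : R, qE ![a0, a1, a2, a3] = 1 → bE ![a0, a1, a2, a3] (sh ![a0, a1, a2, a3]) = 2 →
      ![a0, a1, a2, a3] = c0 ∨ ![a0, a1, a2, a3] = c1 ∨ ![a0, a1, a2, a3] = c2 ∨ ![a0, a1, a2, a3] = c3 ∨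
      ![a0, a1, a2, a3] = c4 ∨ ![a0, a1, a2, a3] = -c0 ∨ ![a0, a1, a2, a3] = -c1 ∨ ![a0, a1, a2, a3] = -c2 ∨
      ![a0, a1, a2, a3] = -c3 ∨ ![a0, a1, a2, a3] = -c4 := by decide
  have hc : c = ![c 0, c 1, c 2, c 3] := by
    funext i
    fin_cases i <;> rfl
  rw [hc] at h1 h2 ⊢
  exact key _ _ _ _ h1 h2

theorem F0_eq : F0 = mk 0 c0 := by decide

theorem pow_c0 (i : ℕ) : ac (Y ^ (i + 1)) (mk 0 c0) = ac Y (ac (Y ^ i) (mk 0 c0)) := by
  rw [pow_succ', ac_mul]

theorem p0 : ac (Y ^ 0) (mk 0 c0) = mk 0 c0 := by rw [pow_zero, ac_one]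
theorem p1 : ac (Y ^ 1) (mk 0 c0) = mk 0 c1 := by rw [pow_c0, p0, Y_mk, sh0]
theorem p2 : ac (Y ^ 2) (mk 0 c0) = mk 0 c2 := by rw [pow_c0, p1, Y_mk, sh1]
theorem p3 : ac (Y ^ 3) (mk 0 c0) = mk 0 c3 := by rw [pow_c0, p2, Y_mk, sh2]
theorem p4 : ac (Y ^ 4) (mk 0 c0) = mk 0 c4 := by rw [pow_c0, p3, Y_mk, sh3]

theorem neg_mk0 (c : Fin 4 → R) : mk 0 (-c) = (-1 : R) • mk 0 c := by
  rw [← mk_smul, smul_zero, neg_one_smul]

theorem k_c0 {k : Iso} (hk : k * Y = Y * k) : ∃ (i : ℕ) (ε : R), (ε = 1 ∨ ε = -1) ∧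
    ac k (mk 0 c0) = ε • ac (Y ^ i) (mk 0 c0) := by
  obtain ⟨c', h⟩ := k_E hk c0
  have h1 : qE c' = 1 := by
    have := q_ac k (mk 0 c0)
    rw [h, q_mk, q_mk] at this
    have e : qE c0 = 1 := by decide
    rw [e] at this
    simpa using this
  have h2 : bE c' (sh c') = 2 := by
    have := polar_ac' k (mk 0 c0) (ac Y (mk 0 c0))
    rw [comm_ac hk, h, Y_mk, Y_mk, polar_mk, polar_mk] at this
    have e : bE c0 (sh c0) = 2 := by decide
    rw [e] at this
    simpa using this
  rw [h]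
  rcases c_list c' h1 h2 with rfl | rfl | rfl | rfl | rfl | rfl | rfl | rfl | rfl | rfl
  · exact ⟨0, 1, Or.inl rfl, by rw [p0, one_smul]⟩
  · exact ⟨1, 1, Or.inl rfl, by rw [p1, one_smul]⟩
  · exact ⟨2, 1, Or.inl rfl, by rw [p2, one_smul]⟩
  · exact ⟨3, 1, Or.inl rfl, by rw [p3, one_smul]⟩
  · exact ⟨4, 1, Or.inl rfl, by rw [p4, one_smul]⟩
  · exact ⟨0, -1, Or.inr rfl, by rw [p0, neg_mk0]⟩
  · exact ⟨1, -1, Or.inr rfl, by rw [p1, neg_mk0]⟩
  · exact ⟨2, -1, Or.inr rfl, by rw [p2, neg_mk0]⟩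
  · exact ⟨3, -1, Or.inr rfl, by rw [p3, neg_mk0]⟩
  · exact ⟨4, -1, Or.inr rfl, by rw [p4, neg_mk0]⟩

theorem k_form {k : Iso} (hk : k * Y = Y * k) : ∃ (i : ℕ) (ε : R), (ε = 1 ∨ ε = -1) ∧
    ∀ c, ac ((Y ^ i)⁻¹ * k) (mk 0 c) = ε • mk 0 c := by
  obtain ⟨i, ε, hε, h⟩ := k_c0 hk
  refine ⟨i, ε, hε, fun c => ?_⟩
  set z := (Y ^ i)⁻¹ * k with hz
  have hzY : z * Y = Y * z := by
    have h1 : (Y ^ i)⁻¹ * Y = Y * (Y ^ i)⁻¹ := by
      rw [inv_mul_eq_iff_eq_mul, ← mul_assoc, eq_mul_inv_iff_mul_eq, ← pow_succ, ← pow_succ']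
    rw [hz, mul_assoc, hk, ← mul_assoc, h1, mul_assoc]
  have e0 : ac z F0 = ε • F0 := by
    rw [F0_eq, hz, ac_mul, h, ac_smul, ac_inv]
  have e1 : ac z F1 = ε • F1 := by rw [← Y_F0, comm_ac hzY, e0, ac_smul]
  have e2 : ac z F2 = ε • F2 := by rw [← Y_F1, comm_ac hzY, e1, ac_smul]
  have e3 : ac z F3 = ε • F3 := by rw [← Y_F2, comm_ac hzY, e2, ac_smul]
  rw [mk_eq]
  simp only [ac_add, ac_smul, e0, e1, e2, e3, Pi.zero_apply, zero_smul, ac_zero, zero_add]
  simp only [smul_add, smul_smul, mul_comm ε]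

theorem pow_u (i : ℕ) (u : Fin 3 → R) : ac (Y ^ i) (mk u 0) = mk u 0 := by
  induction i with
  | zero => rw [pow_zero, ac_one]
  | succ n ih => rw [pow_succ, ac_mul, Y_u, ih]

theorem pow_inv_u (i : ℕ) (u : Fin 3 → R) : ac (Y ^ i)⁻¹ (mk u 0) = mk u 0 := by
  nth_rewrite 1 [← pow_u i u]
  rw [ac_inv]

/-! ### The involution `-1` on `E` -/

def B1 : V := mk7 1 0 0 0 0 0 0
def B2 : V := mk7 0 0 1 0 0 1 0
def B3 : V := mk7 0 1 0 0 1 0 0
def B4 : V := mk7 0 1 0 0 2 0 0
theorem hB1 : q0 B1 * 1 = 1 := by decide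
theorem hB2 : q0 B2 * 1 = 1 := by decide
theorem hB3 : q0 B3 * 1 = 1 := by decide
theorem hB4 : q0 B4 * 2 = 1 := by decide

noncomputable def tt : Iso := reflIso Q B4 (ne_of hB4) * reflIso Q B3 (ne_of hB3) * reflIso Q B2 (ne_of hB2) *
  reflIso Q B1 (ne_of hB1)

theorem stepB {x x1 x2 x3 x4 : V} (h1 : x1 = x - (1 * polar q0 B1 x) • B1) (h2 : x2 = x1 - (1 * polar q0 B2 x1) • B2)
    (h3 : x3 = x2 - (1 * polar q0 B3 x2) • B3) (h4 : x4 = x3 - (2 * polar q0 B4 x3) • B4) : ac tt x = x4 := by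
  rw [tt, ac_mul, ac_mul, ac_mul, refl_step (ne_of hB1) hB1 h1, refl_step (ne_of hB2) hB2 h2,
    refl_step (ne_of hB3) hB3 h3, refl_step (ne_of hB4) hB4 h4]

theorem t_d1 : ac tt d1 = d1 := stepB (x1 := d1) (x2 := d1) (x3 := d1) (by decide) (by decide) (by decide) (by decide)
theorem t_dX : ac tt dX = dX := stepB (x1 := dX) (x2 := dX) (x3 := dX) (by decide) (by decide) (by decide) (by decide)
theorem t_dZ : ac tt dZ = dZ := stepB (x1 := dZ) (x2 := dZ) (x3 := dZ) (by decide) (by decide) (by decide) (by decide)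
theorem t_F0 : ac tt F0 = -F0 := stepB rfl rfl rfl (by decide)
theorem t_F1 : ac tt F1 = -F1 := stepB rfl rfl rfl (by decide)
theorem t_F2 : ac tt F2 = -F2 := stepB rfl rfl rfl (by decide)
theorem t_F3 : ac tt F3 = -F3 := stepB rfl rfl rfl (by decide)

theorem t_mk (u : Fin 3 → R) (c : Fin 4 → R) : ac tt (mk u c) = mk u (-c) := by
  rw [mk_eq, mk_eq]
  simp only [ac_add, ac_smul, t_d1, t_dX, t_dZ, t_F0, t_F1, t_F2, t_F3, Pi.neg_apply, smul_neg, neg_smul]

theorem s_of {a : V} {c : R} (h : q0 a * c = 1) (hsq : IsSquare (q0 a)) : spinorSign (⇑Q) 1 (reflIso Q a (ne_of h)) = -1 := by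
  rw [spinorSign_reflIso two_ne Q one_ne_zero, if_pos]
  rw [one_mul, Qq]
  exact hsq

theorem s_of' {a : V} {c : R} (h : q0 a * c = 1) (hsq : ¬ IsSquare (q0 a)) : spinorSign (⇑Q) 1 (reflIso Q a (ne_of h)) = 1 := by
  rw [spinorSign_reflIso two_ne Q one_ne_zero, if_neg]
  rw [one_mul, Qq]
  exact hsq

theorem sq1 : IsSquare (1 : R) := ⟨1, rfl⟩
theorem nsq2 : ¬ IsSquare (2 : R) := by
  rintro ⟨r, hr⟩
  revert r
  decide

theorem spin_tt : spinorSign (⇑Q) 1 tt = -1 := by
  have b1 : q0 B1 = 1 := by decide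
  have b2 : q0 B2 = 1 := by decide
  have b3 : q0 B3 = 1 := by decide
  have b4 : q0 B4 = 2 := by decide
  rw [tt, map_mul, map_mul, map_mul, s_of hB1 (b1 ▸ sq1), s_of hB2 (b2 ▸ sq1), s_of hB3 (b3 ▸ sq1),
    s_of' hB4 (b4 ▸ nsq2)]
  decide

theorem spin_Y : spinorSign (⇑Q) 1 Y = 1 := by
  have b1 : q0 A1 = 1 := by decide
  have b2 : q0 A2 = 1 := by decide
  have b3 : q0 A3 = 2 := by decide
  have b4 : q0 A4 = 2 := by decide
  rw [Y, map_mul, map_mul, map_mul, s_of hA1 (b1 ▸ sq1), s_of hA2 (b2 ▸ sq1), s_of' hA3 (b3 ▸ nsq2),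
    s_of' hA4 (b4 ▸ nsq2)]
  decide

/-- the determinant -/
noncomputable def dt : Iso →* R where
  toFun g := ((g : Matrix.GeneralLinearGroup I R) : Matrix I I R).det
  map_one' := by simp
  map_mul' g h := by
    change ((((g : Matrix.GeneralLinearGroup I R) * (h : Matrix.GeneralLinearGroup I R) : Matrix.GeneralLinearGroup I R)) : Matrix I I R).det = _
    rw [Units.val_mul, Matrix.det_mul]

attribute [local irreducible] Matrix.det

theorem dt_refl (a : V) (ha : Q a ≠ 0) : dt (reflIso Q a ha) = -1 := det_reflIso Q a ha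

theorem dt_tt : dt tt = 1 := by
  rw [tt, map_mul, map_mul, map_mul, dt_refl, dt_refl, dt_refl, dt_refl]
  decide

theorem dt_Y : dt Y = 1 := by
  rw [Y, map_mul, map_mul, map_mul, dt_refl, dt_refl, dt_refl, dt_refl]
  decide

theorem dt_neg : dt (negIso Q) = -1 := by
  change (-1 : Matrix I I R).det = -1
  rw [Matrix.det_neg, Matrix.det_one]
  decide

/-- membership in `Ω` -/
theorem mem_om (g : Iso) : (g : Matrix.GeneralLinearGroup I R) ∈ Cfsg.Geo.omegaGL q0 ↔
    dt g = 1 ∧ spinorSign (⇑Q) 1 g = 1 := by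
  rw [← Qq]
  exact of_mem_omegaGL two_ne Q hQ (by decide) g

end Cfsg.Agent.H948.EPX.Om7

private theorem dce_8790412abbcb : _root_.True := by
  try have : _root_.True := by simp only [_root_.Cfsg.Agent.H948.EPX.Om7.tt.eq_1]
  exact _root_.True.intro
end

-- part: H948/EPX/Om7C
section
prune_inst 0xf5307f644d22120000188580f3001c66b6000092004800009862024407cede622904a861e420091280b88c542035004813100130c22000000a000800011d0481900252069348a104260009802082000000000000000000000000000000041004200000000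
set_option linter.all false
open scoped Cfsg.Agent.FastGrp

/-!
# S5745, row `Ω₇(3)`: the centraliser of the element of order five acts on four points (helper948)
-/

set_option autoImplicit false
set_option linter.unusedSectionVars false
set_option maxRecDepth 100000

namespace Cfsg.Agent.H948.EPX.Om7

open QuadraticMap Matrix
open Cfsg.Agent.ClassicalGeometry.Reflection Cfsg.Agent.ClassicalGeometry.SpinorSign
open Cfsg.Agent.LieClassical.OrthCore Cfsg.Agent.LieClassical.OrthForms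
open Cfsg.Agent.H932.Spinor

theorem mk_split (u : Fin 3 → R) (c : Fin 4 → R) : mk u c = mk u 0 + mk 0 c := by
  rw [← mk_add, add_zero, zero_add]

/-- an element of `Ω` which is `± 1` on `U` and on `E` is trivial -/
theorem eq_one_of {z : Iso} (hd : dt z = 1) (hs : spinorSign (⇑Q) 1 z = 1) {η ε : R} (hη : η = 1 ∨ η = -1)
    (hε : ε = 1 ∨ ε = -1) (hu : ∀ u, ac z (mk u 0) = η • mk u 0) (hc : ∀ c, ac z (mk 0 c) = ε • mk 0 c) : z = 1 := by
  have hx : ∀ u c, ac z (mk u c) = η • mk u 0 + ε • mk 0 c := fun u c => by rw [mk_split, ac_add, hu, hc]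
  have ht : ∀ u c, ac tt (mk u c) = mk u 0 + (-1 : R) • mk 0 c := fun u c => by
    rw [t_mk, mk_split u (-c), neg_mk0]
  rcases hη with rfl | rfl <;> rcases hε with rfl | rfl
  · apply iso_ext
    intro x
    obtain ⟨u, c, rfl⟩ := mk_surj x
    rw [hx, ac_one, one_smul, one_smul, ← mk_split]
  · exfalso
    have h : z = tt := by
      apply iso_ext
      intro x
      obtain ⟨u, c, rfl⟩ := mk_surj x
      rw [hx, ht, one_smul]
    rw [h, spin_tt] at hs
    exact absurd hs (by decide)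
  · exfalso
    have h : z = negIso Q * tt := by
      apply iso_ext
      intro x
      obtain ⟨u, c, rfl⟩ := mk_surj x
      rw [hx, ac_mul, ac_negIso, ht, neg_add, neg_smul, neg_smul, neg_neg, one_smul, one_smul]
    rw [h, map_mul, dt_neg, dt_tt] at hd
    exact absurd hd (by decide)
  · exfalso
    have h : z = negIso Q := by
      apply iso_ext
      intro x
      obtain ⟨u, c, rfl⟩ := mk_surj x
      rw [hx, ac_negIso, mk_split u c, neg_add, neg_smul, neg_smul, one_smul, one_smul]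
    rw [h, dt_neg] at hd
    exact absurd hd (by decide)

/-! ### The four singular points of `U` -/

def P : Fin 4 → Fin 3 → R := ![![0, 1, 0], ![0, 0, 1], ![1, 1, 1], ![1, 2, 2]]

theorem sing_list (u : Fin 3 → R) (h : -u 0 ^ 2 + u 1 * u 2 = 0) (h0 : u ≠ 0) : ∃ l, u = P l ∨ u = -P l := by
  have key : ∀ a b c : R, -a ^ 2 + b * c = 0 → (![a, b, c] : Fin 3 → R) ≠ 0 →
      ∃ l, ![a, b, c] = P l ∨ ![a, b, c] = -P l := by decide
  have hu : u = ![u 0, u 1, u 2] := by
    funext i
    fin_cases i <;> rfl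
  have h1 := key (u 0) (u 1) (u 2) h (by rwa [← hu])
  rwa [← hu] at h1

theorem P_uniq : ∀ l m, (P l = P m ∨ P l = -P m) → l = m := by decide
theorem P_ne : ∀ l, P l ≠ 0 := by decide
theorem P_sing : ∀ l, -(P l) 0 ^ 2 + (P l) 1 * (P l) 2 = 0 := by decide

def pt (l : Fin 4) : V := mk (P l) 0

theorem mk_neg0 (u : Fin 3 → R) : mk (-u) 0 = -mk u 0 := by
  have := mk_neg u 0
  rwa [neg_zero] at this

theorem pt_uniq {l m : Fin 4} (h : pt l = pt m ∨ pt l = -pt m) : l = m := by
  apply P_uniq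
  rcases h with h | h
  · left; exact (mk_inj h).1
  · right
    rw [pt, pt, ← mk_neg0] at h
    exact (mk_inj h).1

theorem qE0 : qE 0 = 0 := by decide

theorem k_pt {k : Iso} (hk : k * Y = Y * k) (j : Fin 4) : ∃ l, ac k (pt j) = pt l ∨ ac k (pt j) = -pt l := by
  obtain ⟨u', h⟩ := k_U hk (P j)
  have h1 : -u' 0 ^ 2 + u' 1 * u' 2 = 0 := by
    have := q_ac k (mk (P j) 0)
    rw [h, q_mk, q_mk, qE0, P_sing, add_zero, add_zero] at this
    exact this
  have h2 : u' ≠ 0 := by
    rintro rfl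
    have h3 : ac k⁻¹ (ac k (mk (P j) 0)) = 0 := by rw [h, mk_zero, ac_zero]
    rw [ac_inv, ← mk_zero] at h3
    exact P_ne j (mk_inj h3).1
  obtain ⟨l, hl⟩ := sing_list u' h1 h2
  refine ⟨l, ?_⟩
  rw [pt, h, pt]
  rcases hl with rfl | rfl
  · left; rfl
  · right; rw [mk_neg0]

/-- the centraliser of `Y` in `Ω` -/
def CY : Subgroup Iso where
  carrier := {k | k * Y = Y * k ∧ dt k = 1 ∧ spinorSign (⇑Q) 1 k = 1}
  one_mem' := ⟨by rw [one_mul, mul_one], map_one _, map_one _⟩
  mul_mem' {a b} ha hb := ⟨by rw [mul_assoc, hb.1, ← mul_assoc, ha.1, mul_assoc],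
    by rw [map_mul, ha.2.1, hb.2.1, one_mul], by rw [map_mul, ha.2.2, hb.2.2, one_mul]⟩
  inv_mem' {a} ha := by
    refine ⟨by rw [inv_mul_eq_iff_eq_mul, ← mul_assoc, eq_mul_inv_iff_mul_eq, ha.1], ?_, by rw [map_inv, ha.2.2, inv_one]⟩
    have h : dt (a * a⁻¹) = 1 := by rw [mul_inv_cancel, map_one]
    rwa [map_mul, ha.2.1, one_mul] at h

noncomputable def im (k : CY) (j : Fin 4) : Fin 4 := (k_pt k.2.1 j).choose

theorem im_spec (k : CY) (j : Fin 4) : ac k.1 (pt j) = pt (im k j) ∨ ac k.1 (pt j) = -pt (im k j) :=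
  (k_pt k.2.1 j).choose_spec

theorem im_eq {k : CY} {j l : Fin 4} (h : ac k.1 (pt j) = pt l ∨ ac k.1 (pt j) = -pt l) : im k j = l := by
  apply pt_uniq
  rcases im_spec k j with h1 | h1 <;> rcases h with h2 | h2 <;> rw [h1] at h2
  · exact Or.inl h2
  · exact Or.inr h2
  · right
    rw [← h2, neg_neg]
  · left
    exact neg_injective h2

theorem im_one (j : Fin 4) : im 1 j = j := by
  apply im_eq
  left
  change ac (1 : Iso) _ = _
  rw [ac_one]

theorem im_mul (k l : CY) (j : Fin 4) : im (k * l) j = im k (im l j) := by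
  apply im_eq
  change ac ((k : Iso) * (l : Iso)) _ = _ ∨ ac ((k : Iso) * (l : Iso)) _ = _
  rw [ac_mul]
  rcases im_spec l j with h1 | h1 <;> rcases im_spec k (im l j) with h2 | h2 <;> rw [h1]
  · exact Or.inl h2
  · exact Or.inr h2
  · right
    rw [ac_neg, h2]
  · left
    rw [ac_neg, h2, neg_neg]

noncomputable instance : MulAction CY (Fin 4) where
  smul := im
  one_smul := im_one
  mul_smul := im_mul

noncomputable def psi : CY →* Equiv.Perm (Fin 4) := MulAction.toPermHom CY (Fin 4)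

theorem psi_apply (k : CY) (j : Fin 4) : psi k j = im k j := rfl

theorem fix4 {k : Iso} (h : ∀ l, ac k (pt l) = pt l ∨ ac k (pt l) = -pt l) :
    ∃ η : R, (η = 1 ∨ η = -1) ∧ ∀ u, ac k (mk u 0) = η • mk u 0 := by
  have h' : ∀ l, ∃ η : R, (η = 1 ∨ η = -1) ∧ ac k (pt l) = η • pt l := by
    intro l
    rcases h l with h | h
    · exact ⟨1, Or.inl rfl, by rw [h, one_smul]⟩
    · exact ⟨-1, Or.inr rfl, by rw [h, neg_one_smul]⟩
  obtain ⟨e0, -, h0⟩ := h' 0
  obtain ⟨e1, -, h1⟩ := h' 1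
  obtain ⟨e2, he, h2⟩ := h' 2
  obtain ⟨e3, -, h3⟩ := h' 3
  have q0 : pt 0 = dX := by decide
  have q1 : pt 1 = dZ := by decide
  have q2 : pt 2 = d1 + dX + dZ := by decide
  have q3 : pt 3 = d1 - dX - dZ := by decide
  have hneg : ∀ x y, ac k (x - y) = ac k x - ac k y := fun x y => by rw [sub_eq_add_neg, ac_add, ac_neg, ← sub_eq_add_neg]
  rw [q0] at h0
  rw [q1] at h1
  rw [q2, ac_add, ac_add, h0, h1] at h2
  rw [q3, hneg, hneg, h0, h1] at h3
  -- compare
  have m1 : d1 = mk ![1, 0, 0] 0 := by decide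
  have mX : dX = mk ![0, 1, 0] 0 := by decide
  have mZ : dZ = mk ![0, 0, 1] 0 := by decide
  have k1 : ac k d1 = e2 • (d1 + dX + dZ) - e0 • dX - e1 • dZ := by rw [← h2]; abel
  rw [k1] at h3
  have h4 : (e2 - e3) • d1 + (e2 - e0 - e0 + e3) • dX + (e2 - e1 - e1 + e3) • dZ = 0 := by
    have : (e2 - e3) • d1 + (e2 - e0 - e0 + e3) • dX + (e2 - e1 - e1 + e3) • dZ
        = (e2 • (d1 + dX + dZ) - e0 • dX - e1 • dZ - e0 • dX - e1 • dZ) - e3 • (d1 - dX - dZ) := by
      module
    rw [this, h3, sub_self]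
  have h5 : mk ![e2 - e3, e2 - e0 - e0 + e3, e2 - e1 - e1 + e3] 0 = mk 0 0 := by
    rw [mk_zero, mk_eq]
    simpa using h4
  have h6 := (mk_inj h5).1
  have a0 : e2 - e3 = 0 := congrFun h6 0
  have a1 : e2 - e0 - e0 + e3 = 0 := congrFun h6 1
  have a2 : e2 - e1 - e1 + e3 = 0 := congrFun h6 2
  have b3 : e3 = e2 := (sub_eq_zero.1 a0).symm
  have b0 : e0 = e2 := by
    rw [b3] at a1
    linear_combination a1 + (e0 - e2) * Om7.h3
  have b1 : e1 = e2 := by
    rw [b3] at a2
    linear_combination a2 + (e1 - e2) * Om7.h3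
  refine ⟨e2, he, fun u => ?_⟩
  rw [mk_eq]
  simp only [ac_add, ac_smul, h0, h1, k1, b0, b1, Pi.zero_apply, zero_smul, add_zero]
  module

theorem psi_eq_one (k : CY) : psi k = 1 ↔ (k : Iso) ∈ Subgroup.zpowers Y := by
  constructor
  · intro h
    obtain ⟨η, hη, hu⟩ := fix4 (k := k.1) (fun l => by
      have := im_spec k l
      rwa [← psi_apply, h, Equiv.Perm.one_apply] at this)
    obtain ⟨i, ε, hε, hc⟩ := k_form k.2.1
    have h1 : (Y ^ i)⁻¹ * (k : Iso) = 1 := by
      refine eq_one_of ?_ ?_ hη hε (fun u => ?_) hc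
      · have h2 : dt ((Y ^ i)⁻¹ * (Y ^ i)) = 1 := by rw [inv_mul_cancel, map_one]
        rw [map_mul, map_pow, dt_Y, one_pow, mul_one] at h2
        rw [map_mul, h2, k.2.2.1, one_mul]
      · rw [map_mul, map_inv, map_pow, spin_Y, one_pow, inv_one, one_mul, k.2.2.2]
      · rw [ac_mul, hu, ac_smul, pow_inv_u]
    rw [inv_mul_eq_one] at h1
    rw [← h1]
    exact Subgroup.pow_mem _ (Subgroup.mem_zpowers Y) i
  · rintro ⟨i, hi⟩
    have hfix : ∀ u, ac k.1 (mk u 0) = mk u 0 := by
      intro u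
      rw [← hi]
      change ac (Y ^ i) _ = _
      rcases i with i | i
      · rw [Int.ofNat_eq_natCast, zpow_natCast, pow_u]
      · rw [zpow_negSucc, pow_inv_u]
    ext j
    rw [psi_apply, Equiv.Perm.one_apply, im_eq (l := j)]
    left
    exact hfix _

end Cfsg.Agent.H948.EPX.Om7

private theorem dce_70a5cccf86dd : _root_.True := by
  try have : _root_.True := by simp only [_root_.Cfsg.Agent.H948.EPX.Om7.pt.eq_1]
  exact _root_.True.intro
end

-- part: H948/EPX/Om7D
section
prune_inst 0x4f5307f644922120000188582f3001c6296000092004808001862024407cedc622907a861f020191280ba94546035004813100130c22000000a000c00011f0581108052069348a10426000e802082000000000000000000000000000000041004200000000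
set_option linter.all false
open scoped Cfsg.Agent.FastGrp

/-!
# S5745, row `Ω₇(3)`: stabilisers of subspaces and of decompositions (helper948)
-/

set_option autoImplicit false
set_option linter.unusedSectionVars false
set_option maxRecDepth 100000

namespace Cfsg.Agent.H948.EPX.Om7

open QuadraticMap Matrix
open Cfsg.Agent.ClassicalGeometry.Reflection Cfsg.Agent.ClassicalGeometry.SpinorSign
open Cfsg.Agent.LieClassical.OrthCore Cfsg.Agent.LieClassical.OrthForms
open Cfsg.Agent.H932.Spinor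

instance : Finite Iso := inferInstance

theorem stab_of (z : Iso) {p : V → Prop} (h : ∀ w, p w → p (ac z w)) (v : V) : p v ↔ p (ac z v) := by
  refine ⟨h v, fun hv => ?_⟩
  have h1 : ∀ (n : ℕ) (w : V), p w → p (ac (z ^ n) w) := by
    intro n
    induction n with
    | zero => intro w hw; rwa [pow_zero, ac_one]
    | succ n ih => intro w hw; rw [pow_succ, ac_mul]; exact ih _ (h _ hw)
  have h2 : z ^ (orderOf z - 1) * z = 1 := by
    rw [← pow_succ, Nat.sub_add_cancel ((orderOf_pos z :)), pow_orderOf_eq_one]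
  have h3 := h1 (orderOf z - 1) _ hv
  rwa [← ac_mul, h2, ac_one] at h3

/-- the element of `Ω` attached to a nonsingular vector -/
theorem comm_refl {n : V} (hn : Q n ≠ 0) (hY : ac Y n = n) : reflIso Q n hn * Y = Y * reflIso Q n hn := by
  apply iso_ext
  intro x
  rw [ac_mul, ac_mul, ac_reflIso, ac_reflIso, sub_eq_add_neg, sub_eq_add_neg, ac_add, ac_neg, ac_smul, hY]
  nth_rewrite 2 [← hY]
  rw [polar_ac]

theorem comm_tt : tt * Y = Y * tt := by
  apply iso_ext
  intro x
  obtain ⟨u, c, rfl⟩ := mk_surj x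
  rw [ac_mul, ac_mul, Y_mk, t_mk, t_mk, Y_mk]
  congr 1
  funext i
  (revert i; simp only [sh, _root_.Fin.forall_fin_succ, Fin.isValue, _root_.Pi.neg_apply, _root_.neg_neg, _root_.sub_neg_eq_add, _root_.Matrix.cons_val_zero, _root_.Matrix.cons_val_succ, _root_.neg_sub, _root_.Matrix.cons_val_fin_one, _root_.forall_const, _root_.true_and]) <;> (repeat' with_reducible apply And.intro) <;> ring

theorem comm_neg (g : Iso) : negIso Q * g = g * negIso Q := by
  apply iso_ext
  intro x
  rw [ac_mul, ac_mul, ac_negIso, ac_negIso, ac_neg]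

theorem zpow_fix {z : Iso} (h : z ∈ Subgroup.zpowers Y) (u : Fin 3 → R) : ac z (mk u 0) = mk u 0 := by
  obtain ⟨i, hi⟩ := Subgroup.mem_zpowers_iff.1 h
  rw [← hi]
  rcases i with i | i
  · rw [Int.ofNat_eq_natCast, zpow_natCast, pow_u]
  · rw [zpow_negSucc, pow_inv_u]

theorem exists_z {n : V} (hn : Q n ≠ 0) (hY : ac Y n = n) : ∃ z : Iso, dt z = 1 ∧ spinorSign (⇑Q) 1 z = 1 ∧
    z * Y = Y * z ∧ z ∉ Subgroup.zpowers Y ∧ (z = negIso Q * reflIso Q n hn ∨ z = negIso Q * reflIso Q n hn * tt) := by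
  set b := negIso Q * reflIso Q n hn with hb
  have hbY : b * Y = Y * b := by
    rw [hb, mul_assoc, comm_refl hn hY, ← mul_assoc, comm_neg, mul_assoc]
  have hbd : dt b = 1 := by
    rw [hb, map_mul, dt_neg, dt_refl]
    decide
  have hact : ∀ z : Iso, (z = b ∨ z = b * tt) → ∀ u, ac z (mk u 0) = -ac (reflIso Q n hn) (mk u 0) := by
    rintro z (rfl | rfl) u
    · rw [hb, ac_mul, ac_negIso]
    · rw [ac_mul, t_mk, neg_zero, hb, ac_mul, ac_negIso]
  have hnot : ∀ z : Iso, (z = b ∨ z = b * tt) → z ∉ Subgroup.zpowers Y := by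
    intro z hz hmem
    have key : ∀ u, ∃ s : R, (2 : R) • mk u 0 = s • n := by
      intro u
      refine ⟨(Q n)⁻¹ * polar (⇑Q) n (mk u 0), ?_⟩
      have h1 := hact z hz u
      rw [zpow_fix hmem, ac_reflIso, neg_sub] at h1
      rw [two_smul]
      nth_rewrite 1 [h1]
      abel
    obtain ⟨u1, h1⟩ : ∃ u, d1 = mk u 0 := ⟨![1, 0, 0], by decide⟩
    obtain ⟨s, hs⟩ := key ![1, 0, 0]
    obtain ⟨s', hs'⟩ := key ![0, 1, 0]
    have h2 : mk (s' • (2 : R) • ![1, 0, 0]) 0 = mk (s • (2 : R) • ![0, 1, 0]) 0 := by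
      have e1 : mk (s' • (2 : R) • ![1, 0, 0]) 0 = s' • (2 : R) • mk ![1, 0, 0] 0 := by
        rw [← mk_smul, ← mk_smul, smul_zero, smul_zero]
      have e2 : mk (s • (2 : R) • ![0, 1, 0]) 0 = s • (2 : R) • mk ![0, 1, 0] 0 := by
        rw [← mk_smul, ← mk_smul, smul_zero, smul_zero]
      rw [e1, e2, hs, hs', smul_comm]
    have h4 := congrFun (mk_inj h2).1 1
    have h5 : s = 0 := by
      simp only [_root_.Nat.succ_eq_add_one, _root_.Nat.reduceAdd, _root_.Matrix.smul_cons, _root_.smul_eq_mul, _root_.mul_one, _root_.MulZeroClass.mul_zero, _root_.Matrix.smul_empty, _root_.Fin.isValue, _root_.Pi.smul_apply, _root_.Matrix.cons_val_one, _root_.Matrix.cons_val_zero, _root_.zero_eq_mul] at h4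
      rcases h4 with h4 | h4
      · exact h4
      · exact absurd h4 two_ne
    rw [h5, zero_smul] at hs
    have h6 : mk ((2 : R) • ![1, 0, 0]) 0 = mk 0 0 := by
      rw [mk_zero, ← hs, ← mk_smul, smul_zero]
    have h7 := congrFun (mk_inj h6).1 0
    simp only [_root_.Nat.succ_eq_add_one, _root_.Nat.reduceAdd, _root_.Fin.isValue, _root_.Pi.smul_apply, _root_.Matrix.cons_val_zero, _root_.smul_eq_mul, _root_.mul_one, _root_.Pi.zero_apply] at h7
    exact two_ne h7
  rcases Int.units_eq_one_or (spinorSign (⇑Q) 1 b) with h | h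
  · exact ⟨b, hbd, h, hbY, hnot b (Or.inl rfl), Or.inl rfl⟩
  · refine ⟨b * tt, ?_, ?_, ?_, hnot _ (Or.inr rfl), Or.inr rfl⟩
    · rw [map_mul, hbd, dt_tt, one_mul]
    · rw [map_mul, h, spin_tt]
      decide
    · rw [mul_assoc, comm_tt, ← mul_assoc, hbY, mul_assoc]

/-! ### Subspaces -/

/-- a suitable vector for an additive set of vectors of `U` -/
theorem exists_n (X : (Fin 3 → R) → Prop) (hadd : ∀ x y, X x → X y → X (x + y)) :
    ∃ a : Fin 3 → R, -a 0 ^ 2 + a 1 * a 2 ≠ 0 ∧ (X a ∨ ∀ x, X x → a 0 * x 0 + a 1 * x 2 + a 2 * x 1 = 0) := by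
  by_cases h : ∃ a, X a ∧ -a 0 ^ 2 + a 1 * a 2 ≠ 0
  · obtain ⟨a, h1, h2⟩ := h
    exact ⟨a, h2, Or.inl h1⟩
  · push Not at h
    by_cases hx : ∃ x, X x ∧ x ≠ 0
    · obtain ⟨x, h1, h2⟩ := hx
      have h3 := h x h1
      have key1 : ∀ x0 x1 x2 : R, -x0 ^ 2 + x1 * x2 = 0 → (x0 ≠ 0 ∨ x1 ≠ 0 ∨ x2 ≠ 0) →
          ∃ a0 a1 a2 : R, -a0 ^ 2 + a1 * a2 ≠ 0 ∧ a0 * x0 + a1 * x2 + a2 * x1 = 0 := by decide +kernel
      have key2 : ∀ x0 x1 x2 : R, -x0 ^ 2 + x1 * x2 = 0 → (x0 ≠ 0 ∨ x1 ≠ 0 ∨ x2 ≠ 0) →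
          ∀ y0 y1 y2 : R, -y0 ^ 2 + y1 * y2 = 0 → -(x0 + y0) ^ 2 + (x1 + y1) * (x2 + y2) = 0 →
          ∃ s : R, y0 = s * x0 ∧ y1 = s * x1 ∧ y2 = s * x2 := by decide +kernel
      have hne : x 0 ≠ 0 ∨ x 1 ≠ 0 ∨ x 2 ≠ 0 := by
        by_contra hcon
        push Not at hcon
        apply h2
        funext i
        fin_cases i
        · exact hcon.1
        · exact hcon.2.1
        · exact hcon.2.2
      obtain ⟨a0, a1, a2, h4, h5⟩ := key1 _ _ _ h3 hne
      refine ⟨![a0, a1, a2], h4, Or.inr fun y hy => ?_⟩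
      obtain ⟨s, e0, e1, e2⟩ := key2 _ _ _ h3 hne _ _ _ (h y hy) (by simpa only [Pi.add_apply] using h _ (hadd x y h1 hy))
      change a0 * y 0 + a1 * y 2 + a2 * y 1 = 0
      rw [e0, e1, e2]
      linear_combination s * h5
    · push Not at hx
      refine ⟨![1, 0, 0], by decide, Or.inr fun x hxx => ?_⟩
      rw [hx x hxx]
      simp

theorem pol_zero {n : V} (hn : Q n ≠ 0) {x : V} (h : polar q0 n x = 0) : ac (reflIso Q n hn) x = x := by
  rw [ac_reflIso, Qq, h, mul_zero, zero_smul, sub_zero]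

/-- **Stabilisers of subspaces.** -/
theorem subspace (W : Submodule R V) (hW : ∀ w ∈ W, ac Y w ∈ W) : ∃ z : Iso, dt z = 1 ∧ spinorSign (⇑Q) 1 z = 1 ∧
    z * Y = Y * z ∧ z ∉ Subgroup.zpowers Y ∧ ∀ v, v ∈ W ↔ ac z v ∈ W := by
  obtain ⟨a, ha, hX⟩ := exists_n (fun u => mk u 0 ∈ W) (fun x y hx hy => by
    have := W.add_mem hx hy
    rwa [← mk_add, add_zero] at this)
  have hn : Q (mk a 0) ≠ 0 := by
    rw [Qq, q_mk, qE0, add_zero]
    exact ha
  obtain ⟨z, h1, h2, h3, h4, h5⟩ := exists_z hn (Y_u a)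
  have hsplit : ∀ u c, mk u c ∈ W → mk u 0 ∈ W := by
    intro u c h
    have e := nm u c
    have : mk (-u) 0 ∈ W := by
      rw [← e]
      have w1 := hW _ h
      have w2 := hW _ w1
      have w3 := hW _ w2
      have w4 := hW _ w3
      exact W.add_mem (W.add_mem (W.add_mem (W.add_mem h w1) w2) w3) w4
    rw [mk_neg0] at this
    exact (Submodule.neg_mem_iff W).1 this
  have hr : ∀ w ∈ W, ac (reflIso Q (mk a 0) hn) w ∈ W := by
    intro w hw
    rcases hX with hX | hX
    · rw [ac_reflIso]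
      exact W.sub_mem hw (W.smul_mem _ hX)
    · obtain ⟨u, c, rfl⟩ := mk_surj w
      rw [pol_zero hn]
      · exact hw
      · rw [polar_mk, hX u (hsplit u c hw)]
        simp [bE]
  have ht : ∀ w ∈ W, ac tt w ∈ W := by
    intro w hw
    obtain ⟨u, c, rfl⟩ := mk_surj w
    have h6 := hsplit u c hw
    have h7 : ac tt (mk u c) = mk u 0 + mk u 0 - mk u c := by
      rw [t_mk, mk_split u (-c), mk_split u c, neg_mk0, neg_one_smul]
      abel
    rw [h7]
    exact W.sub_mem (W.add_mem h6 h6) hw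
  refine ⟨z, h1, h2, h3, h4, fun v => stab_of z (p := fun v => v ∈ W) (fun w hw => ?_) v⟩
  have hng : ∀ w ∈ W, ac (negIso Q) w ∈ W := fun w hw => by
    rw [ac_negIso]
    exact W.neg_mem hw
  rcases h5 with rfl | rfl
  · rw [ac_mul]
    exact hng _ (hr _ hw)
  · rw [ac_mul, ac_mul]
    exact hng _ (hr _ (ht _ hw))

end Cfsg.Agent.H948.EPX.Om7
end

-- part: H948/EPX/Om7E
section
prune_inst 0x4f4307f244d22120000188582f3001c62be000092004b0800882202440fcadc622903ae60f460091200a018446035004813100030c22000000a000400011b0581108110048158010022000e000002000000000000000000000000000000041000200000000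
set_option linter.all false
open scoped Cfsg.Agent.FastGrp

/-!
# S5745, row `Ω₇(3)`: stabilisers of decompositions into lines (helper948)
-/

set_option autoImplicit false
set_option linter.unusedSectionVars false
set_option maxRecDepth 100000

namespace Cfsg.Agent.H948.EPX.Om7

open QuadraticMap Matrix
open Cfsg.Agent.ClassicalGeometry.Reflection Cfsg.Agent.ClassicalGeometry.SpinorSign
open Cfsg.Agent.LieClassical.OrthCore Cfsg.Agent.LieClassical.OrthForms
open Cfsg.Agent.H932.Spinor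

theorem Y5_ac (x : V) : ac Y (ac Y (ac Y (ac Y (ac Y x)))) = x := by
  rw [← ac_mul, ← ac_mul, ← ac_mul, ← ac_mul]
  have h : Y * Y * Y * Y * Y = Y ^ 5 := by simp only [pow_succ, pow_zero, one_mul]
  rw [h, Y5, ac_one]

/-- a line fixed by `Y` is fixed pointwise -/
theorem line_fixed {L : Submodule R V} (h1 : Module.finrank R L = 1) (hL : ∀ w ∈ L, ac Y w ∈ L) :
    ∀ w ∈ L, ac Y w = w := by
  obtain ⟨⟨v, hv⟩, hv0, hgen⟩ := finrank_eq_one_iff'.1 h1
  obtain ⟨s, hs⟩ := hgen ⟨ac Y v, hL v hv⟩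
  have hs' : ac Y v = s • v := (congrArg Subtype.val hs).symm
  have hvne : v ≠ 0 := fun h => hv0 (Subtype.ext h)
  have h5 := Y5_ac v
  simp only [hs', ac_smul, smul_smul] at h5
  have h6 : s * s * s * s * s - 1 = 0 := by
    have h7 : (s * s * s * s * s - 1) • v = 0 := by
      rw [sub_smul, one_smul, sub_eq_zero]
      nth_rewrite 2 [← h5]
      congr 1
    exact (smul_eq_zero.1 h7).resolve_right hvne
  have key : ∀ s : R, s * s * s * s * s - 1 = 0 → s = 1 := by decide
  have h7 : s = 1 := key s h6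
  intro w hw
  obtain ⟨t, ht⟩ := hgen ⟨w, hw⟩
  have ht' : w = t • v := (congrArg Subtype.val ht).symm
  rw [ht', ac_smul, hs', h7, one_smul]

/-- **Stabilisers of decompositions.** -/
theorem decomp {D : Fin 7 → Submodule R V} (hD : Cfsg.Geo.IsOrthogonalMDecomposition q0 1 D)
    (hY : (Y : Matrix.GeneralLinearGroup I R) ∈ Cfsg.Geo.decompositionStabilizer D) :
    ∃ z : Iso, dt z = 1 ∧ spinorSign (⇑Q) 1 z = 1 ∧ z * Y = Y * z ∧ z ∉ Subgroup.zpowers Y ∧
      (z : Matrix.GeneralLinearGroup I R) ∈ Cfsg.Geo.decompositionStabilizer D := by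
  classical
  obtain ⟨⟨⟨-, -, hfr, hind, -⟩, hnd, hort⟩, hiso⟩ := hD
  obtain ⟨σ, hσ⟩ := hY
  have hne : ∀ i, D i ≠ ⊥ := fun i h => by
    have := hfr i
    rw [h, finrank_bot] at this
    exact absurd this (by norm_num)
  have hinj : Function.Injective D := hind.injective hne
  have hm : ∀ i, ∀ w ∈ D i, ac Y w ∈ D (σ i) := by
    intro i w hw
    rw [← hσ i]
    exact ⟨w, hw, by rw [Matrix.toLin'_apply]⟩
  have hle : ∀ i, D i ≤ D (σ (σ (σ (σ (σ i))))) := by
    intro i w hw
    have := hm _ _ (hm _ _ (hm _ _ (hm _ _ (hm _ _ hw))))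
    rwa [Y5_ac] at this
  have h5 : σ ^ 5 = 1 := by
    ext i
    have h : D i = D (σ (σ (σ (σ (σ i))))) :=
      Submodule.eq_of_le_of_finrank_eq (hle i) (by rw [hfr, hfr])
    have h' := (hinj h).symm
    have e : (σ ^ 5) i = σ (σ (σ (σ (σ i)))) := by
      simp only [pow_succ, pow_zero, one_mul, Equiv.Perm.mul_apply]
    rw [e, h', Equiv.Perm.one_apply]
  obtain ⟨i, j, hij, hi, hj⟩ : ∃ i j : Fin 7, i ≠ j ∧ σ i = i ∧ σ j = j := by
    have : Fact (Nat.Prime 5) := ⟨by norm_num⟩
    let f : Function.End (Fin 7) := ⇑σ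
    have hf : f ^ 5 ^ 1 = 1 := by
      rw [pow_one]
      funext x
      have e : (f ^ 5) x = (σ ^ 5) x := by
        simp only [pow_succ, pow_zero, one_mul, Equiv.Perm.mul_apply]
        rfl
      rw [e, h5]
      rfl
    have h6 := Equiv.Perm.card_fixedPoints_modEq hf
    rw [Fintype.card_fin] at h6
    have h7 : 1 < Fintype.card f.fixedPoints := by
      by_contra hcon
      have h8 : Fintype.card f.fixedPoints = 0 ∨ Fintype.card f.fixedPoints = 1 := by omega
      rcases h8 with h8 | h8 <;> rw [h8] at h6 <;> exact absurd h6 (by decide)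
    obtain ⟨a, b, hab⟩ := Fintype.exists_pair_of_one_lt_card h7
    exact ⟨a.1, b.1, fun h => hab (Subtype.ext h), a.2, b.2⟩
  have hfi : ∀ w ∈ D i, ac Y w = w := line_fixed (hfr i) (fun w hw => by
    have := hm i w hw
    rwa [hi] at this)
  have hfj : ∀ w ∈ D j, ac Y w = w := line_fixed (hfr j) (fun w hw => by
    have := hm j w hw
    rwa [hj] at this)
  obtain ⟨e, he⟩ := hiso i j
  obtain ⟨⟨v, hv⟩, hv0, hgen⟩ := finrank_eq_one_iff'.1 (hfr i)
  have hvne : v ≠ 0 := fun h => hv0 (Subtype.ext h)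
  have hqv : q0 v ≠ 0 := by
    intro h0
    obtain ⟨x, hx, hxv⟩ := (hnd i v hv hvne).2
    obtain ⟨s, hs⟩ := hgen ⟨x, hx⟩
    have hs' : x = s • v := (congrArg Subtype.val hs).symm
    apply hxv
    change polar q0 v x = 0
    rw [hs', ← Qq, QuadraticMap.polar_smul_right, Cfsg.Agent.ClassicalGeometry.Reflection.polar_self', Qq, h0]
    simp
  set v' : V := ((e ⟨v, hv⟩ : D j) : V) with hv'
  have hv'j : v' ∈ D j := (e ⟨v, hv⟩).2
  have hqq : q0 v' = q0 v := he ⟨v, hv⟩
  have hqv' : q0 v' ≠ 0 := by rw [hqq]; exact hqv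
  have hn : Q v ≠ 0 := by rw [Qq]; exact hqv
  have hn' : Q v' ≠ 0 := by rw [Qq]; exact hqv'
  have hvv' : polar q0 v v' = 0 := hort i j hij v hv v' hv'j
  -- reflections
  have hrefl : ∀ (l : Fin 7) (n : V) (hn : Q n ≠ 0), n ∈ D l → ∀ k, ∀ w ∈ D k, ac (reflIso Q n hn) w ∈ D k := by
    intro l n hn hnl k w hw
    by_cases hkl : l = k
    · subst hkl
      rw [ac_reflIso]
      exact (D l).sub_mem hw ((D l).smul_mem _ hnl)
    · rw [pol_zero hn (hort l k hkl n hnl w hw)]
      exact hw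
  refine ⟨reflIso Q v hn * reflIso Q v' hn', ?_, ?_, ?_, ?_, 1, ?_⟩
  · rw [map_mul, dt_refl, dt_refl]
    decide
  · rw [map_mul, spinorSign_reflIso two_ne Q one_ne_zero, spinorSign_reflIso two_ne Q one_ne_zero]
    have e1 : Q v' = Q v := by rw [Qq]; exact hqq
    rw [e1]
    split_ifs <;> decide
  · rw [mul_assoc, comm_refl hn' (hfj _ hv'j), ← mul_assoc, comm_refl hn (hfi _ hv), mul_assoc]
  · intro hmem
    obtain ⟨u, hu⟩ := mem_U_of (hfi v hv)
    have h1 := zpow_fix hmem u
    rw [← hu, ac_mul, pol_zero hn' (by rw [← Qq, QuadraticMap.polar_comm, Qq]; exact hvv'), ac_reflIso, Cfsg.Agent.ClassicalGeometry.Reflection.polar_self',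
      mul_comm 2, ← mul_assoc, inv_mul_cancel₀ hn, one_mul, two_smul] at h1
    have h2 : (2 : R) • v = 0 := by
      rw [two_smul]
      have h3 : v - (v + v) = -v := by abel
      rw [h3] at h1
      nth_rewrite 1 [← h1]
      abel
    rcases smul_eq_zero.1 h2 with h3 | h3
    · exact two_ne h3
    · exact hvne h3
  · intro k
    rw [Equiv.Perm.one_apply]
    have hst : ∀ w, w ∈ D k ↔ ac (reflIso Q v hn * reflIso Q v' hn') w ∈ D k := by
      apply stab_of (p := fun w => w ∈ D k)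
      intro w hw
      rw [ac_mul]
      exact hrefl i v hn hv k _ (hrefl j v' hn' hv'j k w hw)
    apply le_antisymm
    · rintro _ ⟨w, hw, rfl⟩
      rw [Matrix.toLin'_apply]
      exact (hst w).1 hw
    · intro w hw
      refine ⟨ac (reflIso Q v hn * reflIso Q v' hn')⁻¹ w, ?_, ?_⟩
      · change _ ∈ D k
        rw [hst, ← ac_mul, mul_inv_cancel, ac_one]
        exact hw
      · rw [Matrix.toLin'_apply]
        change ac _ (ac _ w) = w
        rw [← ac_mul, mul_inv_cancel, ac_one]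

end Cfsg.Agent.H948.EPX.Om7
end

-- part: H602/EPX/L33
section
set_option linter.all false
open scoped Cfsg.Agent.FastGrp

/-!
# `L₃(3)` (helper602): two facts on `SL₃(3)`

* `exists_comm` : an involution of `SL₃(3)` commutes with an element of order `3`;
* `not_two` : no involution of `L₃(3)` has a `2`-group as centraliser;
* `exists_emb` : `3 ^ 2 ≤ L₃(3)`.
-/

set_option autoImplicit false

namespace Cfsg.Agent.H602.EPX.L33

open Matrix

variable {F : Type*} [Field F] [Fintype F]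

theorem three_eq_zero (hF : Fintype.card F = 3) : (3 : F) = 0 := by
  have h := FiniteField.cast_card_eq_zero F
  rw [hF] at h
  exact_mod_cast h

/-- the centre of `SL₃(3)` is trivial -/
theorem center_eq_bot (hF : Fintype.card F = 3) : Subgroup.center (SpecialLinearGroup (Fin 3) F) = ⊥ := by
  rw [Subgroup.eq_bot_iff_forall]
  intro A hA
  rw [Matrix.SpecialLinearGroup.mem_center_iff] at hA
  obtain ⟨r, hr, hA⟩ := hA
  have h1 : r ^ 3 = r := by
    have := FiniteField.pow_card r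
    rwa [hF] at this
  have h2 : r = 1 := by
    rw [Fintype.card_fin] at hr
    rw [← h1, hr]
  apply Subtype.ext
  rw [← hA, h2]
  simp

omit [Fintype F] in
theorem exists_comm_mat (h3 : (3 : F) = 0) (S : Matrix (Fin 3) (Fin 3) F) (hS : S * S = 1) (hd : S.det = 1)
    (hne : S ≠ 1) : ∃ N : Matrix (Fin 3) (Fin 3) F, N ≠ 0 ∧ N * N = 0 ∧ S * N = N * S ∧ (1 + N).det = 1 := by
  classical
  obtain ⟨A, hA⟩ : ∃ A, A = S - 1 := ⟨_, rfl⟩
  have hSA : S = A + 1 := by rw [hA]; abel
  have hAA : A * A = A := by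
    have e1 : A * A = S * S - S - S + 1 := by rw [hA]; noncomm_ring
    rw [e1, hS, hA]
    ext i j
    simp only [Matrix.add_apply, Matrix.sub_apply]
    linear_combination ((1 : Matrix (Fin 3) (Fin 3) F) i j - S i j) * h3
  have hA0 : A ≠ 0 := fun h => hne (by rw [hSA, h, zero_add])
  obtain ⟨i0, j, hij⟩ : ∃ i j, A i j ≠ 0 := by
    by_contra hcon
    push Not at hcon
    exact hA0 (by ext i j; exact hcon i j)
  obtain ⟨v, hv⟩ : ∃ v : Fin 3 → F, v = fun i => A i j := ⟨_, rfl⟩
  have hvi : v i0 ≠ 0 := by rw [hv]; exact hij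
  have hAv : ∀ i, ∑ k, A i k * v k = v i := by
    intro i
    have := congrFun (congrFun hAA i) j
    rw [Matrix.mul_apply] at this
    rw [hv]
    exact this
  by_cases hc : ∃ i k, v i0 * A i k - v i * A i0 k ≠ 0
  · obtain ⟨i, k0, hik⟩ := hc
    obtain ⟨φ, hφ⟩ : ∃ φ : Fin 3 → F, φ = fun k => v i0 * A i k - v i * A i0 k := ⟨_, rfl⟩
    have hφv : ∑ k, φ k * v k = 0 := by
      have e1 : ∑ k, φ k * v k = v i0 * ∑ k, A i k * v k - v i * ∑ k, A i0 k * v k := by
        rw [Finset.mul_sum, Finset.mul_sum, ← Finset.sum_sub_distrib]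
        apply Finset.sum_congr rfl
        intro k _
        rw [hφ]
        ring
      rw [e1, hAv, hAv]
      ring
    have hφA : ∀ k, ∑ l, φ l * A l k = φ k := by
      intro k
      have e1 : ∑ l, φ l * A l k = v i0 * ∑ l, A i l * A l k - v i * ∑ l, A i0 l * A l k := by
        rw [Finset.mul_sum, Finset.mul_sum, ← Finset.sum_sub_distrib]
        apply Finset.sum_congr rfl
        intro l _
        rw [hφ]
        ring
      rw [e1, ← Matrix.mul_apply, ← Matrix.mul_apply, hAA, hφ]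
    refine ⟨Matrix.of fun a b => v a * φ b, ?_, ?_, ?_, ?_⟩
    · intro h0
      have := congrFun (congrFun h0 i0) k0
      rw [Matrix.of_apply, Matrix.zero_apply, mul_eq_zero] at this
      rcases this with h | h
      · exact hvi h
      · rw [hφ] at h
        exact hik h
    · ext a b
      rw [Matrix.mul_apply, Matrix.zero_apply]
      have e1 : ∑ k, Matrix.of (fun a b => v a * φ b) a k * Matrix.of (fun a b => v a * φ b) k b =
          v a * (∑ k, φ k * v k) * φ b := by
        rw [Finset.mul_sum, Finset.sum_mul]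
        apply Finset.sum_congr rfl
        intro k _
        simp only [Matrix.of_apply]
        ring
      rw [e1, hφv]
      ring
    · rw [hSA, add_mul, mul_add, one_mul, mul_one]
      congr 1
      ext a b
      rw [Matrix.mul_apply, Matrix.mul_apply]
      have e1 : ∑ k, A a k * Matrix.of (fun a b => v a * φ b) k b = (∑ k, A a k * v k) * φ b := by
        rw [Finset.sum_mul]
        apply Finset.sum_congr rfl
        intro k _
        simp only [Matrix.of_apply]
        ring
      have e2 : ∑ k, Matrix.of (fun a b => v a * φ b) a k * A k b = v a * ∑ k, φ k * A k b := by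
        rw [Finset.mul_sum]
        apply Finset.sum_congr rfl
        intro k _
        simp only [Matrix.of_apply]
        ring
      rw [e1, e2, hAv, hφA]
    · rw [Matrix.det_fin_three]
      simp only [Fin.sum_univ_three] at hφv
      simp
      linear_combination hφv
  · exfalso
    push Not at hc
    have h1 : ∀ i k, A i k = v i * (A i0 k / v i0) := by
      intro i k
      field_simp
      linear_combination hc i k
    obtain ⟨ψ, hψ⟩ : ∃ ψ : Fin 3 → F, ψ = fun k => A i0 k / v i0 := ⟨_, rfl⟩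
    have h2 : ∀ i k, A i k = v i * ψ k := by
      intro i k
      rw [hψ]
      exact h1 i k
    have h3' : ∑ k, ψ k * v k = 0 := by
      have e1 : S.det = 1 + ∑ k, ψ k * v k := by
        rw [hSA, Matrix.det_fin_three]
        simp only [Matrix.add_apply, h2, Fin.sum_univ_three]
        simp
        ring
      rw [hd] at e1
      linear_combination -e1
    have h4 := hAv i0
    have h5 : ∑ k, A i0 k * v k = v i0 * ∑ k, ψ k * v k := by
      rw [Finset.mul_sum]
      apply Finset.sum_congr rfl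
      intro k _
      rw [h2]
      ring
    rw [h5, h3', mul_zero] at h4
    exact hvi h4.symm

/-- an involution of `SL₃(3)` commutes with an element of order `3` -/
theorem exists_comm (hF : Fintype.card F = 3) (s : SpecialLinearGroup (Fin 3) F) (hs : s * s = 1) (h1 : s ≠ 1) :
    ∃ τ : SpecialLinearGroup (Fin 3) F, τ ≠ 1 ∧ τ ^ 3 = 1 ∧ s * τ = τ * s := by
  have h3 := three_eq_zero hF
  obtain ⟨N, hN0, hNN, hSN, hdet⟩ := exists_comm_mat h3 s.1 (congrArg Subtype.val hs) s.2
    (fun h => h1 (Subtype.ext h))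
  obtain ⟨τ, hτ⟩ : ∃ τ : SpecialLinearGroup (Fin 3) F, τ.1 = 1 + N := ⟨⟨1 + N, hdet⟩, rfl⟩
  refine ⟨τ, ?_, ?_, ?_⟩
  · intro h
    rw [h] at hτ
    apply hN0
    have h4 : (1 : Matrix (Fin 3) (Fin 3) F) = 1 + N := hτ
    exact (left_eq_add.1 h4)
  · apply Subtype.ext
    have e1 : (1 + N) ^ 3 = 1 + (N + N + N) + (N * N + N * N + N * N) + N * N * N := by noncomm_ring
    have e2 : N + N + N = 0 := by
      ext i j
      simp only [Matrix.add_apply, Matrix.zero_apply]
      linear_combination N i j * h3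
    have e3 : (τ ^ 3).1 = τ.1 ^ 3 := Matrix.SpecialLinearGroup.coe_pow τ 3
    rw [e3, hτ, e1, e2, hNN]
    simp
  · apply Subtype.ext
    have e3 : (s * τ).1 = s.1 * τ.1 := Matrix.SpecialLinearGroup.coe_mul s τ
    have e4 : (τ * s).1 = τ.1 * s.1 := Matrix.SpecialLinearGroup.coe_mul τ s
    rw [e3, e4, hτ, mul_add, add_mul, mul_one, one_mul, hSN]

/-- the quotient map `SL₃(3) → L₃(3)` is injective -/
theorem mk_injective (hF : Fintype.card F = 3) :
    Function.Injective (QuotientGroup.mk' (Subgroup.center (SpecialLinearGroup (Fin 3) F))) := by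
  rw [← MonoidHom.ker_eq_bot_iff, QuotientGroup.ker_mk', center_eq_bot hF]

variable {T : Type*} [Group T]

/-- no involution of `L₃(3)` has a `2`-group as centraliser -/
theorem not_two (hF : Fintype.card F = 3) (e : T ≃* ProjectiveSpecialLinearGroup (Fin 3) F) (t : T)
    (ht : orderOf t = 2) : ¬ IsPGroup 2 (Subgroup.centralizer {t} : Subgroup T) := by
  intro hP
  have hinj := mk_injective hF
  obtain ⟨s, hs⟩ := QuotientGroup.mk'_surjective (Subgroup.center (SpecialLinearGroup (Fin 3) F)) (e t)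
  have ht2 : t * t = 1 := by rw [← pow_two, ← ht, pow_orderOf_eq_one]
  have ht1 : t ≠ 1 := by
    intro h
    rw [h, orderOf_one] at ht
    norm_num at ht
  have h1 : s * s = 1 := by
    apply hinj
    rw [map_mul, hs, map_one, ← map_mul, ht2, map_one]
  have h2 : s ≠ 1 := by
    intro h
    apply ht1
    apply e.injective
    rw [← hs, h, map_one, map_one]
  obtain ⟨τ, hτ1, hτ3, hτc⟩ := exists_comm hF s h1 h2
  obtain ⟨y, hy⟩ : ∃ y : T, e y = QuotientGroup.mk' _ τ := e.surjective _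
  have hyc : y ∈ Subgroup.centralizer {t} := by
    rw [Subgroup.mem_centralizer_singleton_iff]
    apply e.injective
    rw [map_mul, map_mul, hy, ← hs, ← map_mul, ← map_mul, hτc]
  have hy3 : y ^ 3 = 1 := by
    apply e.injective
    rw [map_pow, hy, ← map_pow, hτ3, map_one, map_one]
  have hy1 : y ≠ 1 := by
    intro h
    apply hτ1
    apply hinj
    rw [← hy, h, map_one, map_one]
  obtain ⟨k, hk⟩ := hP ⟨y, hyc⟩
  have hk' : y ^ 2 ^ k = 1 := congrArg Subtype.val hk
  have h5 : orderOf y = 3 := orderOf_eq_prime hy3 hy1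
  have h6 : 3 ∣ 2 ^ k := by rw [← h5]; exact orderOf_dvd_of_pow_eq_one hk'
  have h7 := Nat.prime_three.dvd_of_dvd_pow h6
  norm_num at h7

/-- the element `1 + x E₁₂ + y E₁₃` -/
def el (F : Type*) [Field F] (x y : F) : SpecialLinearGroup (Fin 3) F :=
  ⟨!![1, x, y; 0, 1, 0; 0, 0, 1], by rw [Matrix.det_fin_three]; simp⟩

theorem el_val (F : Type*) [Field F] (x y : F) : (el F x y).1 = !![1, x, y; 0, 1, 0; 0, 0, 1] := rfl

theorem el_mul (F : Type*) [Field F] (x y x' y' : F) : el F x y * el F x' y' = el F (x + x') (y + y') := by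
  apply Subtype.ext
  have e3 : (el F x y * el F x' y').1 = (el F x y).1 * (el F x' y').1 := Matrix.SpecialLinearGroup.coe_mul _ _
  rw [e3, el_val, el_val, el_val]
  ext i j
  fin_cases i <;> fin_cases j <;> simp [Matrix.mul_apply, Fin.sum_univ_three, add_comm]

theorem el_zero (F : Type*) [Field F] : el F 0 0 = 1 := by
  apply Subtype.ext
  rw [el_val]
  ext i j
  fin_cases i <;> fin_cases j <;> simp

/-- the elementary abelian subgroup `3 ^ 2` -/
def toSL (F : Type*) [Field F] : Multiplicative (F × F) →* SpecialLinearGroup (Fin 3) F where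
  toFun a := el F (Multiplicative.toAdd a).1 (Multiplicative.toAdd a).2
  map_one' := el_zero F
  map_mul' a b := (el_mul F _ _ _ _).symm

theorem toSL_injective (F : Type*) [Field F] : Function.Injective (toSL F) := by
  intro a b h
  have h1 : (el F (Multiplicative.toAdd a).1 (Multiplicative.toAdd a).2).1 =
    (el F (Multiplicative.toAdd b).1 (Multiplicative.toAdd b).2).1 := congrArg Subtype.val h
  rw [el_val, el_val] at h1
  have h2 := congrFun (congrFun h1 0) 1
  have h3 := congrFun (congrFun h1 0) 2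
  have h4 : (Multiplicative.toAdd a).1 = (Multiplicative.toAdd b).1 := by simpa using h2
  have h5 : (Multiplicative.toAdd a).2 = (Multiplicative.toAdd b).2 := by simpa using h3
  exact Multiplicative.toAdd.injective (Prod.ext h4 h5)

/-- `3 ^ 2 ≤ L₃(3)` -/
theorem exists_emb {F : Type} [Field F] [Fintype F] (hF : Fintype.card F = 3)
    (e : T ≃* ProjectiveSpecialLinearGroup (Fin 3) F) :
    ∃ (E : Type) (_ : Group E) (f : E →* T), Nat.card E = 9 ∧ (∀ x : E, x ^ 3 = 1) ∧ Function.Injective f := by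
  refine ⟨Multiplicative (F × F), inferInstance,
    e.symm.toMonoidHom.comp ((QuotientGroup.mk' _).comp (toSL F)), ?_, ?_, ?_⟩
  · rw [Nat.card_congr Multiplicative.toAdd, Nat.card_prod, Nat.card_eq_fintype_card, hF]
  · intro x
    apply Multiplicative.toAdd.injective
    have h3 := three_eq_zero hF
    rw [toAdd_pow, toAdd_one]
    have h4 : ∀ c : F, 3 • c = 0 := by
      intro c
      rw [nsmul_eq_mul]
      push_cast
      rw [h3, zero_mul]
    exact Prod.ext (h4 _) (h4 _)
  · exact e.symm.injective.comp ((mk_injective hF).comp (toSL_injective F))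

end Cfsg.Agent.H602.EPX.L33
end

-- part: H548/EPX/SpSixChk
section
set_option linter.all false
open scoped Cfsg.Agent.FastGrp

/-!
# `Sp₆(2)`: centralizers of elements of order 3, 5, 7 (kernel data; helper548, for S5745)

`unp k N` : the `k` digits of `N` in base `2 ^ 36`; each digit is the code of an isometry commuting with the representative.
-/

set_option autoImplicit false
set_option maxRecDepth 100000

namespace Cfsg.Agent.H548.EPX.SpSix

open Cfsg.Agent.H612.Ore

/-- digits in base `2 ^ 36` -/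
def unp : ℕ → ℕ → List ℕ
  | 0, _ => []
  | k + 1, N => Nat.mod N 68719476736 :: unp k (Nat.div N 68719476736)

theorem length_unp (k N : ℕ) : (unp k N).length = k := by
  induction k generalizing N with
  | zero => rfl
  | succ k ih => rw [unp, List.length_cons, ih]

/-- the code from its columns -/
def rc (d : ℕ) : ℕ := col 6 d 0 + 64 * (col 6 d 1 + 64 * (col 6 d 2 + 64 * (col 6 d 3 + 64 * (col 6 d 4 + 64 * col 6 d 5))))

/-- `d` is the code of an isometry which commutes with `c` -/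
def okc (c d : ℕ) : Bool :=
  isom 6 B6 (fun _ => false) d && Nat.beq (rc d) d &&
    (List.range 6).all fun i => Nat.beq (apc 6 d (col 6 c i)) (apc 6 c (col 6 d i))

/-- an increasing list of such codes, all of them `> p` and `≤ q` -/
def chkL (c q : ℕ) : ℕ → List ℕ → Bool
  | p, [] => Nat.ble p q
  | p, d :: L => Nat.blt p d && okc c d && chkL c q d L

/-- order 3, centralizer of order 2160, part 0 -/
def nA0 : ℕ := 0x116070409116070189116066509116066089116062509116062089114276488114276188114272488114272188114266588114266088114262588114262088114236481114236181114232481114232181114226581114226081114222581114222081114076489114076189114072489114072189114066589114066089114062589114062089112276508112276188112272508112272188112264408112264088112260408112260088112236501112236181112232501112232181112224401112224081112220401112220081112076509112076189112072509112072189112064409112064089112060409112060089110274588110274188110270588110270188110264488110264088110260488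1102600881102345811102341811102305811102301811102244811102240811102204811102200811100745891100741891100705891100701891100644891100640891100604891100600891062765081062764881062745881062744081062725081062724881062705881062704081062365011062364811062345811062344011062325011062324811062305811062304011060765091060764891060745891060744091060725091060724891060705891060704091022665881022665081022644881022644081022625881022625081022604881022604081022265811022265011022244811022244011022225811022225011022204811022204011020665891020665091020644891020644091020625891020625091020604891020604090a62728080a62721880a62708080a62701880a62568880a62561080a62548880a62541080a62328010a62321810a62308010a62301810a62168810a62161010a62148810a62141010a60728090a60721890a60708090a60701890a60568890a60561090a60548890a60541090a42768880a42761880a42748880a42741880a42528080a42521080a42508080a42501080a42368810a42361810a42348810a42341810a42128010a42121010a42108010a42101010a40768890a40761890a40748890a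40741890a40528090a40521090a40508090a40501090a22769080a22761880a22749080a22741880a22569880a22561080a22549880a22541080a22369010a22361810a22349010a22341810a22169810a22161010a22149810a22141010a20769090a20761890a20749090a20741890a20569890a20561090a20549890a20541090a02729880a02721880a02709880a02701880a02529080a02521080a02509080a02501080a02329810a02321810a02309810a02301810a02129010a02121010a02109010a02101010a00729890a00721890a00709890a00701890a00529090a00521090a00509090a0050109086276908086276888086274908086274888086272988086272808086270988086270808086236901086236881086234901086234881086232981086232801086230981086230801086076909086076889086074909086074889086072989086072809086070989086070809084256988084256888084254988084254888084252908084252808084250908084250808084216981084216881084214981084214881084212901084212801084210901084210801084056989084056889084054989084054889084052909084052809084050909084050809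

/-- order 3, centralizer of order 2160, part 1 -/
def nA1 : ℕ := 0x430216d01430216101430206d01430206101430076909430076509430066909430066509430056d09430056109430046d09430046109424276c08424276508424266c08424266508424252808424252108424242808424242108424236c01424236501424226c01424226501424212801424212101424202801424202101424076c09424076509424066c09424066509424052809424052109424042809424042109420272d08420272508420262d08420262508420252908420252108420242908420242108420232d01420232501420222d01420222501420212901420212101420202901420202101420072d09420072509420062d09420062509420052909420052109420042909420042109414276c08414276908414272d08414272808414266c08414266908414262d08414262808414236c01414236901414232d01414232801414226c01414226901414222d01414222801414076c09414076909414072d09414072809414066c09414066909414062d09414062809404256d08404256c08404252908404252808404246d08404246c08404242908404242808404216d01404216c01404212901404212801404206d01404206c0140420290140420280140405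6d09404056c09404052909404052809404046d09404046c094040429094040428091b6264d081b62640881b6262d081b62620881b6254c881b62541081b6252c881b62521081b6224d011b62240811b6222d011b62220811b6214c811b62141011b6212c811b62121011b6064d091b60640891b6062d091b60620891b6054c891b60541091b6052c891b60521091b4264d881b42640881b4262d881b42620881b4256c081b42561081b4250c081b42501081b4224d811b42240811b4222d811b42220811b4216c011b42161011b4210c011b42101011b4064d891b40640891b4062d891b40620891b4056c091b40561091b4050c091b40501091b2266c081b22660881b2260c081b22600881b2254d881b22541081b2252d881b22521081b2226c011b22260811b2220c011b22200811b2214d811b22141011b2212d811b22121011b2066c091b20660891b2060c091b20600891b2054d891b20541091b2052d891b20521091b0266c881b02660881b0260c881b02600881b0256d081b02561081b0250d081b02501081b0226c811b02260811b0220c811b02200811b0216d011b02161011b0210d011b02101011b0066c891b00660891b0060c891b00600891b0056d091b00561091b0050d091b0050109184256d08184256c08184254d88184254c88184252d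88184252c88184250d08184250c08184216d01184216c01184214d81184214c81184212d81184212c81184210d01184210c01184056d09184056c09184054d89184054c89184052d89184052c89184050d09184050c09182266c88182266c08182264d88182264d08182262d88182262d08182260c88182260c08182226c81182226c01182224d81182224d01182222d81182222d01182220c81182220c01182066c89182066c09182064d89182064d09182062d89182062d09182060c89182060c09116274408116274188116270408116270188116266508116266088116262508116262088116234401116234181116230401116230181116226501116226081116222501116222081116074409116074189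

/-- order 3, centralizer of order 2160, part 2 -/
def nA2 : ℕ := 0x526242888526242108526230d81526230401526224d81526224401526216881526216101526202881526202101526070d89526070409526064d89526064409526056889526056109526042889526042109522274c88522274408522260c88522260408522256988522256108522242988522242108522234c81522234401522220c81522220401522216981522216101522202981522202101522074c89522074409522060c89522060409522056989522056109522042989522042109510274c88510274888510270d88510270988510264d88510264988510260c88510260888510234c81510234881510230d81510230981510224d81510224981510220c81510220881510074c89510074889510070d89510070989510064d89510064989510060c89510060889504256988504256888504252d88504252c88504246d88504246c88504242988504242888504216981504216881504212d81504212c81504206d81504206c81504202981504202881504056989504056889504052d89504052c89504046d89504046c895040429895040428894b62708084b62705884b62628084b62625884b6254c884b62541084b6246c884b62461084b62308014b62305814b622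28014b62225814b6214c814b62141014b6206c814b62061014b60708094b60705894b60628094b60625894b6054c894b60541094b6046c894b60461094b22749084b22745884b22669084b22665884b2254d884b22541084b2246d884b22461084b22349014b22345814b22269014b22265814b2214d814b22141014b2206d814b22061014b20749094b20745894b20669094b20665894b2054d894b20541094b2046d894b20461094a4274c884a42745884a4266c884a42665884a42508084a42501084a42428084a42421084a4234c814a42345814a4226c814a42265814a42108014a42101014a42028014a42021014a4074c894a40745894a4066c894a40665894a40508094a40501094a40428094a40421094a0270d884a02705884a0262d884a02625884a02509084a02501084a02429084a02421084a0230d814a02305814a0222d814a02225814a02109014a02101014a02029014a02021014a0070d894a00705894a0062d894a00625894a00509094a00501094a00429094a0042109496274c88496274908496270d88496270808496266c88496266908496262d88496262808496234c81496234901496230d81496230801496226c81496226901496222d81496222801496074c89496074909496070d89496070809496066c89496066909496062d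89496062809484254d88484254c88484250908484250808484246d88484246c88484242908484242808484214d81484214c81484210901484210801484206d81484206c81484202901484202801484054d89484054c89484050909484050809484046d89484046c89484042909484042809434272808434272508434262808434262508434256c08434256108434246c08434246108434232801434232501434222801434222501434216c01434216101434206c01434206101434072809434072509434062809434062509434056c09434056109434046c09434046109430276908430276508430266908430266508430256d08430256108430246d08430246108430236901430236501430226901430226501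

/-- order 3, centralizer of order 2160, part 3 -/
def nA3 : ℕ := 0x812276c08812276888812264408812264088812256c08812256888812244408812244088812236c01812236881812224401812224081812216c01812216881812204401812204081812076c09812076889812064409812064089812056c09812056889812044409812044089810274c88810274888810264488810264088810254c88810254888810244488810244088810234c81810234881810224481810224081810214c81810214881810204481810204081810074c89810074889810064489810064089810054c89810054889810044489810044089802266c88802266c08802264488802264408802246c88802246c08802244488802244408802226c81802226c01802224481802224401802206c81802206c01802204481802204401802066c89802066c09802064489802064409802046c89802046c098020444898020444095b42729885b42724885b42649885b42644885b4250c085b42501085b4246c085b42461085b42329815b42324815b42249815b42244815b4210c015b42101015b4206c015b42061015b40729895b40724895b40649895b40644895b4050c095b40501095b4046c095b40461095b02768885b02764885b02608885b02604885b025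0d085b02501085b0246d085b02461085b02368815b02364815b02208815b02204815b0210d015b02101015b0206d015b02061015b00768895b00764895b00608895b00604895b0050d095b00501095b0046d095b00461095a6272d085a62724885a6264d085a62644885a62548885a62541085a62428885a62421085a6232d015a62324815a6224d015a62244815a62148815a62141015a62028815a62021015a6072d095a60724895a6064d095a60644895a60548895a60541095a60428895a60421095a2276c085a22764885a2260c085a22604885a22549885a22541085a22429885a22421085a2236c015a22364815a2220c015a22204815a22149815a22141015a22029815a22021015a2076c095a20764895a2060c095a20604895a20549895a20541095a20429895a2042109592276c08592276888592272d08592272988592264d08592264988592260c08592260888592236c01592236881592232d01592232981592224d01592224981592220c01592220881592076c09592076889592072d09592072989592064d09592064989592060c09592060889584254988584254888584250d08584250c08584246d08584246c08584242988584242888584214981584214881584210d01584210c01584206d01584206c015842029815842028815840549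89584054889584050d09584050c09584046d09584046c09584042989584042889536270988536270408536264988536264408536252c88536252108536246c88536246108536230981536230401536224981536224401536212c81536212101536206c81536206101536070989536070409536064989536064409536052c89536052109536046c89536046109532274888532274408532260888532260408532252d88532252108532246d88532246108532234881532234401532220881532220401532212d81532212101532206d81532206101532074889532074409532060889532060409532052d89532052109532046d89532046109526270d88526270408526264d88526264408526256888526256108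

/-- order 3, centralizer of order 2160, part 4 -/
def nA4 : ℕ := 0x912060409912060089912056d09912056989912044409912044089910270d88910270988910260488910260088910254d88910254988910244488910244088910230d81910230981910220481910220081910214d81910214981910204481910204081910070d89910070989910060489910060089910054d89910054989910044489910044089902262d88902262d08902260488902260408902246d88902246d08902244488902244408902222d81902222d01902220481902220401902206d81902206d01902204481902204401902062d89902062d09902060489902060409902046d89902046d099020444899020444098b62708088b62705888b6264d088b62640888b62528088b62525888b6246d088b62460888b62308018b62305818b6224d018b62240818b62128018b62125818b6206d018b62060818b60708098b60705898b6064d098b60640898b60528098b60525898b6046d098b60460898b42728088b42725088b4264d888b42640888b42508088b42505088b4246d888b42460888b42328018b42325018b4224d818b42240818b42108018b42105018b4206d818b42060818b40728098b40725098b4064d898b40640898b40508098b40505098b404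6d898b40460898a0272d088a02725088a0270d888a02705888a0252d888a02525888a0250d088a02505088a0232d018a02325018a0230d818a02305818a0212d818a02125818a0210d018a02105018a0072d098a00725098a0070d898a00705898a0052d898a00525898a0050d098a0050509896270d88896270808896266508896266088896252d88896252808896244508896244088896230d81896230801896226501896226081896212d81896212801896204501896204081896070d89896070809896066509896066089896052d89896052809896044509896044089894272d08894272808894266588894266088894250d08894250808894244588894244088894232d01894232801894226581894226081894210d01894210801894204581894204081894072d09894072809894066589894066089894050d09894050809894044589894044089882266588882266508882264d88882264d08882246d88882246d08882244588882244508882226581882226501882224d81882224d01882206d81882206d01882204581882204501882066589882066509882064d89882064d09882046d89882046d09882044589882044509832274888832274408832266c08832266088832254888832254408832246c08832246088832234881832234401832226c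01832226081832214881832214401832206c01832206081832074889832074409832066c09832066089832054889832054409832046c09832046089830276888830276488830266c88830266088830256888830256488830246c88830246088830236881830236481830226c81830226081830216881830216481830206c81830206081830076889830076489830066c89830066089830056889830056489830046c89830046089822276c08822276488822274c88822274408822256c08822256488822254c88822254408822236c01822236481822234c81822234401822216c01822216481822214c81822214401822076c09822076489822074c89822074409822056c09822056489822054c89822054409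

/-- order 3, centralizer of order 2160, part 5 -/
def nA5 : ℕ := 0xc10214d81c10214981c10204581c10204181c10074589c10074189c10064d89c10064989c10054d89c10054989c10044589c10044189c06274588c06274408c06272988c06272808c06244588c06244408c06242988c06242808c06234581c06234401c06232981c06232801c06204581c06204401c06202981c06202801c06074589c06074409c06072989c06072809c06044589c06044409c06042989c060428099b22749089b22745889b2260c089b22600889b22529089b22525889b2246c089b22460889b22349019b22345819b2220c019b22200819b22129019b22125819b2206c019b22060819b20749099b20745899b2060c099b20600899b20529099b20525899b2046c099b20460899b02769089b02765089b0260c889b02600889b02509089b02505089b0246c889b02460889b02369019b02365019b0220c819b02200819b02109019b02105019b0206c819b02060819b00769099b00765099b0060c899b00600899b00509099b00505099b0046c899b00460899a4276c089a42765089a4274c889a42745889a4252c889a42525889a4250c089a42505089a4236c019a42365019a4234c819a42345819a4212c819a42125819a4210c019a42105019a407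6c099a40765099a4074c899a40745899a4052c899a40525899a4050c099a4050509996274c88996274908996262508996262088996252c88996252908996244508996244088996234c81996234901996222501996222081996212c81996212901996204501996204081996074c89996074909996062509996062089996052c89996052909996044509996044089994276c08994276908994262588994262088994250c08994250908994244588994244088994236c01994236901994222581994222081994210c01994210901994204581994204081994076c09994076909994062589994062089994050c09994050909994044589994044089982262588982262508982260c88982260c08982246c88982246c08982244588982244508982222581982222501982220c81982220c01982206c81982206c01982204581982204501982062589982062509982060c89982060c09982046c89982046c09982044589982044509936270988936270408936262d08936262088936254988936254408936246d08936246088936230981936230401936222d01936222081936214981936214401936206d01936206081936070989936070409936062d09936062089936054989936054409936046d09936046089934272988934272488934262d889342620889342569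88934256488934246d88934246088934232981934232481934222d81934222081934216981934216481934206d81934206081934072989934072489934062d89934062089934056989934056489934046d89934046089926272d08926272488926270d88926270408926256d08926256488926254d88926254408926232d01926232481926230d81926230401926216d01926216481926214d81926214401926072d09926072489926070d89926070409926056d09926056489926054d89926054409912272d08912272988912260408912260088912256d08912256988912244408912244088912232d01912232981912220401912220081912216d01912216981912204401912204081912072d09912072989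

/-- order 3, centralizer of order 2160, part 6 -/
def nA6 : ℕ := 0xd06242908d06242888d06236901d06236881d06230581d06230401d06204581d06204401d06202901d06202881d06076909d06076889d06070589d06070409d06044589d06044409d06042909d06042889cb4264988cb4264488cb4262808cb4262508cb4256988cb4256488cb4250808cb4250508cb4224981cb4224481cb4222801cb4222501cb4216981cb4216481cb4210801cb4210501cb4064989cb4064489cb4062809cb4062509cb4056989cb4056489cb4050809cb4050509ca6270808ca6270188ca6264d08ca6264488ca6256d08ca6256488ca6242808ca6242188ca6230801ca6230181ca6224d01ca6224481ca6216d01ca6216481ca6202801ca6202181ca6070809ca6070189ca6064d09ca6064489ca6056d09ca6056489ca6042809ca6042189ca0270988ca0270188ca0262d08ca0262508ca0250d08ca0250508ca0242988ca0242188ca0230981ca0230181ca0222d01ca0222501ca0210d01ca0210501ca0202981ca0202181ca0070989ca0070189ca0062d09ca0062509ca0050d09ca0050509ca0042989ca0042189c94276488c94276188c94262d08c94262808c94250d08c94250808c94244488c94244188c94236481c94236181c9422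2d01c94222801c94210d01c94210801c94204481c94204181c94076489c94076189c94062d09c94062809c94050d09c94050809c94044489c94044189c92276508c92276188c92264d08c92264988c92256d08c92256988c92244508c92244188c92236501c92236181c92224d01c92224981c92216d01c92216981c92204501c92204181c92076509c92076189c92064d09c92064989c92056d09c92056989c92044509c92044189c86276508c86276488c86270988c86270808c86244508c86244488c86242988c86242808c86236501c86236481c86230981c86230801c86204501c86204481c86202981c86202801c86076509c86076489c86070989c86070809c86044509c86044489c86042989c86042809c36264988c36264408c36262808c36262588c36254988c36254408c36252808c36252588c36224981c36224401c36222801c36222581c36214981c36214401c36212801c36212581c36064989c36064409c36062809c36062589c36054989c36054409c36052809c36052589c26272808c26272188c26264d88c26264408c26254d88c26254408c26242808c26242188c26232801c26232181c26224d81c26224401c26214d81c26214401c26202801c26202181c26072809c26072189c26064d89c26064409c26054d89c26054409c260428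09c26042189c20272988c20272188c20262d88c20262588c20252d88c20252588c20242988c20242188c20232981c20232181c20222d81c20222581c20212d81c20212581c20202981c20202181c20072989c20072189c20062d89c20062589c20052d89c20052589c20042989c20042189c16274408c16274188c16262d88c16262808c16252d88c16252808c16244408c16244188c16234401c16234181c16222d81c16222801c16212d81c16212801c16204401c16204181c16074409c16074189c16062d89c16062809c16052d89c16052809c16044409c16044189c10274588c10274188c10264d88c10264988c10254d88c10254988c10244588c10244188c10234581c10234181c10224d81c10224981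

/-- order 3, centralizer of order 2160, part 7 -/
def nA7 : ℕ := 0xdb0266908db0266508db0260888db0260488db0256888db0256488db0250908db0250508db0226901db0226501db0220881db0220481db0216881db0216481db0210901db0210501db0066909db0066509db0060889db0060489db0056889db0056489db0050909db0050509da4274888da4274188da4266c08da4266508da4250c08da4250508da4242888da4242188da4234881da4234181da4226c01da4226501da4210c01da4210501da4202881da4202181da4074889da4074189da4066c09da4066509da4050c09da4050509da4042889da4042189da2274908da2274188da2260c08da2260488da2256c08da2256488da2242908da2242188da2234901da2234181da2220c01da2220481da2216c01da2216481da2202901da2202181da2074909da2074189da2060c09da2060489da2056c09da2056489da2042909da2042189d94272488d94272188d94266c08d94266908d94250c08d94250908d94244488d94244188d94232481d94232181d94226c01d94226901d94210c01d94210901d94204481d94204181d94072489d94072189d94066c09d94066909d94050c09d94050909d94044489d94044189d92272508d92272188d92260c08d92260888d9225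6c08d92256888d92244508d92244188d92232501d92232181d92220c01d92220881d92216c01d92216881d92204501d92204181d92072509d92072189d92060c09d92060889d92056c09d92056889d92044509d92044189d86274908d86274888d86272508d86272488d86244508d86244488d86242908d86242888d86234901d86234881d86232501d86232481d86204501d86204481d86202901d86202881d86074909d86074889d86072509d86072489d86044509d86044489d86042909d86042889d32266908d32266588d32260888d32260408d32254888d32254408d32252908d32252588d32226901d32226581d32220881d32220401d32214881d32214401d32212901d32212581d32066909d32066589d32060889d32060409d32054889d32054409d32052909d32052589d24276888d24276188d24266c88d24266588d24252c88d24252588d24242888d24242188d24236881d24236181d24226c81d24226581d24212c81d24212581d24202881d24202181d24076889d24076189d24066c89d24066589d24052c89d24052589d24042889d24042189d22276908d22276188d22260c88d22260408d22254c88d22254408d22242908d22242188d22236901d22236181d22220c81d22220401d22214c81d22214401d22202901d22202181d220769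09d22076189d22060c89d22060409d22054c89d22054409d22042909d22042189d16270408d16270188d16266c88d16266908d16252c88d16252908d16244408d16244188d16230401d16230181d16226c81d16226901d16212c81d16212901d16204401d16204181d16070409d16070189d16066c89d16066909d16052c89d16052909d16044409d16044189d10270588d10270188d10260c88d10260888d10254c88d10254888d10244588d10244188d10230581d10230181d10220c81d10220881d10214c81d10214881d10204581d10204181d10070589d10070189d10060c89d10060889d10054c89d10054889d10044589d10044189d06276908d06276888d06270588d06270408d06244588d06244408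

/-- order 3, centralizer of order 108, part 0 -/
def nC0 : ℕ := 0xd32252908d32252588d32212901d32212581d32052909d32052589d22242908d22242188d22202901d22202181d22042909d22042189d10270588d10270188d10230581d10230181d10070589d10070189832266c08832266088832226c01832226081832066c09832066089822276c08822276488822236c01822236481822076c09822076489810244488810244088810204481810204081810044489810044089532246d88532246108532206d81532206101532046d89532046109522256988522256108522216981522216101522056989522056109510264d88510264988510224d81510224981510064d89510064989272d3aae0272d3a66027283aad427283a65427253aaf427253a674262d2aee0262d2a66026282aed426282a65426252aef426252a674250d18ee0250d18ae0250818ed4250818ad4250518ef4250518af4232d33aa0232d33620232833a94232833614232533ab4232533634222d23ea0222d23620222823e94222823614222523eb4222523634210d11ea0210d11aa0210811e94210811a94210511eb4210511ab4072d3b8e0072d3b46007283b8d407283b45407253b8f407253b474062d2bce0062d2b46006282bcd406282b45406252bcf406252b474050d19ce0050d198e0050819cd40508198d4050519cf40505198f4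

/-- order 3, centralizer of order 648, part 0 -/
def nB0 : ℕ := 0x5b9c0fba35b98fab855b9169bb05b5e0b9af5b5bf29815b50659b85aec0f5e35ae8fa5c55ae1695f05a6e0b4ef5a6bf24c15a60654f8597c0fe635978fae45597169e70593e0bd6f593bf2d41593065d785766f14415763ff45b57606544f5676f1d815673ffd9b567065d8f55ac9d50455a8fa53255a10c523554c9d3845548fa3b255410c3a35516f19c15513ff9db5510659cf54ec9d68454e8fa6b254e10c6a353ecf854553e89f57353e169562536ff0441536a9b47f53606546a52bcf8f8552b89ffb352b169fa2527ff0d81527a9bdbf527065daa515cf8ac551589faf3515169ae2511ff09c1511a9b9ff5110659ea4f9663b8f4f93ffb854f9169b994ee6635cf4ee3ff5c54ee1695d94dcf622aa4dca9b2844dc10c2bd4d7663e4f4d73ffe454d7169e594d6f6272a4d6a9b7044d610c73d4caf625aa4caa9b5844ca10c5bd4ade998334adcf881b4ad6f183a4a8ff025f4a8c9d27f4a87fd2724a1ff0a1f4a1c9da3f4a17fda324a0e993734a0cf835b4a06f137a48de99b7348dcf8b5b48d6f1b7a489ff085f489c9d87f4897fd87247e7fd54547e2f355f47e16954b46b7fdf8546b2f3f9f46b169f8b45ae9950445abf253a45a10c52f4557fdac54552f3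adf455169acb454e99384454bf23ba45410c3af44ee9968444ebf26ba44e10c6af42de0b83142dc6a81942d663838428f6225d428c0f27d42876f270421f62a1d421c0fa3d42176fa30420e0b371420c6a35942066337840de0bb7140dc6ab5940d663b78409f6285d409c0f87d40976f8703bee0b5693bea6c55f3be7fd5783b6c0f4653b696445b3b66f14703abe0bfa93aba6cf9f3ab7fdfb83a7c0fda53a7964d9b3a76f1db0395e0bae9395a6cadf3957fdaf8391c0f9e53919649db3916f19f03687fd24f36876f25f3683ff25d3617fda0f36176fa1f3613ffa1d352b0540435296442c35210c425350b050843509640ac35010c0a53497fd84f34976f85f3493ff85d342b054843429644ac34210c4a52b9ff0b992b9b05bbf2b9663bac2b5cf899d2b59019b32b576f9a42aeff05d92aeb055ff2ae6635ec2a6cf84dd2a69014f32a676f4e4297ff0e59297b05e7f297663e6c293cf8d5d293901d7329376fd6426d6f180b26d66381b26d2f38192606f134b26066335b2602f3359252a6c42425290140425210c429250a6c0a425090108425010c0a924d6f1b4b24d663b5b24d2f3b59242a6c4a424290148424210c4a91f77fdd191f7663d011f7065d1f1f47fd0d91f46630c11f40650df1decf86301dec0f6041de10c6331d8cf81b01d8c0f18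41d810c1b31c6cf87b01c6c0f7841c610c7b31c37fddd91c3663dc11c3065ddf1bcc9d1f11bcc6a1c51bc1691f21bbc9df311bbc6af051bb169f321b7f62d011b7e99d3d1b7065d3a1b4f620c11b4e990fd1b40650fa187c9def1187c6aec5187169ef2183f62dc1183e99dfd183065dfa0fc76f1c50fc6f11dd0fc1691db0fb76ff050fb6f1f1d0fb169f1b0deff06380dee0b6040de10c63f0d8ff01b80d8e0b1840d810c1bf0c776fec50c76f1edd0c7169edb0c6ff07b80c6e0b7840c610c7bf0ada9b8230ad8fa80b0ad2f382a0a8bf224f0a889f26f0a83ff2620a1bf2a0f0a189fa2f0a13ffa220a0a9b3630a08fa34b0a02f336a08da9bb6308d8fab4b08d2f3b6a089bf284f08989f86f0893ff862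

/-- order 3, centralizer of order 648, part 1 -/
def nB1 : ℕ := 0xd79ff0ba9d79a6cba3d798fabbfd6eff05e9d6ea6c5e3d6e8fa5ffd5c89f29bd5c6f128cd5c3082a2d57ff0e69d57a6ce63d578fae7fd5689f71bd566f170cd56308722d4a89f59bd4a6f158cd4a3085a2d3cc9d1ecd3cb051ead3ca9b1f2d3bc9df2cd3bb05f2ad3ba9bf32d1ecf8608d1e3ff633d1e20460fd18cf8188d183ff1b3d1820418fd07c9deecd07b05eead07a9bef2d06cf8788d063ff7b3d0620478fbb5e0b9a4bb5c9d9b8bb59019b2ba6e0b4e4ba6c9d4f8ba69014f2b9cf62288b9c6f12bdb9c20429bb96f62708b966f173db9620471bb93e0bd64b93c9dd78b93901d72b8af62588b8a6f15bdb8a20459bb68ff026fb68f6227fb68bf227db61ff0a2fb61f62a3fb61bf2a3db52901405b52308424b5216940cb50901085b503080a4b5016908cb49ff086fb49f6287fb49bf287db42901485b423084a4b4216948caf6ff0471af6c6a465af696447fae7ff0db1ae7c6ada5ae7964dbfadae9951dada76f50cada30853aad4e9939dad476f38cad43083baad1ff09f1ad1c6a9e5ad19649ffacee9969dace76f68cace3086baa2de9982aa2de0b83aa2da9b838a20e9936aa20e0b37aa20a9b378a12964408a12204405a12169425a10964088a10204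085a101690a5a0de99b6aa0de0bb7aa0da9bb78a02964488a02204485a021694a59fef625699fecf857d9fea6c5739ebf62fa99ebcf8fbd9eba6cfb39dac9d5199da66350c9da3085329d5f62ae99d5cf8afd9d5a6caf39d4c9d3999d466338c9d43083b29cec9d6999ce66368c9ce3086b29b9e99bb09b9c0fbac9b9b05bba9aee995f09aec0f5ec9aeb055fa99cc6a28899c7fd2b199c20429f997e99e70997c0fe6c997b05e7a996c6a7089967fd73199620471f98ac6a58898a7fd5b198a20459f86dcf882386dc6a83386d8fa831860cf8363860c6a3738608fa371852b0540185230842c85206540c850b050818503080ac85006508c84dcf8b6384dc6ab7384d8fab71842b054818423084ac84206548c828c9d262828c0f27282889f270821c9da22821c0fa3282189fa30812a6c408812204401812065429810a6c0888102040818100650a9809c9d862809c0f87280989f870802a6c4888022044818020654a97bca9b1e97bca6c1dd7bc76f1ea7bba9bf297bba6cf1d7bb76ff2a7b7964d197b789fd257b7663d227b49640d97b489f0e57b46630e2787a9bee9787a6cedd78776feea783964dd978389fde5783663de2739e99ba9739a6cb8f7393ffbba735c9d9a573596498b7352f39b272ee995e972ea6c5cf72e3ff5fa726c9d4e57269644c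b7262f34f2717e99e69717a6ce4f7173ffe7a713c9dd65713964d4b7132f3d726bef6254b6beb0557d6be2f356c6b6c6a44f6b69014716b63ff4646abf62f8b6abb05fbd6ab2f3fac6a7c6ad8f6a7901db16a73ffda4695f62acb695b05afd6952f3aec691c6a9cf6919019f16913ff9e463cbf21db63cb051ef63c6f11ec63bbf2f1b63bb05f2f63b6f1f2c637901d236378fad1f6377fdd246349010e36348fa0df6347fd0e4607bf2edb607b05eef6076f1eec603901de36038faddf6037fdde45f576f98b5f52f39815f506599d5e676f4cb5e62f34c15e60654dd5dcc6a2a25dc89f2845dc10c2b15d6c6a7225d689f7045d610c7315d376fd4b5d32f3d415d3065d5d5cac6a5a25ca89f5845ca10c5b1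

/-- order 3, centralizer of order 648, part 2 -/
def nB2 : ℕ := 0xfb6c0f46afb6a9b464fb6901470fa7c0fdaafa7a9bda4fa7901db0f9abf2508f9a66352ff9a204519f94bf2388f946633aff94204399f91c0f9eaf91a9b9e4f919019f0f8ebf2688f8e6636aff8e204699f37e99d24f37901d22f3789fd3af34e990e4f349010e2f3489f0faf1eff0608f1e2f363ff1e20460bf18ff0188f182f31bff1820418bf06ff0788f062f37bff0620478bf03e99de4f03901de2f0389fdfaef7f62d23ef7964d3def78fad25ef4f620e3ef49640fdef48fa0e5edee0b60fede3ff60cede308638ed8e0b18fed83ff18ced83081b8ec6e0b78fec63ff78cec63087b8ec3f62de3ec3964dfdec38fade5e75cf89a5e75bf29b3e759649afe66cf84e5e66bf24f3e669644efe5ca9b29fe5c7fd28ce5c3082aae56a9b71fe567fd70ce5630872ae53cf8d65e53bf2d73e53964d6fe4aa9b59fe4a7fd58ce4a3085aadfcc6a1efdfcbf21e9dfca6c1f1dfbc6af2fdfbbf2f29dfba6cf31ddec0f60bdde308630dde2f360cdd8c0f18bdd83081b0dd82f318cdc7c6aeefdc7bf2ee9dc7a6cef1dc6c0f78bdc63087b0dc62f378cdbee0b562dbeb05578dbe89f56cdabe0bfa2dabb05fb8dab89ffacd9a8fa508d9a76f523d9a20451dd95e0bae2d95b05af8d9589faecd948fa388d9476f3a3d9420439dd8e8fa688d8e76f6a3d8e20469d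

/-- order 5, centralizer of order 30, part 0 -/
def nF0 : ℕ := 0xfe7526743fc5504743fb80e6708f9a0c4708ee3522743ec5504743ebc0e2708e9a0c4708dee7a6554dcc784554d2506659ed0704459ecea7a2554ccc784554c2106259ec0704459e93622208191020408183222608181020408166752674366352274363c0e27086380e67084a506659e4a106259e46e7a655446a7a25541b62220811b2226081

/-- order 7, centralizer of order 7, part 0 -/
def nS0 : ℕ := 0xe855018c3810204081523060cba2021036a011a0fa7080dce94144072808414

private def TB : ℕ := 0x69969669966969969696696969699696966996696996699669696969969696969669699696696996696996966969969669966996699669969696969696969696c33c3cc33cc3c33c3c3cc3c3c3c33c3c3cc33cc3c33cc33cc3c3c3c33c3c3c3c3cc3c33c3cc3c33cc3c33c3cc3c33c3cc33cc33cc33cc33c3c3c3c3c3c3c3c3ca55a5aa55aa5a55a5a5aa5a5a5a55a5a5aa55aa5a55aa55aa5a5a5a55a5a5a5a5aa5a55a5aa5a55aa5a55a5aa5a55a5aa55aa55aa55aa55a5a5a5a5a5a5a5a5a0ff0f00ff00f0ff0f0f00f0f0f0ff0f0f00ff00f0ff00ff00f0f0f0ff0f0f0f0f00f0ff0f00f0ff00f0ff0f00f0ff0f00f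f00ff00ff00ff0f0f0f0f0f0f0f0f09966669966999966666699999999666666996699996699669999999966666666669999666699996699996666999966669966996699669966666666666666666633cccc33cc3333cccccc33333333cccccc33cc3333cc33cc33333333cccccccccc3333cccc3333cc3333cccc3333cccc33cc33cc33cc33cccccccccccccccccc55aaaa55aa5555aaaaaa55555555aaaaaa55aa5555aa55aa55555555aaaaaaaaaa5555aaaa5555aa5555aaaa5555aaaa55aa55aa55aa55aaaaaaaaaaaaaaaaaaff0000ff00ffff000000ffffffff000000ff00ffff00ff00ffffffff0000000000ffff0000ffff00ffff0000ffff0000ff00ff00ff00ff000000000000000000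

private noncomputable def fB (u v : ℕ) : ℕ := Nat.land (Nat.shiftRight TB (Nat.add (Nat.shiftLeft u 6) v)) 1

private noncomputable def alN (f : ℕ → Bool) (n : ℕ) : Bool := Nat.rec true (fun m ih => Bool.rec false ih (f m)) n

private theorem rec_and {a b : Bool} (h : (Bool.rec false a b : Bool) = true) : b = true ∧ a = true := by
  cases b
  · exact absurd h Bool.false_ne_true
  · exact ⟨rfl, h⟩

private theorem alN_spec {f : ℕ → Bool} {n : ℕ} (h : alN f n = true) : ∀ m < n, f m = true := by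
  induction n with
  | zero => intro m hm; cases hm
  | succ n ih =>
    intro m hm
    have h1 := rec_and (a := alN f n) (b := f n) h
    rcases Nat.lt_succ_iff_lt_or_eq.1 hm with h2 | rfl
    · exact ih h1.2 m h2
    · exact h1.1

private theorem fB_all : alN (fun u => Bool.rec false (alN (fun v => Bool.rec false (Nat.beq (fB u v) (fB v u))
    (Nat.beq (fB u v) (Bool.rec 0 1 (B6 u v)))) 64) (Nat.beq (fB u u) 0)) 64 = true := by decide +kernel

private theorem fB_zero {u v : ℕ} (hu : u < 64) (hv : v < 64) (h : fB u v = 0) : B6 u v = false ∧ B6 v u = false := by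
  have h1 := rec_and (alN_spec (rec_and (alN_spec fB_all u hu)).2 v hv)
  have h2 := rec_and (alN_spec (rec_and (alN_spec fB_all v hv)).2 u hu)
  have h3 := Nat.eq_of_beq_eq_true h1.1
  have h4 := Nat.eq_of_beq_eq_true h2.1
  rw [← Nat.eq_of_beq_eq_true h1.2, h] at h4
  rw [h] at h3
  constructor
  · revert h3; cases B6 u v <;> intro h3
    · rfl
    · cases h3
  · revert h4; cases B6 v u <;> intro h4
    · rfl
    · cases h4

private theorem fB_pos {u v : ℕ} (hu : u < 64) (hv : v < 64) (h : fB u v ≠ 0) : B6 u v = true ∧ B6 v u = true := by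
  have h1 := rec_and (alN_spec (rec_and (alN_spec fB_all u hu)).2 v hv)
  have h2 := rec_and (alN_spec (rec_and (alN_spec fB_all v hv)).2 u hu)
  have h3 := Nat.eq_of_beq_eq_true h1.1
  have h4 := Nat.eq_of_beq_eq_true h2.1
  rw [← Nat.eq_of_beq_eq_true h1.2] at h4
  constructor
  · revert h3; cases B6 u v <;> intro h3
    · exact absurd h3 h
    · rfl
  · revert h4; cases B6 v u <;> intro h4
    · exact absurd h4 h
    · rfl

private theorem B6_self {u : ℕ} (hu : u < 64) : B6 u u = false :=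
  (fB_zero hu hu (Nat.eq_of_beq_eq_true (rec_and (alN_spec fB_all u hu)).1)).1

private noncomputable def bt (v j : ℕ) : ℕ := Nat.land (Nat.shiftRight v j) 1

private theorem apk_succ (c v k : ℕ) : apk 6 c v (k + 1) = Nat.xor (apk 6 c v k) (Nat.mul (col 6 c k) (bt v k)) := by
  have h : bt v k = (v.testBit k).toNat := by
    rw [Nat.toNat_testBit, ← Nat.shiftRight_eq_div_pow, ← Nat.and_one_is_mod]
    rfl
  refine (apk_at_succ 6 c v k).trans ?_
  show _ = apk 6 c v k ^^^ (col 6 c k * bt v k)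
  rw [h]
  cases v.testBit k
  · exact (Nat.xor_zero _).symm
  · show apk 6 c v k ^^^ col 6 c k = apk 6 c v k ^^^ (col 6 c k * 1)
    rw [Nat.mul_one]

private noncomputable def apU (c0 c1 c2 c3 c4 c5 v : ℕ) : ℕ :=
  Nat.xor (Nat.xor (Nat.xor (Nat.xor (Nat.xor (Nat.mul c0 (bt v 0)) (Nat.mul c1 (bt v 1))) (Nat.mul c2 (bt v 2)))
    (Nat.mul c3 (bt v 3))) (Nat.mul c4 (bt v 4))) (Nat.mul c5 (bt v 5))

private theorem apU_eq (d v : ℕ) :
    apU (col 6 d 0) (col 6 d 1) (col 6 d 2) (col 6 d 3) (col 6 d 4) (col 6 d 5) v = apc 6 d v := by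
  show _ = apk 6 d v (0 + 1 + 1 + 1 + 1 + 1 + 1)
  rw [apk_succ, apk_succ, apk_succ, apk_succ, apk_succ, apk_succ]
  show _ = Nat.xor (Nat.xor (Nat.xor (Nat.xor (Nat.xor (0 ^^^ _) _) _) _) _) _
  rw [Nat.zero_xor]
  rfl

private noncomputable def frc (n : ℕ) (f : ℕ → Bool) : Bool := Nat.rec (f 0) (fun m _ => f (Nat.succ m)) n

private theorem frc_eq (n : ℕ) (f : ℕ → Bool) : frc n f = f n := by cases n <;> rfl

private noncomputable def okG (c c0 c1 c2 c3 c4 c5 : ℕ) : Bool :=
  Bool.rec false (Bool.rec false (Bool.rec false (Bool.rec false (Bool.rec false (Bool.rec false (Bool.rec false (Bool.rec false true (Nat.beq (apU c0 c1 c2 c3 c4 c5 (col 6 c 5)) (apc 6 c c5))) (Nat.beq (apU c0 c1 c2 c3 c4 c5 (col 6 c 4)) (apc 6 c c4))) (Nat.beq (apU c0 c1 c2 c3 c4 c5 (col 6 c 3)) (apc 6 c c3))) (Nat.beq (apU c0 c1 c2 c3 c4 c5 (col 6 c 2)) (apc 6 c c2))) (Nat.beq (apU c0 c1 c2 c3 c4 c5 (col 6 c 1)) (apc 6 c c1))) (Nat.beq (apU c0 c1 c2 c3 c4 c5 (col 6 c 0)) (apc 6 c c0)))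
    (Nat.blt 0 (Nat.land (fB c0 c3) (Nat.land (fB c1 c4) (fB c2 c5)))))
    (Nat.beq (Nat.lor (fB c0 c1) (Nat.lor (fB c0 c2) (Nat.lor (fB c0 c4) (Nat.lor (fB c0 c5) (Nat.lor (fB c1 c2) (Nat.lor (fB c1 c3) (Nat.lor (fB c1 c5) (Nat.lor (fB c2 c3) (Nat.lor (fB c2 c4) (Nat.lor (fB c3 c4) (Nat.lor (fB c3 c5) (fB c4 c5)))))))))))) 0)

private noncomputable def cF (d s : ℕ) : ℕ := Nat.land (Nat.shiftRight d s) 63

private noncomputable def okF (c d : ℕ) : Bool :=
  frc (cF d 0) fun c0 => frc (cF d 6) fun c1 => frc (cF d 12) fun c2 => frc (cF d 18) fun c3 => frc (cF d 24) fun c4 =>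
    frc (cF d 30) fun c5 => okG c c0 c1 c2 c3 c4 c5

private theorem cF_eq (d i : ℕ) : cF d (6 * i) = col 6 d i := Nat.and_two_pow_sub_one_eq_mod (d >>> (6 * i)) 6

private theorem lor0 {a b : ℕ} (h : Nat.lor a b = 0) : a = 0 ∧ b = 0 := Nat.or_eq_zero_iff.1 h

private theorem land0 {a b : ℕ} (h : Nat.land a b ≠ 0) : a ≠ 0 ∧ b ≠ 0 :=
  ⟨fun e => h (by rw [e]; exact Nat.zero_and b), fun e => h (by rw [e]; exact Nat.and_zero a)⟩

private theorem okF_ok {c d : ℕ} (hd : d < 68719476736) (h : okF c d = true) : okc c d = true := by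
  have h0 : okG c (col 6 d 0) (col 6 d 1) (col 6 d 2) (col 6 d 3) (col 6 d 4) (col 6 d 5) = true := by
    rw [← cF_eq, ← cF_eq, ← cF_eq, ← cF_eq, ← cF_eq, ← cF_eq]
    delta okF at h
    rw [frc_eq, frc_eq, frc_eq, frc_eq, frc_eq, frc_eq] at h
    exact h
  have hl : ∀ i, col 6 d i < 64 := fun i => Nat.mod_lt _ (by decide)
  obtain ⟨hz, h1⟩ := rec_and h0
  obtain ⟨ho, h1⟩ := rec_and h1
  have hz := Nat.eq_of_beq_eq_true hz
  have ho := (Nat.blt_eq.mp ho).ne'
  obtain ⟨z01, hz⟩ := lor0 hz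
  obtain ⟨z02, hz⟩ := lor0 hz
  obtain ⟨z04, hz⟩ := lor0 hz
  obtain ⟨z05, hz⟩ := lor0 hz
  obtain ⟨z12, hz⟩ := lor0 hz
  obtain ⟨z13, hz⟩ := lor0 hz
  obtain ⟨z15, hz⟩ := lor0 hz
  obtain ⟨z23, hz⟩ := lor0 hz
  obtain ⟨z24, hz⟩ := lor0 hz
  obtain ⟨z34, hz⟩ := lor0 hz
  obtain ⟨z35, hz⟩ := lor0 hz
  have z45 := hz
  obtain ⟨z03, ho⟩ := land0 ho
  obtain ⟨z14, ho⟩ := land0 ho
  have z25 := ho
  obtain ⟨a0, h1⟩ := rec_and h1
  rw [apU_eq] at a0
  obtain ⟨a1, h1⟩ := rec_and h1
  rw [apU_eq] at a1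
  obtain ⟨a2, h1⟩ := rec_and h1
  rw [apU_eq] at a2
  obtain ⟨a3, h1⟩ := rec_and h1
  rw [apU_eq] at a3
  obtain ⟨a4, h1⟩ := rec_and h1
  rw [apU_eq] at a4
  obtain ⟨a5, h1⟩ := rec_and h1
  rw [apU_eq] at a5
  have hi : isom 6 B6 (fun _ => false) d = true := by
    have k : ∀ i < 6, ∀ j < 6, B6 (col 6 d i) (col 6 d j) = B6 (2 ^ i) (2 ^ j) := by
      intro i hi j hj
      interval_cases i <;> interval_cases j
      · exact (B6_self (hl 0))
      · exact (fB_zero (hl 0) (hl 1) z01).1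
      · exact (fB_zero (hl 0) (hl 2) z02).1
      · exact (fB_pos (hl 0) (hl 3) z03).1
      · exact (fB_zero (hl 0) (hl 4) z04).1
      · exact (fB_zero (hl 0) (hl 5) z05).1
      · exact (fB_zero (hl 0) (hl 1) z01).2
      · exact (B6_self (hl 1))
      · exact (fB_zero (hl 1) (hl 2) z12).1
      · exact (fB_zero (hl 1) (hl 3) z13).1
      · exact (fB_pos (hl 1) (hl 4) z14).1
      · exact (fB_zero (hl 1) (hl 5) z15).1
      · exact (fB_zero (hl 0) (hl 2) z02).2
      · exact (fB_zero (hl 1) (hl 2) z12).2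
      · exact (B6_self (hl 2))
      · exact (fB_zero (hl 2) (hl 3) z23).1
      · exact (fB_zero (hl 2) (hl 4) z24).1
      · exact (fB_pos (hl 2) (hl 5) z25).1
      · exact (fB_pos (hl 0) (hl 3) z03).2
      · exact (fB_zero (hl 1) (hl 3) z13).2
      · exact (fB_zero (hl 2) (hl 3) z23).2
      · exact (B6_self (hl 3))
      · exact (fB_zero (hl 3) (hl 4) z34).1
      · exact (fB_zero (hl 3) (hl 5) z35).1
      · exact (fB_zero (hl 0) (hl 4) z04).2
      · exact (fB_pos (hl 1) (hl 4) z14).2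
      · exact (fB_zero (hl 2) (hl 4) z24).2
      · exact (fB_zero (hl 3) (hl 4) z34).2
      · exact (B6_self (hl 4))
      · exact (fB_zero (hl 4) (hl 5) z45).1
      · exact (fB_zero (hl 0) (hl 5) z05).2
      · exact (fB_zero (hl 1) (hl 5) z15).2
      · exact (fB_pos (hl 2) (hl 5) z25).2
      · exact (fB_zero (hl 3) (hl 5) z35).2
      · exact (fB_zero (hl 4) (hl 5) z45).2
      · exact (B6_self (hl 5))
    refine (isom_def _ _ _ _).trans (List.all_eq_true.2 fun i hi => ?_)
    refine Bool.and_eq_true_iff.2 ⟨rfl, List.all_eq_true.2 fun j hj => ?_⟩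
    rw [k i (List.mem_range.1 hi) j (List.mem_range.1 hj)]
    exact beq_self_eq_true _
  have hr : Nat.beq (rc d) d = true := by
    rw [Nat.beq_eq]
    show d >>> 0 % 64 + 64 * (d >>> 6 % 64 + 64 * (d >>> 12 % 64 + 64 * (d >>> 18 % 64 + 64 * (d >>> 24 % 64 + 64 *
      (d >>> 30 % 64))))) = d
    clear * - hd
    omega
  refine Bool.and_eq_true_iff.2 ⟨Bool.and_eq_true_iff.2 ⟨hi, hr⟩, List.all_eq_true.2 fun i hi => ?_⟩
  have hi := List.mem_range.1 hi
  interval_cases i
  exacts [a0, a1, a2, a3, a4, a5]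

private noncomputable def chkF (c q k : ℕ) : ℕ → ℕ → Bool :=
  Nat.rec (fun p _ => Nat.ble p q) (fun _ ih p N => frc (Nat.mod N 68719476736) fun d =>
    Bool.rec false (Bool.rec false (ih d (Nat.div N 68719476736)) (okF c d)) (Nat.blt p d)) k

private theorem chkF_ok {c q k : ℕ} : ∀ {p N : ℕ}, chkF c q k p N = true → chkL c q p (unp k N) = true := by
  induction k with
  | zero => exact fun h => h
  | succ k ih =>
    intro p N h
    have h1 : (frc (Nat.mod N 68719476736) fun d =>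
      Bool.rec false (Bool.rec false (chkF c q k d (Nat.div N 68719476736)) (okF c d)) (Nat.blt p d)) = true := h
    rw [frc_eq] at h1
    obtain ⟨h2, h1⟩ := rec_and h1
    obtain ⟨h3, h1⟩ := rec_and h1
    exact Bool.and_eq_true_iff.2 ⟨Bool.and_eq_true_iff.2 ⟨h2, okF_ok (Nat.mod_lt _ (by decide)) h3⟩, ih h1⟩

theorem chk_A0 : chkL 34628452489 4664525833 0 (unp 270 nA0) = true := chkF_ok (by decide +kernel)

theorem chk_A1 : chkL 34628452489 17987366145 4664525833 (unp 270 nA1) = true := chkF_ok (by decide +kernel)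

theorem chk_A2 : chkL 34628452489 22114740360 17987366145 (unp 270 nA2) = true := chkF_ok (by decide +kernel)

theorem chk_A3 : chkL 34628452489 34664311816 22114740360 (unp 270 nA3) = true := chkF_ok (by decide +kernel)

theorem chk_A4 : chkL 34628452489 38957089801 34664311816 (unp 270 nA4) = true := chkF_ok (by decide +kernel)

theorem chk_A5 : chkL 34628452489 51810225537 38957089801 (unp 270 nA5) = true := chkF_ok (by decide +kernel)

theorem chk_A6 : chkL 34628452489 55937607944 51810225537 (unp 270 nA6) = true := chkF_ok (by decide +kernel)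

theorem chk_A7 : chkL 34628452489 58789882120 55937607944 (unp 270 nA7) = true := chkF_ok (by decide +kernel)

theorem chk_C0 : chkL 21743685001 56675870984 0 (unp 108 nC0) = true := chkF_ok (by decide +kernel)

theorem chk_B0 : chkL 48623551524 24591268771 0 (unp 270 nB0) = true := chkF_ok (by decide +kernel)

theorem chk_B1 : chkL 48623551524 57881332649 24591268771 (unp 270 nB1) = true := chkF_ok (by decide +kernel)

theorem chk_B2 : chkL 48623551524 67490608234 57881332649 (unp 108 nB2) = true := chkF_ok (by decide +kernel)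

theorem chk_F0 : chkL 55952295326 68305446723 0 (unp 30 nF0) = true := chkF_ok (by decide +kernel)

theorem chk_S0 : chkL 22062435514 62366161091 0 (unp 7 nS0) = true := chkF_ok (by decide +kernel)

end Cfsg.Agent.H548.EPX.SpSix

private theorem dce_e05b1d4f395d : _root_.True := by
  try have : _root_.True := by simp only [_root_.Cfsg.Agent.H548.EPX.SpSix.unp.eq_def]
  try have : _root_.True := by simp only [_root_.Cfsg.Agent.H548.EPX.SpSix.unp.eq_1]
  try have : _root_.True := by simp only [_root_.Cfsg.Agent.H548.EPX.SpSix.unp.eq_2]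
  exact _root_.True.intro
end

-- part: H548/EPX/SpSix
section
set_option linter.all false
open scoped Cfsg.Agent.FastGrp

/-!
# `Sp₆(2)`: the numbers of elements of order 3, 5, 7 (helper548, for S5745)

For `T ≃* PSp 3 F`, `|F| = 2`: at most `16352`, `48384`, `207360` elements of order 3, 5, 7 in `T` and in `Aut T`.
-/

set_option autoImplicit false
set_option maxRecDepth 100000

namespace Cfsg.Agent.H548.EPX.SpSix

open Cfsg Cfsg.Agent.H612.Ore
open Cfsg.Agent.SporRec.TwoSp6.Sp (V S card_S)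

/-! ### Centralizers -/

theorem chkL_mono {c q p p' : ℕ} (hp : p' ≤ p) : ∀ {L : List ℕ}, chkL c q p L = true → chkL c q p' L = true
  | [], h => by
    rw [chkL, Nat.ble_eq] at h ⊢
    exact hp.trans h
  | d :: L, h => by
    rw [chkL, Bool.and_eq_true, Bool.and_eq_true, Nat.blt_eq] at h ⊢
    exact ⟨⟨lt_of_le_of_lt hp h.1.1, h.1.2⟩, h.2⟩

theorem chkL_append {c q r : ℕ} : ∀ {p : ℕ} {L M : List ℕ}, chkL c q p L = true → chkL c r q M = true →
    chkL c r p (L ++ M) = true
  | p, [], M, h, h' => by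
    rw [chkL, Nat.ble_eq] at h
    exact chkL_mono h h'
  | p, d :: L, M, h, h' => by
    rw [chkL, Bool.and_eq_true, Bool.and_eq_true, Nat.blt_eq] at h
    rw [List.cons_append, chkL, Bool.and_eq_true, Bool.and_eq_true, Nat.blt_eq]
    exact ⟨h.1, chkL_append h.2 h'⟩

theorem chkL_mem {c q : ℕ} : ∀ {p : ℕ} {L : List ℕ}, chkL c q p L = true → ∀ d ∈ L, p < d ∧ okc c d = true
  | p, [], _, d, hd => absurd hd List.not_mem_nil
  | p, e :: L, h, d, hd => by
    rw [chkL, Bool.and_eq_true, Bool.and_eq_true, Nat.blt_eq] at h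
    rcases List.mem_cons.1 hd with rfl | hd
    · exact h.1
    · obtain ⟨h1, h2⟩ := chkL_mem h.2 d hd
      exact ⟨lt_trans h.1.1 h1, h2⟩

theorem chkL_nodup {c q : ℕ} : ∀ {p : ℕ} {L : List ℕ}, chkL c q p L = true → L.Nodup
  | p, [], _ => List.nodup_nil
  | p, e :: L, h => by
    rw [chkL, Bool.and_eq_true, Bool.and_eq_true, Nat.blt_eq] at h
    exact List.nodup_cons.2 ⟨fun he => lt_irrefl _ (chkL_mem h.2 e he).1, chkL_nodup h.2⟩

theorem rc_eq {x : S} {d : ℕ} (h : spAct.Rep x d) : rc d = spAct.ap x (2 ^ 0) + 64 * (spAct.ap x (2 ^ 1) +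
    64 * (spAct.ap x (2 ^ 2) + 64 * (spAct.ap x (2 ^ 3) + 64 * (spAct.ap x (2 ^ 4) + 64 * spAct.ap x (2 ^ 5))))) := by
  rw [h 0 (by norm_num), h 1 (by norm_num), h 2 (by norm_num), h 3 (by norm_num), h 4 (by norm_num), h 5 (by norm_num)]
  rfl

theorem exists_elt {g : S} {c d : ℕ} (hg : spAct.Rep g c) (h : okc c d = true) : ∃ x : S, spAct.Rep x d ∧ x * g = g * x := by
  rw [okc, Bool.and_eq_true, Bool.and_eq_true] at h
  obtain ⟨x, hx⟩ := spAct.exists_rep h.1.1
  refine ⟨x, hx, spAct.ext fun i hi => ?_⟩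
  have h1 := Nat.eq_of_beq_eq_true (List.all_eq_true.1 h.2 i (List.mem_range.2 hi))
  rw [spAct.mul _ _ _ (two_pow_lt hi), spAct.mul _ _ _ (two_pow_lt hi), hg i hi, hx i hi,
    spAct.ap_eq hx (col_lt _ _ _), spAct.ap_eq hg (col_lt _ _ _)]
  exact h1

/-- lower bound of a centralizer -/
theorem cent_ge {g : S} {c q p : ℕ} {L : List ℕ} (hg : spAct.Rep g c) (h : chkL c q p L = true) :
    L.length ≤ Nat.card (Subgroup.centralizer ({g} : Set S)) := by
  have h1 : ∀ d ∈ L, ∃ x : S, spAct.Rep x d ∧ x * g = g * x := fun d hd => exists_elt hg (chkL_mem h d hd).2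
  choose! f hf using h1
  have hinj : Set.InjOn f (L.toFinset : Set ℕ) := by
    intro a ha b hb hab
    rw [Finset.mem_coe, List.mem_toFinset] at ha hb
    have h2 := rc_eq (hf a ha).1
    have h3 := rc_eq (hf b hb).1
    rw [← hab, ← h2] at h3
    have h4 := (chkL_mem h a ha).2
    have h5 := (chkL_mem h b hb).2
    rw [okc, Bool.and_eq_true, Bool.and_eq_true] at h4 h5
    rw [← Nat.eq_of_beq_eq_true h4.1.2, ← Nat.eq_of_beq_eq_true h5.1.2, h3]
  have h6 : (L.toFinset.image f).card = L.length := by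
    rw [Finset.card_image_of_injOn hinj, List.toFinset_card_of_nodup (chkL_nodup h)]
  have h7 : ((L.toFinset.image f : Finset S) : Set S) ⊆ (Subgroup.centralizer ({g} : Set S) : Set S) := by
    intro x hx
    rw [Finset.mem_coe, Finset.mem_image] at hx
    obtain ⟨d, hd, rfl⟩ := hx
    rw [SetLike.mem_coe, Subgroup.mem_centralizer_singleton_iff]
    exact (hf d (List.mem_toFinset.1 hd)).2
  have h8 := Set.ncard_le_ncard h7 (Set.toFinite _)
  rw [Set.ncard_coe_finset, h6] at h8
  exact h8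

theorem ge_A {g : S} (hg : spAct.Rep g 34628452489) : 2160 ≤ Nat.card (Subgroup.centralizer ({g} : Set S)) := by
  have h := cent_ge hg (chkL_append chk_A0 (chkL_append chk_A1 (chkL_append chk_A2 (chkL_append chk_A3
    (chkL_append chk_A4 (chkL_append chk_A5 (chkL_append chk_A6 chk_A7)))))))
  simp only [List.length_append, length_unp] at h
  exact h

theorem ge_B {g : S} (hg : spAct.Rep g 48623551524) : 648 ≤ Nat.card (Subgroup.centralizer ({g} : Set S)) := by
  have h := cent_ge hg (chkL_append chk_B0 (chkL_append chk_B1 chk_B2))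
  simp only [List.length_append, length_unp] at h
  exact h

theorem ge_C {g : S} (hg : spAct.Rep g 21743685001) : 108 ≤ Nat.card (Subgroup.centralizer ({g} : Set S)) := by
  have h := cent_ge hg chk_C0
  rwa [length_unp] at h

theorem ge_F {g : S} (hg : spAct.Rep g 55952295326) : 30 ≤ Nat.card (Subgroup.centralizer ({g} : Set S)) := by
  have h := cent_ge hg chk_F0
  rwa [length_unp] at h

theorem ge_S {g : S} (hg : spAct.Rep g 22062435514) : 7 ≤ Nat.card (Subgroup.centralizer ({g} : Set S)) := by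
  have h := cent_ge hg chk_S0
  rwa [length_unp] at h

/-! ### Classes -/

theorem card_class (y : S) : Set.ncard {x : S | IsConj x y} * Nat.card (Subgroup.centralizer ({y} : Set S)) = 1451520 := by
  have h1 : (MulAction.stabilizer (ConjAct S) y).index = (MulAction.orbit (ConjAct S) y).ncard :=
    MulAction.index_stabilizer _ _
  have h2 : MulAction.orbit (ConjAct S) y = {x : S | IsConj x y} := by
    ext x
    rw [ConjAct.mem_orbit_conjAct]
    rfl
  have h3 := Subgroup.card_mul_index (MulAction.stabilizer (ConjAct S) y)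
  rw [h1, h2, ← Subgroup.nat_card_centralizer_nat_card_stabilizer, mul_comm] at h3
  rw [h3, ← card_S]
  exact Nat.card_congr ConjAct.ofConjAct.toEquiv

/-- the representatives of order `r` -/
theorem ords : ((List.range 30).all fun i => ((List.range 6).all fun k => itc (reps.getD i 0) 3 (2 ^ k) == 2 ^ k) ==
      (i == 0 || i == 2 || i == 10 || i == 29)) = true ∧
    ((List.range 30).all fun i => ((List.range 6).all fun k => itc (reps.getD i 0) 5 (2 ^ k) == 2 ^ k) ==
      (i == 0 || i == 8)) = true ∧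
    ((List.range 30).all fun i => ((List.range 6).all fun k => itc (reps.getD i 0) 7 (2 ^ k) == 2 ^ k) ==
      (i == 0 || i == 20)) = true := by decide +kernel

theorem all_of_pow {x : S} {c r : ℕ} (hx : spAct.Rep x c) (h : x ^ r = 1) :
    ((List.range 6).all fun k => itc c r (2 ^ k) == 2 ^ k) = true := by
  rw [List.all_eq_true]
  intro k hk
  have hk6 := List.mem_range.1 hk
  have h1 := (ap_pow hx r (two_pow_lt (n := 6) hk6)).1
  rw [h, spAct.one _ (two_pow_lt hk6)] at h1
  exact beq_iff_eq.2 h1.symm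

theorem rep_zero {x : S} (hx : spAct.Rep x (reps.getD 0 0)) : x = 1 := by
  refine spAct.ext fun i hi => ?_
  rw [hx i hi, spAct.one _ (two_pow_lt hi)]
  have : ∀ i < 6, col 6 (reps.getD 0 0) i = 2 ^ i := by decide +kernel
  exact this i hi

theorem exists_cls {g : S} {r : ℕ} (hr : r ≠ 1) (hg : orderOf g = r) : ∃ i < 30, i ≠ 0 ∧
    IsConj g (wd tv (rws.getD i [])) ∧ ((List.range 6).all fun k => itc (reps.getD i 0) r (2 ^ k) == 2 ^ k) = true := by
  obtain ⟨i, hi, h, hh⟩ := exists_rep30 g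
  have hc : IsConj g (wd tv (rws.getD i [])) := isConj_iff.2 ⟨h, hh⟩
  refine ⟨i, hi, ?_, hc, all_of_pow (rep_r hi) ?_⟩
  · rintro rfl
    have h1 := rep_zero (rep_r (i := 0) (by norm_num))
    rw [h1, isConj_one_left] at hc
    rw [hc, orderOf_one] at hg
    exact hr hg.symm
  · rw [← hh, conj_pow, ← hg, pow_orderOf_eq_one, mul_one, mul_inv_cancel]

theorem three_S : Nat.card {x : S // orderOf x = 3} ≤ 16352 := by
  have hsub : {x : S | orderOf x = 3} ⊆ {x | IsConj x (wd tv (rws.getD 2 []))} ∪ ({x | IsConj x (wd tv (rws.getD 10 []))} ∪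
      {x | IsConj x (wd tv (rws.getD 29 []))}) := by
    intro x hx
    obtain ⟨i, hi, h0, hc, ha⟩ := exists_cls (r := 3) (by norm_num) hx
    have h1 := List.all_eq_true.1 ords.1 i (List.mem_range.2 hi)
    rw [ha, beq_iff_eq, eq_comm] at h1
    simp only [Bool.or_eq_true, beq_iff_eq] at h1
    rcases h1 with ((h1 | rfl) | rfl) | rfl
    · exact absurd h1 h0
    · exact Or.inl hc
    · exact Or.inr (Or.inl hc)
    · exact Or.inr (Or.inr hc)
  have h1 := card_class (wd tv (rws.getD 2 []))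
  have h2 := card_class (wd tv (rws.getD 10 []))
  have h3 := card_class (wd tv (rws.getD 29 []))
  have g1 := ge_A (rep_r (i := 2) (by norm_num))
  have g2 := ge_C (rep_r (i := 10) (by norm_num))
  have g3 := ge_B (rep_r (i := 29) (by norm_num))
  have k1 : Set.ncard {x : S | IsConj x (wd tv (rws.getD 2 []))} ≤ 672 := by
    by_contra h
    push Not at h
    have := Nat.mul_le_mul h g1
    omega
  have k2 : Set.ncard {x : S | IsConj x (wd tv (rws.getD 10 []))} ≤ 13440 := by
    by_contra h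
    push Not at h
    have := Nat.mul_le_mul h g2
    omega
  have k3 : Set.ncard {x : S | IsConj x (wd tv (rws.getD 29 []))} ≤ 2240 := by
    by_contra h
    push Not at h
    have := Nat.mul_le_mul h g3
    omega
  have h4 := Set.ncard_le_ncard hsub (Set.toFinite _)
  have h5 := Set.ncard_union_le {x : S | IsConj x (wd tv (rws.getD 2 []))} ({x | IsConj x (wd tv (rws.getD 10 []))} ∪
      {x | IsConj x (wd tv (rws.getD 29 []))})
  have h6 := Set.ncard_union_le {x : S | IsConj x (wd tv (rws.getD 10 []))} {x | IsConj x (wd tv (rws.getD 29 []))}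
  have h7 : Nat.card {x : S // orderOf x = 3} = Set.ncard {x : S | orderOf x = 3} := rfl
  omega

theorem five_S : Nat.card {x : S // orderOf x = 5} ≤ 48384 := by
  have hsub : {x : S | orderOf x = 5} ⊆ {x | IsConj x (wd tv (rws.getD 8 []))} := by
    intro x hx
    obtain ⟨i, hi, h0, hc, ha⟩ := exists_cls (r := 5) (by norm_num) hx
    have h1 := List.all_eq_true.1 ords.2.1 i (List.mem_range.2 hi)
    rw [ha, beq_iff_eq, eq_comm] at h1
    simp only [Bool.or_eq_true, beq_iff_eq] at h1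
    rcases h1 with h1 | rfl
    · exact absurd h1 h0
    · exact hc
  have h1 := card_class (wd tv (rws.getD 8 []))
  have g1 := ge_F (rep_r (i := 8) (by norm_num))
  have k1 : Set.ncard {x : S | IsConj x (wd tv (rws.getD 8 []))} ≤ 48384 := by
    by_contra h
    push Not at h
    have := Nat.mul_le_mul h g1
    omega
  exact (Set.ncard_le_ncard hsub (Set.toFinite _)).trans k1

theorem seven_S : Nat.card {x : S // orderOf x = 7} ≤ 207360 := by
  have hsub : {x : S | orderOf x = 7} ⊆ {x | IsConj x (wd tv (rws.getD 20 []))} := by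
    intro x hx
    obtain ⟨i, hi, h0, hc, ha⟩ := exists_cls (r := 7) (by norm_num) hx
    have h1 := List.all_eq_true.1 ords.2.2 i (List.mem_range.2 hi)
    rw [ha, beq_iff_eq, eq_comm] at h1
    simp only [Bool.or_eq_true, beq_iff_eq] at h1
    rcases h1 with h1 | rfl
    · exact absurd h1 h0
    · exact hc
  have h1 := card_class (wd tv (rws.getD 20 []))
  have g1 := ge_S (rep_r (i := 20) (by norm_num))
  have k1 : Set.ncard {x : S | IsConj x (wd tv (rws.getD 20 []))} ≤ 207360 := by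
    by_contra h
    push Not at h
    have := Nat.mul_le_mul h g1
    omega
  exact (Set.ncard_le_ncard hsub (Set.toFinite _)).trans k1

/-! ### Transport -/

universe u v

theorem card_ord_congr {A : Type u} {B : Type v} [Group A] [Group B] (e : A ≃* B) (r : ℕ) :
    Nat.card {x : A // orderOf x = r} = Nat.card {x : B // orderOf x = r} :=
  Nat.card_congr (e.toEquiv.subtypeEquiv fun x => by
    rw [show (e.toEquiv x : B) = e x from rfl, MulEquiv.orderOf_eq])

section

variable {F : Type v} [Field F] [Fintype F] (hF : Fintype.card F = 2) {T : Type u} [Group T]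

include hF

theorem n3 (e : T ≃* Cfsg.PSp 3 F) : Nat.card {x : T // orderOf x = 3} ≤ 16352 := by
  obtain ⟨e'⟩ := Cfsg.Agent.StandardComponent.SpTwoAut.exists_equiv hF
  rw [card_ord_congr (e.trans e')]
  exact three_S

theorem n5 (e : T ≃* Cfsg.PSp 3 F) : Nat.card {x : T // orderOf x = 5} ≤ 48384 := by
  obtain ⟨e'⟩ := Cfsg.Agent.StandardComponent.SpTwoAut.exists_equiv hF
  rw [card_ord_congr (e.trans e')]
  exact five_S

theorem n7 (e : T ≃* Cfsg.PSp 3 F) : Nat.card {x : T // orderOf x = 7} ≤ 207360 := by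
  obtain ⟨e'⟩ := Cfsg.Agent.StandardComponent.SpTwoAut.exists_equiv hF
  rw [card_ord_congr (e.trans e')]
  exact seven_S

/-- the automorphisms are inner -/
theorem aut_equiv (e : T ≃* Cfsg.PSp 3 F) : Nonempty (MulAut T ≃* T) := by
  obtain ⟨e'⟩ := Cfsg.Agent.StandardComponent.SpTwoAut.exists_equiv hF
  have hinj : Function.Injective (MulAut.conj : S →* MulAut S) := by
    rw [← MonoidHom.ker_eq_bot_iff, eq_bot_iff, ← Cfsg.Agent.StandardComponent.SpTwoAut.center_eq_bot]
    intro x hx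
    rw [Subgroup.mem_center_iff]
    intro g
    have h : x * g * x⁻¹ = g := by
      rw [← MulAut.conj_apply, MonoidHom.mem_ker.1 hx]
      rfl
    rw [mul_inv_eq_iff_eq_mul] at h
    exact h.symm
  have hs : Function.Surjective (MulAut.conj : S →* MulAut S) := fun α => by
    obtain ⟨x, rfl⟩ := Cfsg.Agent.StandardComponent.SpTwoAut.inner α
    exact ⟨x, rfl⟩
  exact ⟨(MulAut.congr (e.trans e')).trans ((MulEquiv.ofBijective _ ⟨hinj, hs⟩).symm.trans (e.trans e').symm)⟩

end

end Cfsg.Agent.H548.EPX.SpSix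

private theorem dce_e7239b008b6a : _root_.True := by
  try have : _root_.True := by simp only [_root_.Cfsg.Agent.H548.EPX.SpSix.chkL.eq_def]
  try have : _root_.True := by simp only [_root_.Cfsg.Agent.H548.EPX.SpSix.okc.eq_1]
  try have : _root_.True := by simp only [_root_.Cfsg.Agent.H548.EPX.SpSix.chkL.eq_2]
  try have : _root_.True := by simp only [_root_.Cfsg.Agent.H548.EPX.SpSix.chkL.eq_1]
  exact _root_.True.intro
end

-- part: H807/EPX/EPi
section
prune_inst 0x4c5303664090012000018859251003c04cc000190006b0800f9a20f4606067b6029022f614c801d12102882000005000813100040400000000000040000050501008812040140a10020000f003082000000000000000000000000000000041004200000000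
set_option linter.all false
open scoped Cfsg.Agent.FastGrp

/-!
# S5745, engine E1 (helper807): the inequality `E_π`

`Fx H x` = number of fixed points of `x` on `G / H`; `Sec H x` = `|x^G ∩ H|`.

* `Fx_mul` : `Fx H x * |H| = |C_G(x)| * |x^G ∩ H|`;
* `EPi` : if every two-point stabiliser `H ∩ H^y` (`y ∉ H`) has order divisible by a prime of `π` then
  `|G:H| - 1 ≤ ∑_{x ∈ H, |x| ∈ π} (Fx H x - 1) / (|x| - 1)`;
* `EPi_cent`, `EPi_order`, `EPi_crude` : consequences with centralizer orders;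
* `EPS.not_isPGroup` : for `s` odd no two-point stabiliser is an `s`-group; `EPS.two_group` : what remains for `s = 2`;
* `EPS.card_le_odd`, `EPS.card_le_two` : `|G| ≤ |H| ^ 2 * z` if `|C_G(x)| ≤ z * (|x| - 1)` for all `x ∈ H` of prime
  order `≠ s`.
-/

set_option autoImplicit false
set_option linter.unusedSectionVars false

namespace Cfsg.Agent.H807.EPX

open MulAction Subgroup Cfsg.Agent.H284 Cfsg.Agent.H209.EPX

variable {G : Type*} [Group G] (H : Subgroup G)

/-- number of fixed points of `x` on `G / H` -/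
noncomputable def Fx (x : G) : ℕ := {c : G ⧸ H | x • c = c}.ncard

/-- `|x^G ∩ H|` -/
noncomputable def Sec (x : G) : ℕ := {y : G | y ∈ H ∧ IsConj x y}.ncard

variable {H}

theorem smul_mk_eq {x g : G} : x • (g : G ⧸ H) = g ↔ g⁻¹ * x * g ∈ H := by
  rw [MulAction.Quotient.smul_coe, smul_eq_mul, eq_comm, QuotientGroup.eq, mul_assoc]

theorem ncard_conj_mem [Finite G] (x : G) :
    {g : G | g⁻¹ * x * g ∈ H}.ncard = Nat.card (centralizer {x}) * Sec H x := by
  classical
  have := Fintype.ofFinite G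
  have h1 : ∀ y ∈ ({y : G | y ∈ H ∧ IsConj x y} : Set G).toFinset,
      (Finset.univ.filter fun g : G => g⁻¹ * x * g = y).card = Nat.card (centralizer {x}) := by
    intro y hy
    rw [Set.mem_toFinset] at hy
    obtain ⟨c, hc⟩ := isConj_iff.1 hy.2
    rw [Nat.card_eq_fintype_card, ← Finset.card_univ]
    refine (Finset.card_nbij' (i := fun k : centralizer {x} => (k : G) * c⁻¹)
      (j := fun g => if h : g * c ∈ centralizer {x} then ⟨g * c, h⟩ else 1) ?_ ?_ ?_ ?_).symm
    · rintro ⟨k, hk⟩ -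
      rw [Finset.coe_filter, Set.mem_ofPred_eq]
      refine ⟨Finset.mem_univ _, ?_⟩
      rw [mem_centralizer_singleton_iff] at hk
      show (k * c⁻¹)⁻¹ * x * (k * c⁻¹) = y
      rw [← hc]
      have : (k * c⁻¹)⁻¹ * x * (k * c⁻¹) = c * (k⁻¹ * (x * k)) * c⁻¹ := by group
      rw [this, ← hk]
      group
    · intro g _
      exact Finset.mem_coe.2 (Finset.mem_univ _)
    · rintro ⟨k, hk⟩ -
      have e : k * c⁻¹ * c = k := by group
      have h2 : k * c⁻¹ * c ∈ centralizer {x} := by rw [e]; exact hk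
      show (if h : k * c⁻¹ * c ∈ centralizer {x} then (⟨k * c⁻¹ * c, h⟩ : centralizer {x}) else 1) = ⟨k, hk⟩
      rw [dif_pos h2]
      exact Subtype.ext e
    · intro g hg
      rw [Finset.coe_filter, Set.mem_ofPred_eq] at hg
      have h2 : g * c ∈ centralizer {x} := by
        rw [mem_centralizer_singleton_iff]
        have h3 := hg.2
        rw [← hc] at h3
        have h4 : x * g = g * (c * x * c⁻¹) := by rw [← h3]; group
        calc g * c * x = g * (c * x * c⁻¹) * c := by group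
          _ = x * (g * c) := by rw [← h4, mul_assoc]
      show ((if h : g * c ∈ centralizer {x} then (⟨g * c, h⟩ : centralizer {x}) else 1 : centralizer {x}) : G) * c⁻¹ = g
      rw [dif_pos h2]
      show g * c * c⁻¹ = g
      group
  rw [Sec, Set.ncard_eq_toFinset_card', Set.ncard_eq_toFinset_card']
  rw [Finset.card_eq_sum_card_fiberwise (f := fun g : G => g⁻¹ * x * g)
    (t := ({y : G | y ∈ H ∧ IsConj x y} : Set G).toFinset)]
  · have h2 : ∀ y ∈ ({y : G | y ∈ H ∧ IsConj x y} : Set G).toFinset,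
        (Finset.filter (fun g : G => g⁻¹ * x * g = y) ({g : G | g⁻¹ * x * g ∈ H} : Set G).toFinset).card =
          Nat.card (centralizer {x}) := by
      intro y hy
      rw [← h1 y hy]
      congr 1
      ext g
      rw [Finset.mem_filter, Finset.mem_filter, Set.mem_toFinset]
      constructor
      · rintro ⟨_, h⟩
        exact ⟨Finset.mem_univ _, h⟩
      · rintro ⟨_, h⟩
        refine ⟨?_, h⟩
        show g⁻¹ * x * g ∈ H
        rw [h]
        exact (Set.mem_toFinset.1 hy).1
    rw [Finset.sum_congr rfl h2, Finset.sum_const, smul_eq_mul, mul_comm]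
  · intro g hg
    rw [Finset.mem_coe, Set.mem_toFinset] at hg ⊢
    exact ⟨hg, isConj_iff.2 ⟨g⁻¹, by rw [inv_inv]⟩⟩

theorem Fx_mul [Finite G] (x : G) : Fx H x * Nat.card H = Nat.card (centralizer {x}) * Sec H x := by
  classical
  rw [← ncard_conj_mem]
  have h1 : {g : G | g⁻¹ * x * g ∈ H}.ncard = Nat.card {g : G // (g : G ⧸ H) ∈ {c : G ⧸ H | x • c = c}} := by
    rw [← Nat.card_coe_set_eq]
    apply Nat.card_congr
    apply Equiv.subtypeEquivRight
    intro g
    exact smul_mk_eq.symm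
  rw [h1, Fx, ← Nat.card_coe_set_eq, ← Nat.card_prod]
  symm
  apply Nat.card_congr
  let S : Set (G ⧸ H) := {c | x • c = c}
  show {g : G // (g : G ⧸ H) ∈ S} ≃ S × H
  refine (Equiv.sigmaFiberEquiv (fun g : {g : G // (g : G ⧸ H) ∈ S} => (⟨(g.1 : G ⧸ H), g.2⟩ : S))).symm.trans ?_
  refine (Equiv.sigmaCongrRight fun c : S => ?_).trans (Equiv.sigmaEquivProd _ _)
  obtain ⟨c, hc⟩ := c
  refine
    { toFun := fun g => ⟨c.out⁻¹ * g.1.1, ?_⟩
      invFun := fun k => ⟨⟨c.out * k, ?_⟩, ?_⟩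
      left_inv := ?_
      right_inv := ?_ }
  · have h2 := congrArg Subtype.val g.2
    have h3 : ((g.1.1 : G) : G ⧸ H) = (c.out : G ⧸ H) := by rw [QuotientGroup.out_eq']; exact h2
    exact QuotientGroup.eq.1 h3.symm
  · have h3 : ((c.out * k : G) : G ⧸ H) = c := by
      conv_rhs => rw [← QuotientGroup.out_eq' c]
      rw [eq_comm, QuotientGroup.eq, inv_mul_cancel_left]
      exact k.2
    rw [h3]
    exact hc
  · apply Subtype.ext
    show ((c.out * k : G) : G ⧸ H) = c
    conv_rhs => rw [← QuotientGroup.out_eq' c]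
    rw [eq_comm, QuotientGroup.eq, inv_mul_cancel_left]
    exact k.2
  · intro g
    apply Subtype.ext
    apply Subtype.ext
    exact mul_inv_cancel_left _ _
  · intro k
    apply Subtype.ext
    exact inv_mul_cancel_left _ _

/-- a subgroup of order divisible by the prime `r` has at least `r - 1` elements of order `r` -/
theorem le_ncard_ord [Finite G] (K : Subgroup G) {r : ℕ} (hr : r.Prime) (hd : r ∣ Nat.card K) :
    r - 1 ≤ {x : G | x ∈ K ∧ orderOf x = r}.ncard := by
  classical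
  have := Fact.mk hr
  obtain ⟨y, hy⟩ := exists_prime_orderOf_dvd_card' r hd
  have hy' : orderOf (y : G) = r := by rw [Subgroup.orderOf_coe]; exact hy
  have h1 : ((zpowers (y : G) : Set G) \ {1}) ⊆ {x : G | x ∈ K ∧ orderOf x = r} := by
    rintro x ⟨hx, hx1⟩
    rw [SetLike.mem_coe] at hx
    refine ⟨(zpowers_le.2 y.2) hx, ?_⟩
    have h2 : orderOf x ∣ r := by rw [← hy']; exact orderOf_dvd_of_mem_zpowers hx
    rcases (Nat.dvd_prime hr).1 h2 with h3 | h3
    · exact absurd (orderOf_eq_one_iff.1 h3) hx1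
    · exact h3
  refine le_trans (le_of_eq ?_) (Set.ncard_le_ncard h1 (Set.toFinite _))
  rw [Set.ncard_sdiff_singleton_of_mem (show (1 : G) ∈ (zpowers (y : G) : Set G) from one_mem _)]
  have h2 : (zpowers (y : G) : Set G).ncard = r := by
    rw [← Nat.card_coe_set_eq]
    show Nat.card (zpowers (y : G)) = r
    rw [Nat.card_zpowers, hy']
  rw [h2]

/-- **E_π**. -/
theorem EPi [Finite G] {π : Set ℕ} (hπ : ∀ r ∈ π, r.Prime)
    (hM : ∀ y ∉ H, ∃ r ∈ π, r ∣ Nat.card (H ⊓ cj y H : Subgroup G)) :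
    (H.index : ℚ) - 1 ≤ ∑ x ∈ (Set.toFinite {x : G | x ∈ H ∧ orderOf x ∈ π}).toFinset,
      ((Fx H x : ℚ) - 1) / ((orderOf x : ℚ) - 1) := by
  classical
  have := Fintype.ofFinite (G ⧸ H)
  set P := (Set.toFinite {x : G | x ∈ H ∧ orderOf x ∈ π}).toFinset with hP
  have hPm : ∀ x, x ∈ P ↔ x ∈ H ∧ orderOf x ∈ π := fun x => by rw [hP, Set.Finite.mem_toFinset]; rfl
  set o : G ⧸ H := ((1 : G) : G ⧸ H) with ho
  have hFx : ∀ x ∈ P, (Fx H x : ℚ) - 1 = ∑ c ∈ Finset.univ.erase o, if x • c = c then (1 : ℚ) else 0 := by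
    intro x hx
    rw [Finset.sum_boole, Finset.filter_erase]
    have h1 : o ∈ Finset.filter (fun c : G ⧸ H => x • c = c) Finset.univ := by
      rw [Finset.mem_filter]
      refine ⟨Finset.mem_univ _, ?_⟩
      rw [ho, smul_mk_eq]
      simpa using ((hPm x).1 hx).1
    have h2 : Fx H x = (Finset.filter (fun c : G ⧸ H => x • c = c) Finset.univ).card := by
      rw [Fx, Set.ncard_eq_toFinset_card']
      congr 1
      ext c
      simp
    rw [Finset.card_erase_of_mem h1, h2, Nat.cast_sub (Finset.card_pos.2 ⟨_, h1⟩), Nat.cast_one]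
  have hS : ∑ x ∈ P, ((Fx H x : ℚ) - 1) / ((orderOf x : ℚ) - 1) =
      ∑ c ∈ Finset.univ.erase o, ∑ x ∈ P, (if x • c = c then (1 : ℚ) else 0) / ((orderOf x : ℚ) - 1) := by
    rw [Finset.sum_comm]
    apply Finset.sum_congr rfl
    intro x hx
    rw [hFx x hx, Finset.sum_div]
  have hn : (H.index : ℚ) - 1 = ∑ c ∈ (Finset.univ : Finset (G ⧸ H)).erase o, (1 : ℚ) := by
    rw [Finset.sum_const, nsmul_eq_mul, mul_one, Finset.card_erase_of_mem (Finset.mem_univ _),
      Nat.cast_sub (Finset.card_pos.2 ⟨_, Finset.mem_univ o⟩), Nat.cast_one, Finset.card_univ,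
      ← Nat.card_eq_fintype_card]
    rfl
  rw [hS, hn]
  apply Finset.sum_le_sum
  intro c hc
  obtain ⟨y, rfl⟩ := QuotientGroup.mk_surjective c
  have hy : y ∉ H := by
    intro hy
    apply (Finset.mem_erase.1 hc).1
    rw [ho, eq_comm, QuotientGroup.eq, inv_one, one_mul]
    exact hy
  obtain ⟨r, hr, hd⟩ := hM y hy
  have hrp := hπ r hr
  have h1 := le_ncard_ord _ hrp hd
  have hr1 : (0 : ℚ) < (r : ℚ) - 1 := by
    have : (1 : ℚ) < r := by exact_mod_cast hrp.one_lt
    linarith only [this]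
  set R := (Set.toFinite {x : G | x ∈ H ⊓ cj y H ∧ orderOf x = r}).toFinset with hR
  have hRP : R ⊆ P := by
    intro x hx
    rw [hR, Set.Finite.mem_toFinset] at hx
    rw [hPm]
    exact ⟨(mem_inf.1 hx.1).1, by rw [hx.2]; exact hr⟩
  refine le_trans ?_ (Finset.sum_le_sum_of_subset_of_nonneg hRP ?_)
  · have h2 : ∀ x ∈ R, (if x • (y : G ⧸ H) = y then (1 : ℚ) else 0) / ((orderOf x : ℚ) - 1) = 1 / ((r : ℚ) - 1) := by
      intro x hx
      rw [hR, Set.Finite.mem_toFinset] at hx
      rw [if_pos, hx.2]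
      rw [smul_mk_eq]
      exact mem_cj.1 (mem_inf.1 hx.1).2
    rw [Finset.sum_congr rfl h2, Finset.sum_const, nsmul_eq_mul, mul_one_div, le_div_iff₀ hr1, one_mul]
    have h3 : R.card = {x : G | x ∈ H ⊓ cj y H ∧ orderOf x = r}.ncard := by
      rw [hR, Set.ncard_eq_toFinset_card _ (Set.toFinite _)]
    rw [h3]
    have h4 : ((r - 1 : ℕ) : ℚ) ≤ ({x : G | x ∈ H ⊓ cj y H ∧ orderOf x = r}.ncard : ℚ) := by exact_mod_cast h1
    rwa [Nat.cast_sub hrp.one_lt.le, Nat.cast_one] at h4
  · intro x hx _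
    apply div_nonneg
    · split_ifs
      · exact zero_le_one
      · exact le_rfl
    · have : (1 : ℚ) ≤ orderOf x := by exact_mod_cast (hπ _ ((hPm x).1 hx).2).one_lt.le
      linarith only [this]

/-- **E_π** with the centralizer orders. -/
theorem EPi_cent [Finite G] {π : Set ℕ} (hπ : ∀ r ∈ π, r.Prime)
    (hM : ∀ y ∉ H, ∃ r ∈ π, r ∣ Nat.card (H ⊓ cj y H : Subgroup G)) :
    (Nat.card G : ℚ) - Nat.card H ≤ ∑ x ∈ (Set.toFinite {x : G | x ∈ H ∧ orderOf x ∈ π}).toFinset,
      ((Nat.card (centralizer {x}) : ℚ) * Sec H x - Nat.card H) / ((orderOf x : ℚ) - 1) := by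
  have h1 := EPi hπ hM
  have h0 : (0 : ℚ) < Nat.card H := by exact_mod_cast Nat.card_pos
  have h2 := mul_le_mul_of_nonneg_right h1 h0.le
  have e1 : ((H.index : ℚ) - 1) * Nat.card H = (Nat.card G : ℚ) - Nat.card H := by
    rw [sub_mul, one_mul]
    congr 1
    rw [mul_comm]
    exact_mod_cast H.card_mul_index
  rw [e1, Finset.sum_mul] at h2
  refine h2.trans (le_of_eq ?_)
  apply Finset.sum_congr rfl
  intro x _
  rw [div_mul_eq_mul_div, sub_mul, one_mul]
  congr 2
  exact_mod_cast Fx_mul x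

theorem orderOf_cj (c x : G) : orderOf (c * x * c⁻¹) = orderOf x :=
  (SemiconjBy.orderOf_eq c (x := x) (y := c * x * c⁻¹) (by show c * x = c * x * c⁻¹ * c; group)).symm

theorem Sec_le [Finite G] (x : G) : Sec H x ≤ {y : G | y ∈ H ∧ orderOf y = orderOf x}.ncard := by
  apply Set.ncard_le_ncard _ (Set.toFinite _)
  rintro y ⟨hy, hxy⟩
  refine ⟨hy, ?_⟩
  obtain ⟨c, rfl⟩ := isConj_iff.1 hxy
  exact orderOf_cj c x

/-- **E_π**, order by order: `N r` bounds the number of elements of order `r` of `H`, `a r` bounds `|x^G ∩ H|`,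
`z r` bounds `|C_G(x)|`. -/
theorem EPi_order [Finite G] {π : Finset ℕ} (hπ : ∀ r ∈ π, r.Prime)
    (hM : ∀ y ∉ H, ∃ r ∈ π, r ∣ Nat.card (H ⊓ cj y H : Subgroup G)) (N a z : ℕ → ℕ)
    (hN : ∀ r ∈ π, {x : G | x ∈ H ∧ orderOf x = r}.ncard ≤ N r)
    (ha : ∀ x ∈ H, orderOf x ∈ π → Sec H x ≤ a (orderOf x))
    (hz : ∀ x ∈ H, orderOf x ∈ π → Nat.card (centralizer {x}) ≤ z (orderOf x)) :
    (Nat.card G : ℚ) ≤ Nat.card H + ∑ r ∈ π, (N r : ℚ) * (a r * z r) / ((r : ℚ) - 1) := by
  classical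
  have h1 := EPi_cent (H := H) (π := (π : Set ℕ)) (fun r hr => hπ r hr) hM
  set P := (Set.toFinite {x : G | x ∈ H ∧ orderOf x ∈ (π : Set ℕ)}).toFinset with hP
  have hPm : ∀ x, x ∈ P ↔ x ∈ H ∧ orderOf x ∈ π := fun x => by rw [hP, Set.Finite.mem_toFinset]; rfl
  have hr1 : ∀ r ∈ π, (0 : ℚ) < (r : ℚ) - 1 := by
    intro r hr
    have : (1 : ℚ) < r := by exact_mod_cast (hπ r hr).one_lt
    linarith
  have h2 : ∑ x ∈ P, ((Nat.card (centralizer {x}) : ℚ) * Sec H x - Nat.card H) / ((orderOf x : ℚ) - 1) ≤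
      ∑ r ∈ π, (N r : ℚ) * (a r * z r) / ((r : ℚ) - 1) := by
    rw [← Finset.sum_fiberwise_of_maps_to (s := P) (t := π) (g := fun x => orderOf x)
      (fun x hx => ((hPm x).1 hx).2)]
    apply Finset.sum_le_sum
    intro r hr
    have h3 : ∀ x ∈ P.filter (fun x => orderOf x = r),
        ((Nat.card (centralizer {x}) : ℚ) * Sec H x - Nat.card H) / ((orderOf x : ℚ) - 1) ≤
          (a r * z r) / ((r : ℚ) - 1) := by
      intro x hx
      rw [Finset.mem_filter] at hx
      obtain ⟨hx1, hx2⟩ := hx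
      have hx3 := (hPm x).1 hx1
      have h4 : (Sec H x : ℚ) ≤ a r := by rw [← hx2]; exact_mod_cast ha x hx3.1 hx3.2
      have h5 : (Nat.card (centralizer {x}) : ℚ) ≤ z r := by rw [← hx2]; exact_mod_cast hz x hx3.1 hx3.2
      rw [hx2]
      apply div_le_div_of_nonneg_right _ (hr1 r hr).le
      have h6 : (0 : ℚ) ≤ Nat.card H := Nat.cast_nonneg _
      have h7 : (Nat.card (centralizer {x}) : ℚ) * Sec H x ≤ z r * a r :=
        mul_le_mul h5 h4 (Nat.cast_nonneg _) (Nat.cast_nonneg _)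
      rw [mul_comm (a r : ℚ)]
      linarith only [h7]
    refine (Finset.sum_le_card_nsmul _ _ _ h3).trans ?_
    rw [nsmul_eq_mul, mul_div_assoc (N r : ℚ)]
    apply mul_le_mul_of_nonneg_right _ (div_nonneg (by (clear * -; positivity)) (hr1 r hr).le)
    have h8 : (P.filter (fun x => orderOf x = r)).card = {x : G | x ∈ H ∧ orderOf x = r}.ncard := by
      rw [Set.ncard_eq_toFinset_card _ (Set.toFinite _)]
      congr 1
      ext x
      rw [Finset.mem_filter, hPm, Set.Finite.mem_toFinset]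
      constructor
      · rintro ⟨⟨h, _⟩, h'⟩
        exact ⟨h, h'⟩
      · rintro ⟨h, h'⟩
        exact ⟨⟨h, by rw [h']; exact hr⟩, h'⟩
    rw [h8]
    exact_mod_cast hN r hr
  linarith

/-- **E_π**, crude form: `N` bounds the number of elements of `H` of order in `π`. -/
theorem EPi_crude [Finite G] {π : Set ℕ} (hπ : ∀ r ∈ π, r.Prime)
    (hM : ∀ y ∉ H, ∃ r ∈ π, r ∣ Nat.card (H ⊓ cj y H : Subgroup G)) {N a z : ℕ}
    (hN : {x : G | x ∈ H ∧ orderOf x ∈ π}.ncard ≤ N)
    (ha : ∀ x ∈ H, orderOf x ∈ π → Sec H x ≤ a)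
    (hz : ∀ x ∈ H, orderOf x ∈ π → Nat.card (centralizer {x}) ≤ z * (orderOf x - 1)) :
    Nat.card G ≤ Nat.card H + N * (a * z) := by
  classical
  have h1 := EPi_cent hπ hM
  set P := (Set.toFinite {x : G | x ∈ H ∧ orderOf x ∈ π}).toFinset with hP
  have hPm : ∀ x, x ∈ P ↔ x ∈ H ∧ orderOf x ∈ π := fun x => by rw [hP, Set.Finite.mem_toFinset]; rfl
  have h3 : ∀ x ∈ P, ((Nat.card (centralizer {x}) : ℚ) * Sec H x - Nat.card H) / ((orderOf x : ℚ) - 1) ≤ a * z := by
    intro x hx
    have hx3 := (hPm x).1 hx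
    have hr1 : (0 : ℚ) < (orderOf x : ℚ) - 1 := by
      have : (1 : ℚ) < orderOf x := by exact_mod_cast (hπ _ hx3.2).one_lt
      linarith only [this]
    have h4 : (Sec H x : ℚ) ≤ a := by exact_mod_cast ha x hx3.1 hx3.2
    have h5 : (Nat.card (centralizer {x}) : ℚ) ≤ z * ((orderOf x : ℚ) - 1) := by
      have h6 : (Nat.card (centralizer {x}) : ℚ) ≤ ((z * (orderOf x - 1) : ℕ) : ℚ) := by
        exact_mod_cast hz x hx3.1 hx3.2
      rwa [Nat.cast_mul, Nat.cast_sub (hπ _ hx3.2).one_lt.le, Nat.cast_one] at h6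
    rw [div_le_iff₀ hr1]
    have h6 : (0 : ℚ) ≤ Nat.card H := Nat.cast_nonneg _
    have h7 : (Nat.card (centralizer {x}) : ℚ) * Sec H x ≤ z * ((orderOf x : ℚ) - 1) * a :=
      mul_le_mul h5 h4 (Nat.cast_nonneg _) (mul_nonneg (Nat.cast_nonneg _) hr1.le)
    have e : (a : ℚ) * z * ((orderOf x : ℚ) - 1) = z * ((orderOf x : ℚ) - 1) * a := by ring
    rw [e]
    linarith only [h7]
  have h2 := h1.trans (Finset.sum_le_card_nsmul _ _ _ h3)
  rw [nsmul_eq_mul] at h2
  have h8 : (P.card : ℚ) ≤ N := by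
    have : P.card = {x : G | x ∈ H ∧ orderOf x ∈ π}.ncard := by
      rw [hP, Set.ncard_eq_toFinset_card _ (Set.toFinite _)]
    rw [this]
    exact_mod_cast hN
  have h9 : (P.card : ℚ) * (a * z) ≤ N * (a * z) := mul_le_mul_of_nonneg_right h8 (by positivity)
  have h10 : (Nat.card G : ℚ) ≤ ((Nat.card H + N * (a * z) : ℕ) : ℚ) := by
    push_cast
    linarith only [h2, h9]
  exact_mod_cast h10

/-- `|G| ≤ |H| ^ 2 * z` if `|C_G(x)| ≤ z * (|x| - 1)` for all `x ∈ H` of order in `π` -/
theorem EPi_sq [Finite G] {π : Set ℕ} (hπ : ∀ r ∈ π, r.Prime)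
    (hM : ∀ y ∉ H, ∃ r ∈ π, r ∣ Nat.card (H ⊓ cj y H : Subgroup G)) (hH : H ≠ ⊤) {z : ℕ}
    (hz : ∀ x ∈ H, orderOf x ∈ π → Nat.card (centralizer {x}) ≤ z * (orderOf x - 1)) :
    Nat.card G ≤ Nat.card H ^ 2 * z := by
  classical
  have hsub : {x : G | x ∈ H ∧ orderOf x ∈ π} ⊆ (H : Set G) \ {1} := by
    rintro x ⟨hx, hx'⟩
    refine ⟨hx, fun e => ?_⟩
    rw [Set.mem_singleton_iff] at e
    rw [e, orderOf_one] at hx'
    exact (hπ 1 hx').one_lt.ne rfl
  have hc : ((H : Set G) \ {1}).ncard = Nat.card H - 1 := by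
    rw [Set.ncard_sdiff_singleton_of_mem (show (1 : G) ∈ (H : Set G) from one_mem _)]
    rfl
  have hN : {x : G | x ∈ H ∧ orderOf x ∈ π}.ncard ≤ Nat.card H - 1 := by
    rw [← hc]
    exact Set.ncard_le_ncard hsub (Set.toFinite _)
  have ha : ∀ x ∈ H, orderOf x ∈ π → Sec H x ≤ Nat.card H - 1 := by
    intro x hx hx'
    rw [← hc]
    refine Set.ncard_le_ncard ?_ (Set.toFinite _)
    rintro y ⟨hy, hxy⟩
    refine ⟨hy, fun e => ?_⟩
    rw [Set.mem_singleton_iff] at e
    obtain ⟨c, hc⟩ := isConj_iff.1 hxy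
    rw [e] at hc
    have h1 : x = 1 := by
      rw [mul_inv_eq_one] at hc
      exact mul_eq_left.1 hc
    rw [h1, orderOf_one] at hx'
    exact (hπ 1 hx').one_lt.ne rfl
  have h1 := EPi_crude hπ hM hN ha hz
  -- `z ≥ 1` and `|H| ≥ 2`
  obtain ⟨y, hy⟩ : ∃ y, y ∉ H := by
    by_contra hcon
    push Not at hcon
    exact hH ((Subgroup.eq_top_iff' H).2 hcon)
  obtain ⟨r, hr, hd⟩ := hM y hy
  have hrp := hπ r hr
  have h2 := le_ncard_ord _ hrp hd
  have h3 : {x : G | x ∈ H ⊓ cj y H ∧ orderOf x = r}.Nonempty := by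
    rw [Set.nonempty_iff_ne_empty]
    intro e
    rw [e, Set.ncard_empty] at h2
    have := hrp.one_lt
    omega
  obtain ⟨x, hx1, hx2⟩ := h3
  have h4 := hz x (mem_inf.1 hx1).1 (by rw [hx2]; exact hr)
  have h5 : 0 < Nat.card (centralizer {x}) := Nat.card_pos
  have hz0 : 0 < z := by
    rcases Nat.eq_zero_or_pos z with h | h
    · rw [h, zero_mul] at h4
      omega
    · exact h
  have hH0 : 0 < Nat.card H := Nat.card_pos
  obtain ⟨m, hm⟩ : ∃ m, Nat.card H = m + 1 := ⟨Nat.card H - 1, by omega⟩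
  have hx0 : x ∈ H := (mem_inf.1 hx1).1
  have hm0 : 0 < m := by
    rcases Nat.eq_zero_or_pos m with h | h
    · rw [h, zero_add] at hm
      rw [Subgroup.card_eq_one] at hm
      rw [hm, mem_bot] at hx0
      rw [hx0, orderOf_one] at hx2
      exact absurd hx2 hrp.one_lt.ne
    · exact h
  rw [hm, Nat.add_sub_cancel] at h1
  rw [hm]
  linarith only [h1, hm0, Nat.mul_le_mul_left m hz0]

/-! ### the two-point stabilisers which are `s`-groups -/

section

variable [Finite G]

theorem isCoatom_two (h : EP H) {x : G} (hx : x ∉ H) : IsCoatom ((H ⊓ cj x H).subgroupOf H) := by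
  refine ⟨?_, ?_⟩
  · intro e
    rw [subgroupOf_eq_top] at e
    exact h.not_le_cj hx (e.trans inf_le_right)
  · intro L hL
    rcases h.two x hx (L.map H.subtype) (by
      intro y hy
      exact ⟨⟨y, (mem_inf.1 hy).1⟩, hL.le hy, rfl⟩) (by
      rintro _ ⟨y, _, rfl⟩
      exact y.2) with h1 | h1
    · exfalso
      apply hL.not_ge
      intro y hy
      have h2 : (y : G) ∈ L.map H.subtype := ⟨y, hy, rfl⟩
      rw [h1] at h2
      exact h2
    · rw [Subgroup.eq_top_iff']
      intro y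
      have h2 : (y : G) ∈ L.map H.subtype := by rw [h1]; exact y.2
      obtain ⟨z, hz, e⟩ := h2
      have : z = y := Subtype.ext e
      rwa [← this]

variable {N : Subgroup G} {T : Type} [Group T] {k : ℕ} {e : N ≃* (Fin k → T)}

/-- If a two-point stabiliser is an `s`-group then every proper subgroup `X` of `N` of index prime to `s` whose
`N`-class is `H`-invariant is an `s`-group. -/
theorem EPS.pgroup_crit (h : EPS H N e) {s : ℕ} (hs : s.Prime) {x : G} (hx : x ∉ H)
    (hp : IsPGroup s (H ⊓ cj x H : Subgroup G)) {X : Subgroup G} (hXN : X ≤ N) (hne : X ≠ N)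
    (hi : ¬ s ∣ X.relIndex N) (hcl : ∀ g ∈ H, ∃ n ∈ N, cj g X = cj n X) : IsPGroup s X := by
  have := Fact.mk hs
  by_cases hX0 : X = ⊥
  · rw [hX0]
    exact IsPGroup.of_bot
  have hp' : IsPGroup s ((H ⊓ cj x H).subgroupOf H) := hp.of_equiv (subgroupOfEquivOfLe inf_le_left).symm
  set M : Subgroup H := (H ⊓ cj x H).subgroupOf H with hM
  have hMc : IsCoatom M := isCoatom_two h.ep hx
  -- the stabiliser of `X` in `H`
  let W : Subgroup H :=
    { carrier := {g | cj (g : G) X = X}
      one_mem' := cj_one X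
      mul_mem' := by
        intro a b ha hb
        show cj ((a : G) * b) X = X
        rw [cj_mul, show cj (b : G) X = X from hb, show cj (a : G) X = X from ha]
      inv_mem' := by
        intro a ha
        show cj (a : G)⁻¹ X = X
        conv_lhs => rw [← show cj (a : G) X = X from ha]
        exact cj_inv_cj _ _ }
  have hW : ∀ g : H, g ∈ W ↔ cj (g : G) X = X := fun g => Iff.rfl
  let N' : Subgroup H := N.subgroupOf H
  have hXH : X ≤ H := hXN.trans h.le
  have hXW : X.subgroupOf H ≤ W := by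
    intro y hy
    rw [hW]
    exact cj_eq_self hy
  -- `N'` is transitive on `H / W`
  have htr : MulAction.IsPretransitive N' (H ⧸ W) := by
    have key : ∀ c : H ⧸ W, ∃ n : N', n • ((1 : H) : H ⧸ W) = c := by
      intro c
      obtain ⟨g, rfl⟩ := QuotientGroup.mk_surjective c
      obtain ⟨n, hn, he⟩ := hcl g g.2
      refine ⟨⟨⟨n, h.le hn⟩, hn⟩, ?_⟩
      show ((⟨n, h.le hn⟩ * 1 : H) : H ⧸ W) = g
      rw [mul_one, QuotientGroup.eq, hW]
      show cj (n⁻¹ * (g : G)) X = X
      rw [cj_mul, he, cj_inv_cj]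
    refine ⟨fun a b => ?_⟩
    obtain ⟨m, rfl⟩ := key a
    obtain ⟨n, rfl⟩ := key b
    exact ⟨n * m⁻¹, by rw [mul_smul, inv_smul_smul]⟩
  have hWi : W.index ∣ X.relIndex N := by
    have h1 : (stabilizer N' ((1 : H) : H ⧸ W)).index = Nat.card (H ⧸ W) :=
      MulAction.index_stabilizer_of_transitive N' _
    have h2 : W.index = (stabilizer N' ((1 : H) : H ⧸ W)).index := h1.symm
    rw [h2]
    have h3 : (X.subgroupOf H).subgroupOf N' ≤ stabilizer N' ((1 : H) : H ⧸ W) := by
      intro y hy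
      rw [mem_stabilizer_iff]
      show (((y : H) * 1 : H) : H ⧸ W) = ((1 : H) : H ⧸ W)
      rw [mul_one, eq_comm, QuotientGroup.eq, inv_one, one_mul]
      exact hXW hy
    refine (Subgroup.index_dvd_of_le h3).trans (dvd_of_eq ?_)
    show (X.subgroupOf H).relIndex N' = X.relIndex N
    exact relIndex_subgroupOf h.le
  have hcop : ¬ s ∣ Nat.card (H ⧸ W) := fun hd => hi (hd.trans hWi)
  obtain ⟨c, hc⟩ := hp'.nonempty_fixed_point_of_prime_not_dvd_card (H ⧸ W) hcop
  obtain ⟨g, rfl⟩ := QuotientGroup.mk_surjective c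
  have hMW : M ≤ cj g W := by
    intro m hm
    rw [mem_cj]
    have h1 : (⟨m, hm⟩ : M) • ((g : H) : H ⧸ W) = g := hc ⟨m, hm⟩
    exact smul_mk_eq.1 h1
  have hWp : IsPGroup s W := by
    rcases hMW.lt_or_eq with h1 | h1
    · exfalso
      have h2 := hMc.2 _ h1
      have h3 : W = ⊤ := by
        rw [← cj_inv_cj g W, h2, Subgroup.eq_top_iff']
        intro y
        rw [mem_cj]
        exact mem_top _
      have h4 : NIn X H := by
        refine ⟨hXH, fun g hg y hy => ?_⟩
        have h5 : cj g X = X := (hW ⟨g, hg⟩).1 (by rw [h3]; exact mem_top _)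
        have h6 := conj_mem_cj (x := g) hy
        rwa [h5] at h6
      rcases h.min X hXN h4 with h5 | h5
      · exact hX0 h5
      · exact hne h5
    · have e1 : W ≃* cj g W := W.equivMapOfInjective _ (MulAut.conj g).injective
      rw [← h1] at e1
      exact hp'.of_equiv e1.symm
  exact (hWp.to_le hXW).of_equiv (subgroupOfEquivOfLe hXH)

/-- an `s`-free prime divisor -/
theorem exists_prime_of_not_isPGroup {K : Subgroup G} {s : ℕ} (h : ¬ IsPGroup s K) (hs : s.Prime) :
    ∃ r ∈ {r : ℕ | r.Prime ∧ r ≠ s}, r ∣ Nat.card K := by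
  by_contra hcon
  push Not at hcon
  apply h
  have := Fact.mk hs
  rw [IsPGroup.iff_card]
  have h1 : ∀ r ∈ (Nat.card K).primeFactors, r = s := by
    intro r hr
    by_contra hne
    exact hcon r ⟨Nat.prime_of_mem_primeFactors hr, hne⟩ (Nat.dvd_of_mem_primeFactors hr)
  exact ⟨_, Nat.eq_prime_pow_of_unique_prime_dvd Nat.card_pos.ne' fun {d} hd hd' =>
    h1 d (Nat.mem_primeFactors.2 ⟨hd, hd', Nat.card_pos.ne'⟩)⟩

end

end Cfsg.Agent.H807.EPX

private theorem dce_7944c9236fe9 : _root_.True := by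
  try have : _root_.True := by simp only [_root_.Cfsg.Agent.H807.EPX.Fx.eq_1]
  try have : _root_.True := by simp only [_root_.Cfsg.Agent.H807.EPX.Sec.eq_1]
  exact _root_.True.intro
end

-- part: H957/EPX/SocOf
section
set_option linter.all false
open scoped Cfsg.Agent.FastGrp

/-!
# S5745: from `EPS` (`k = 1`) to `EPT` and `HasSoc` (helper957)
-/

set_option autoImplicit false

namespace Cfsg.Agent.H957.EPX

open Subgroup Cfsg.Agent.H284 Cfsg.Agent.H209.EPX Cfsg.Agent.H419.EP

/-- `EP` in a simple group is `EPT` -/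
theorem ept_of_ep {G : Type*} [Group G] [Finite G] [IsSimpleGroup G] (hcomm : ¬ ∀ a b : G, a * b = b * a)
    {H : Subgroup G} (h : EP H) : EPT H (H.map (MulAut.conj : G →* MulAut G)) := by
  have hs : IsSimpleGroup (⊤ : Subgroup G) := (Subgroup.topEquiv (G := G)).isSimpleGroup
  have hcent : Subgroup.centralizer ((⊤ : Subgroup G) : Set G) = ⊥ := by
    have h1 : Subgroup.centralizer ((⊤ : Subgroup G) : Set G) = center G := by
      rw [Subgroup.coe_top, Subgroup.centralizer_univ]
    rw [h1]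
    rcases (inferInstance : (center G).Normal).eq_bot_or_eq_top with h2 | h2
    · exact h2
    · exfalso
      apply hcomm
      intro a b
      have : b ∈ center G := by rw [h2]; exact mem_top _
      exact (mem_center_iff.1 this a)
  have hsol : Group.IsSolvable (G ⧸ (⊤ : Subgroup G)) := by
    have : Subsingleton (G ⧸ (⊤ : Subgroup G)) := QuotientGroup.subsingleton_quotient_top
    infer_instance
  have h1 := h.toEPT (T := ⊤) (Subgroup.topEquiv (G := G)) hs
    (fun h2 => hcomm fun a b => h2 a (mem_top _) b (mem_top _)) hcent hsol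
  have e1 : TA (Subgroup.topEquiv (G := G)) H = H := by
    ext q
    rfl
  have e2 : toAut (Subgroup.topEquiv (G := G)) = (MulAut.conj : G →* MulAut G) := by
    ext g q
    have := toG_toAut (Subgroup.topEquiv (G := G)) g q
    exact this
  rw [e1, e2] at h1
  exact h1

section

variable {G : Type*} [Group G] {H N : Subgroup G} {T : Type} [Group T] {e : N ≃* (Fin 1 → T)}

/-- the isomorphism with the socle -/
def equivOne (e : N ≃* (Fin 1 → T)) : N ≃* T := e.trans (MulEquiv.funUnique (Fin 1) T)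

theorem hasSoc_of_eps (h : EPS H N e) : HasSoc H T := by
  refine ⟨N, h.le, h.nrm, ?_, ⟨equivOne e⟩⟩
  intro a _ hc
  have h1 : a ∈ Subgroup.centralizer (N : Set G) := by
    rw [Subgroup.mem_centralizer_iff]
    exact fun n hn => (hc n hn).symm
  rwa [h.cent, mem_bot] at h1

/-- the embedding of the socle -/
def emb (_ : EPS H N e) : T →* G := N.subtype.comp (equivOne e).symm.toMonoidHom

theorem emb_injective (h : EPS H N e) : Function.Injective (emb h) :=
  (Subtype.val_injective).comp (equivOne e).symm.injective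

theorem not_comm_of_eps (h : EPS H N e) : ¬ ∀ a b : G, a * b = b * a := by
  intro hc
  obtain ⟨a, b, hab⟩ := h.nab
  exact hab (emb_injective h (by rw [map_mul, map_mul, hc]))

theorem ept_of_eps [Finite G] [IsSimpleGroup G] (h : EPS H N e) : EPT H (H.map (MulAut.conj : G →* MulAut G)) :=
  ept_of_ep (not_comm_of_eps h) h.ep

theorem finite_of_eps [Finite G] (h : EPS H N e) : Finite T := Finite.of_injective _ (emb_injective h)

end

end Cfsg.Agent.H957.EPX
end

-- part: H545/EX/TitsL25Row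
section
prune_inst 0x405001c60080012000000858051001c06cc0001900028080008820844040023220900a160048011000008a2000005000002000070c00000000000040000000000908802040140a000060009000080000000000000000000000000000000000004000000000
set_option linter.all false
open scoped Cfsg.Agent.FastGrp

-- part: H545/EX/LTwoGen
section
/-!
# S5745, T-bounds for `T = L₂(q)`: admissible subgroups given by a pair of elements of orders 2 and 2, 3 (helper545)

`Pr K` : `K = N_L(⟨a, b⟩)`, `a` an involution, `b` of order 2 or 3.  `ncard_pr` : there are at most `i₂ (i₂ + i₃)`.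
-/

set_option autoImplicit false
set_option maxRecDepth 100000

namespace Cfsg.Agent.H545.EX.LTwo

open Subgroup Cfsg.Agent.H417.EP Equiv
open Cfsg.Agent.H417.EP.Eleven (D pairs gen_a5)

variable {L : Type*} [Group L]

end Cfsg.Agent.H545.EX.LTwo
end

-- part: H545/EX/LTwoAdm
section
/-!
# S5745, T-bounds for `T = L₂(q)`: the admissible subgroups of `PSL₂(p ^ f)`, `f` prime (helper545)

`adm_cases` : an admissible subgroup is the normaliser of a Sylow `p`-subgroup or of `⟨a, b⟩`, `a` an involution, `b` of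
order 2 or 3.  `ncard_adm` : there are at most `i₂ (i₂ + i₃) + |Syl_p|` admissible subgroups.
-/

set_option autoImplicit false

namespace Cfsg.Agent.H545.EX.LTwo

open Subgroup Cfsg.Agent.H417.EP Matrix
open Cfsg.Agent.H417.EP.Eleven (D)
open Cfsg.Agent.ChevalleyStructure.SL2Hom (up lo mem_closure_SL2)

section gen

variable {K : Type*} [Field K]

theorem up_add (s t : K) : up (s + t) = up s * up t := by
  apply Subtype.ext
  change (!![1, s + t; 0, 1] : Matrix (Fin 2) (Fin 2) K) = !![1, s; 0, 1] * !![1, t; 0, 1]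
  rw [Matrix.mul_fin_two]
  simp [add_comm]

theorem up_zero : up (0 : K) = 1 := by
  apply Subtype.ext
  ext i j
  fin_cases i <;> fin_cases j <;> rfl

end gen

section PSLPGL

variable {L : Type*} [Group L]

end PSLPGL

section main

/-- the Borel case -/
theorem borel {L : Type*} [Group L] [Finite L] {A : Subgroup L} (hA : Adm A) (hnc : ¬ ∀ a ∈ A, ∀ b ∈ A, a * b = b * a)
    {F : Type*} [Field F] [Fintype F] (p : ℕ) [hp : Fact p.Prime] [CharP F p]
    (P : Sylow p (ProjectiveSpecialLinearGroup (Fin 2) F)) {B : Subgroup (ProjectiveSpecialLinearGroup (Fin 2) F)}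
    (hB : B ≤ normalizer ((P : Subgroup (ProjectiveSpecialLinearGroup (Fin 2) F)) :
      Set (ProjectiveSpecialLinearGroup (Fin 2) F))) (e : A ≃* B) :
    ∃ P' : Sylow p L, A = normalizer ((P' : Subgroup L) : Set L) := by
  let R : Subgroup L := (((P : Subgroup (ProjectiveSpecialLinearGroup (Fin 2) F)).subgroupOf B).comap
    e.toMonoidHom).map A.subtype
  have hmem : ∀ y : A, (y : L) ∈ R ↔ ((e y : B) : ProjectiveSpecialLinearGroup (Fin 2) F) ∈ P := by
    intro y
    constructor
    · rintro ⟨z, hz, hzy⟩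
      have : z = y := Subtype.ext hzy
      rw [← this]
      exact hz
    · intro h
      exact ⟨y, h, rfl⟩
  have hR : ∀ y, y ∈ R ↔ y ∈ A ∧ ∃ k : ℕ, y ^ (p ^ k) = 1 := by
    intro y
    constructor
    · intro hy
      have hyA : y ∈ A := by
        obtain ⟨z, _, rfl⟩ := hy
        exact z.2
      refine ⟨hyA, ?_⟩
      obtain ⟨k, hk⟩ := P.2 ⟨_, (hmem ⟨y, hyA⟩).1 hy⟩
      refine ⟨k, ?_⟩
      have h1 : ((e ⟨y, hyA⟩ : B) : ProjectiveSpecialLinearGroup (Fin 2) F) ^ (p ^ k) = 1 := congrArg Subtype.val hk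
      rw [← Subgroup.coe_pow, ← map_pow, OneMemClass.coe_eq_one, map_eq_one_iff e e.injective] at h1
      exact congrArg Subtype.val h1
    · rintro ⟨hyA, k, hk⟩
      rw [show y = ((⟨y, hyA⟩ : A) : L) from rfl, hmem]
      set x : ProjectiveSpecialLinearGroup (Fin 2) F := ((e ⟨y, hyA⟩ : B) : ProjectiveSpecialLinearGroup (Fin 2) F)
        with hx
      have hxk : x ^ (p ^ k) = 1 := by
        rw [hx, ← Subgroup.coe_pow, ← map_pow]
        have : (⟨y, hyA⟩ : A) ^ (p ^ k) = 1 := Subtype.ext hk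
        rw [this, map_one, Subgroup.coe_one]
      have hQ : IsPGroup p (zpowers x) := by
        rintro ⟨z, n, rfl⟩
        refine ⟨k, Subtype.ext ?_⟩
        show (x ^ n) ^ (p ^ k) = 1
        rw [← _root_.zpow_natCast, ← _root_.zpow_mul, mul_comm, _root_.zpow_mul, _root_.zpow_natCast, hxk, _root_.one_zpow]
      have h1 := hQ.inf_normalizer_sylow P
      have h2 : x ∈ zpowers x ⊓ normalizer ((P : Subgroup (ProjectiveSpecialLinearGroup (Fin 2) F)) :
          Set (ProjectiveSpecialLinearGroup (Fin 2) F)) := ⟨mem_zpowers x, hB (e ⟨y, hyA⟩).2⟩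
      have h3 : x ∈ zpowers x ⊓ (P : Subgroup (ProjectiveSpecialLinearGroup (Fin 2) F)) := by
        rw [← h1]
        exact h2
      exact h3.2
  have hne : R ≠ ⊥ := by
    intro h0
    apply hnc
    intro a ha b hb
    have h1 := H948.PSLMax.comm_pow_char p P _ _ (hB (e ⟨a, ha⟩).2) (hB (e ⟨b, hb⟩).2)
    have h2 : (a * b * a⁻¹ * b⁻¹) ∈ R := by
      rw [hR]
      refine ⟨mul_mem (mul_mem (mul_mem ha hb) (inv_mem ha)) (inv_mem hb), 1, ?_⟩
      rw [pow_one]
      have h3 : (((e (⟨a, ha⟩ * ⟨b, hb⟩ * ⟨a, ha⟩⁻¹ * ⟨b, hb⟩⁻¹)) : B) :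
          ProjectiveSpecialLinearGroup (Fin 2) F) ^ p = 1 := by
        rw [commutatorElement_def] at h1
        rw [map_mul, map_mul, map_mul, map_inv, map_inv]
        exact h1
      rw [← Subgroup.coe_pow, ← map_pow, OneMemClass.coe_eq_one, map_eq_one_iff e e.injective] at h3
      exact congrArg Subtype.val h3
    rw [h0, mem_bot] at h2
    have h4 : a * b * a⁻¹ * b⁻¹ * (b * a) = b * a := by rw [h2, one_mul]
    have h5 : a * b * a⁻¹ * b⁻¹ * (b * a) = a * b := by group
    rw [← h5, h4]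
  obtain ⟨P', hP', hn⟩ := hA.sylow hp.out hR hne
  refine ⟨P', ?_⟩
  rw [hP']
  exact hn.symm

variable {F : Type*} [Field F] [Fintype F]

end main

end Cfsg.Agent.H545.EX.LTwo
end

-- part: H545/EX/LTwoCnt
section
/-!
# S5745, T-bounds for `T = L₂(q)`: elements of orders 2 and 3 (helper545)
-/

set_option autoImplicit false
set_option linter.unusedSectionVars false

namespace Cfsg.Agent.H545.EX.LTwo

open Subgroup Matrix
open Cfsg.Agent.H417.EP.Eleven (D)
open Cfsg.Agent.ClassicalGeometry.AutPSL.Root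

variable {F : Type*} [Field F] [Fintype F]

theorem card_quad (t : F) : {a : F | a * (t - a) = 1}.ncard ≤ 2 := by
  classical
  rcases {a : F | a * (t - a) = 1}.eq_empty_or_nonempty with h | ⟨a₁, h1⟩
  · rw [h, Set.ncard_empty]; exact Nat.zero_le _
  · have h2 : {a : F | a * (t - a) = 1} ⊆ {a₁, t - a₁} := by
      intro a ha
      have ha' : a * (t - a) = 1 := ha
      have h1' : a₁ * (t - a₁) = 1 := h1
      have h3 : (a - a₁) * (a - (t - a₁)) = 0 := by linear_combination h1' - ha'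
      rcases mul_eq_zero.1 h3 with h | h
      · left; exact sub_eq_zero.1 h
      · right; exact sub_eq_zero.1 h
    exact (Set.ncard_le_ncard h2 (Set.toFinite _)).trans (Set.ncard_insert_le _ _ |>.trans (by rw [Set.ncard_singleton]))

theorem ncard_tr (t : F) : {A : Matrix.SpecialLinearGroup (Fin 2) F | A 0 0 + A 1 1 = t}.ncard ≤
    Fintype.card F ^ 2 + Fintype.card F := by
  classical
  have hdet : ∀ A : Matrix.SpecialLinearGroup (Fin 2) F, A 0 0 * A 1 1 - A 0 1 * A 1 0 = 1 := by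
    intro A
    have hd := A.det_coe
    rwa [Matrix.det_fin_two] at hd
  have hext : ∀ A B : Matrix.SpecialLinearGroup (Fin 2) F, A 0 0 = B 0 0 → A 0 1 = B 0 1 → A 1 0 = B 1 0 →
      A 1 1 = B 1 1 → A = B := by
    intro A B h1 h2 h3 h4
    apply Subtype.ext
    ext i j
    fin_cases i <;> fin_cases j
    · exact h1
    · exact h2
    · exact h3
    · exact h4
  have h1 : {A : Matrix.SpecialLinearGroup (Fin 2) F | A 0 0 + A 1 1 = t ∧ A 0 1 ≠ 0}.ncard ≤
      Fintype.card F * (Fintype.card F - 1) := by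
    have h2 : ((Set.univ : Set F) ×ˢ ({0}ᶜ : Set F)).ncard = Fintype.card F * (Fintype.card F - 1) := by
      rw [Set.ncard_prod, Set.ncard_univ, Nat.card_eq_fintype_card, Set.ncard_compl, Set.ncard_singleton,
        Nat.card_eq_fintype_card]
    rw [← h2]
    refine Set.ncard_le_ncard_of_injOn (fun A => (A 0 0, A 0 1)) ?_ ?_ (Set.toFinite _)
    · rintro A ⟨_, h⟩
      exact ⟨Set.mem_univ _, h⟩
    · rintro A ⟨ha, hb⟩ B ⟨ha', hb'⟩ e
      simp only [Prod.mk.injEq] at e
      obtain ⟨e1, e2⟩ := e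
      have e3 : A 1 1 = B 1 1 := by
        have : A 0 0 + A 1 1 = B 0 0 + B 1 1 := ha.trans ha'.symm
        rw [e1] at this
        exact add_left_cancel this
      refine hext A B e1 e2 ?_ e3
      apply mul_left_cancel₀ hb
      have h3 := hdet A
      have h4 := hdet B
      rw [← e1, ← e3, ← e2] at h4
      linear_combination h4 - h3
  have h2 : {A : Matrix.SpecialLinearGroup (Fin 2) F | A 0 0 + A 1 1 = t ∧ A 0 1 = 0}.ncard ≤ 2 * Fintype.card F := by
    have h3 : ({a : F | a * (t - a) = 1} ×ˢ (Set.univ : Set F)).ncard ≤ 2 * Fintype.card F := by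
      rw [Set.ncard_prod, Set.ncard_univ, Nat.card_eq_fintype_card]
      exact Nat.mul_le_mul_right _ (card_quad t)
    refine le_trans ?_ h3
    refine Set.ncard_le_ncard_of_injOn (fun A => (A 0 0, A 1 0)) ?_ ?_ (Set.toFinite _)
    · rintro A ⟨ha, hb⟩
      refine ⟨?_, Set.mem_univ _⟩
      show A 0 0 * (t - A 0 0) = 1
      have h4 := hdet A
      rw [hb] at h4
      rw [← ha]
      linear_combination h4
    · rintro A ⟨ha, hb⟩ B ⟨ha', hb'⟩ e
      simp only [Prod.mk.injEq] at e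
      obtain ⟨e1, e2⟩ := e
      refine hext A B e1 (hb.trans hb'.symm) e2 ?_
      have : A 0 0 + A 1 1 = B 0 0 + B 1 1 := ha.trans ha'.symm
      rw [e1] at this
      exact add_left_cancel this
  have h3 : {A : Matrix.SpecialLinearGroup (Fin 2) F | A 0 0 + A 1 1 = t} =
      {A : Matrix.SpecialLinearGroup (Fin 2) F | A 0 0 + A 1 1 = t ∧ A 0 1 ≠ 0} ∪
      {A : Matrix.SpecialLinearGroup (Fin 2) F | A 0 0 + A 1 1 = t ∧ A 0 1 = 0} := by
    ext A
    constructor
    · intro h
      by_cases hb : A 0 1 = 0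
      · exact Or.inr ⟨h, hb⟩
      · exact Or.inl ⟨h, hb⟩
    · rintro (h | h)
      · exact h.1
      · exact h.1
  rw [h3]
  refine (Set.ncard_union_le _ _).trans ((Nat.add_le_add h1 h2).trans ?_)
  have hq : 1 ≤ Fintype.card F := Fintype.card_pos
  obtain ⟨m, hm⟩ : ∃ m, Fintype.card F = m + 1 := ⟨Fintype.card F - 1, by omega⟩
  rw [hm, Nat.add_sub_cancel]
  linarith only []

theorem scalar_iff (A : Matrix.SpecialLinearGroup (Fin 2) F) : pr A = 1 ↔ A 0 1 = 0 ∧ A 1 0 = 0 ∧ A 0 0 = A 1 1 := by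
  rw [pr_eq_one_iff, Matrix.SpecialLinearGroup.mem_center_iff]
  constructor
  · rintro ⟨r, -, h⟩
    refine ⟨?_, ?_, ?_⟩
    · have := congrFun (congrFun h 0) 1
      simpa using this.symm
    · have := congrFun (congrFun h 1) 0
      simpa using this.symm
    · have h0 := congrFun (congrFun h 0) 0
      have h1 := congrFun (congrFun h 1) 1
      simp at h0 h1
      rw [← h0, ← h1]
  · rintro ⟨h1, h2, h3⟩
    refine ⟨A 0 0, ?_, ?_⟩
    · have hd := A.det_coe
      rw [det_fin_two] at hd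
      rw [h1, ← h3] at hd
      simp only [Fintype.card_fin]
      rw [pow_two]
      linear_combination hd
    · ext i j
      fin_cases i <;> fin_cases j
      · simp
      · simpa only [_root_.Fin.isValue, _root_.Fin.zero_eta, _root_.Fin.mk_one, _root_.Matrix.scalar_apply, _root_.ne_eq, _root_.zero_ne_one, _root_.not_false_eq_true, _root_.Matrix.diagonal_apply_ne] using h1.symm
      · simpa only [_root_.Fin.isValue, _root_.Fin.mk_one, _root_.Fin.zero_eta, _root_.Matrix.scalar_apply, _root_.ne_eq, _root_.one_ne_zero, _root_.not_false_eq_true, _root_.Matrix.diagonal_apply_ne] using h2.symm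
      · simpa using h3

theorem pr_neg (A : Matrix.SpecialLinearGroup (Fin 2) F) : pr (-A) = pr A := by
  have h1 : pr (-1 : Matrix.SpecialLinearGroup (Fin 2) F) = 1 := by
    rw [scalar_iff]
    refine ⟨?_, ?_, ?_⟩ <;> simp
  have h2 : -A = (-1) * A := by rw [neg_mul, one_mul]
  rw [h2, map_mul, h1, one_mul]

theorem lift_two {x : Matrix.ProjectiveSpecialLinearGroup (Fin 2) F} (hx : x ∈ D _ 2) :
    ∃ A : Matrix.SpecialLinearGroup (Fin 2) F, A 0 0 + A 1 1 = 0 ∧ pr A = x := by
  obtain ⟨h1, h2⟩ := hx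
  obtain ⟨A, rfl⟩ := pr_surjective x
  have hd := A.det_coe
  rw [Matrix.det_fin_two] at hd
  refine ⟨A, ?_, rfl⟩
  by_contra ht
  apply h1
  rw [← map_pow, scalar_iff] at h2
  have m : ∀ i j, (A ^ 2) i j = (A.1 * A.1) i j := by
    intro i j; rw [Matrix.SpecialLinearGroup.coe_pow, pow_two]
  rw [m, m, m, m] at h2
  simp only [Matrix.mul_apply, Fin.sum_univ_two] at h2
  obtain ⟨q1, q2, q3⟩ := h2
  rw [scalar_iff]
  refine ⟨?_, ?_, ?_⟩
  · have : (A 0 0 + A 1 1) * A 0 1 = 0 := by linear_combination q1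
    exact (mul_eq_zero.1 this).resolve_left ht
  · have : (A 0 0 + A 1 1) * A 1 0 = 0 := by linear_combination q2
    exact (mul_eq_zero.1 this).resolve_left ht
  · have : (A 0 0 + A 1 1) * (A 0 0 - A 1 1) = 0 := by linear_combination q3
    exact sub_eq_zero.1 ((mul_eq_zero.1 this).resolve_left ht)

theorem lift_three {x : Matrix.ProjectiveSpecialLinearGroup (Fin 2) F} (hx : x ∈ D _ 3) :
    ∃ A : Matrix.SpecialLinearGroup (Fin 2) F, A 0 0 + A 1 1 = 1 ∧ pr A = x := by
  obtain ⟨h1, h3⟩ := hx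
  obtain ⟨A, rfl⟩ := pr_surjective x
  have hd := A.det_coe
  rw [Matrix.det_fin_two] at hd
  have ht : (A 0 0 + A 1 1) ^ 2 - 1 = 0 := by
    by_contra ht
    apply h1
    rw [← map_pow, scalar_iff] at h3
    have m : ∀ i j, (A ^ 3) i j = (A.1 * A.1 * A.1) i j := by
      intro i j; rw [Matrix.SpecialLinearGroup.coe_pow, pow_succ, pow_two]
    rw [m, m, m, m] at h3
    simp only [Matrix.mul_apply, Fin.sum_univ_two] at h3
    obtain ⟨q1, q2, q3⟩ := h3
    rw [scalar_iff]
    refine ⟨?_, ?_, ?_⟩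
    · have : ((A 0 0 + A 1 1) ^ 2 - 1) * A 0 1 = 0 := by linear_combination q1 + A 0 1 * hd
      exact (mul_eq_zero.1 this).resolve_left ht
    · have : ((A 0 0 + A 1 1) ^ 2 - 1) * A 1 0 = 0 := by linear_combination q2 + A 1 0 * hd
      exact (mul_eq_zero.1 this).resolve_left ht
    · have : ((A 0 0 + A 1 1) ^ 2 - 1) * (A 0 0 - A 1 1) = 0 := by
        linear_combination q3 + (A 0 0 - A 1 1) * hd
      exact sub_eq_zero.1 ((mul_eq_zero.1 this).resolve_left ht)
  have ht' : (A 0 0 + A 1 1 - 1) * (A 0 0 + A 1 1 + 1) = 0 := by linear_combination ht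
  rcases mul_eq_zero.1 ht' with h | h
  · exact ⟨A, sub_eq_zero.1 h, rfl⟩
  · refine ⟨-A, ?_, pr_neg A⟩
    show (-A.1) 0 0 + (-A.1) 1 1 = 1
    rw [Matrix.neg_apply, Matrix.neg_apply]
    linear_combination -h

theorem two_le : (D (Matrix.ProjectiveSpecialLinearGroup (Fin 2) F) 2).ncard ≤
    Fintype.card F ^ 2 + Fintype.card F := by
  have h1 : D (Matrix.ProjectiveSpecialLinearGroup (Fin 2) F) 2 ⊆
      pr '' {A : Matrix.SpecialLinearGroup (Fin 2) F | A 0 0 + A 1 1 = 0} := fun x hx => by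
    obtain ⟨A, hA, e⟩ := lift_two hx
    exact ⟨A, hA, e⟩
  exact (Set.ncard_le_ncard h1 (Set.toFinite _)).trans ((Set.ncard_image_le (Set.toFinite _)).trans (ncard_tr 0))

theorem three_le : (D (Matrix.ProjectiveSpecialLinearGroup (Fin 2) F) 3).ncard ≤
    Fintype.card F ^ 2 + Fintype.card F := by
  have h1 : D (Matrix.ProjectiveSpecialLinearGroup (Fin 2) F) 3 ⊆
      pr '' {A : Matrix.SpecialLinearGroup (Fin 2) F | A 0 0 + A 1 1 = 1} := fun x hx => by
    obtain ⟨A, hA, e⟩ := lift_three hx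
    exact ⟨A, hA, e⟩
  exact (Set.ncard_le_ncard h1 (Set.toFinite _)).trans ((Set.ncard_image_le (Set.toFinite _)).trans (ncard_tr 1))

end Cfsg.Agent.H545.EX.LTwo
end

-- part: H545/EX/LTwo25
section
/-!
# S5745, T-bounds: `T = L₂(25)` (helper545)

`index_le` : `|Q : A| ≤ 6650979402 < 2 ^ 33` if `A` has socle `PSL₂(25)`.
-/

set_option autoImplicit false

namespace Cfsg.Agent.H545.EX.LTwo

open Subgroup Matrix Cfsg.Agent.H417.EP
open Cfsg.Agent.H284
open Cfsg.Agent.H417.EP.Eleven (D)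

/-- commutators are inner if the inner automorphisms have index 4 -/
theorem out_four {L : Type*} [Group L] [Finite L] (hc : ∀ z : L, (∀ x, z * x = x * z) → z = 1)
    (h : Nat.card (MulAut L) = 2 ^ 2 * Nat.card L) (α β : MulAut L) :
    α * β * α⁻¹ * β⁻¹ ∈ (MulAut.conj : L →* MulAut L).range := by
  have hinj : Function.Injective (MulAut.conj : L →* MulAut L) := by
    rw [injective_iff_map_eq_one]
    intro z hz
    apply hc
    intro x
    have h1 := DFunLike.congr_fun hz x
    rw [MulAut.conj_apply, MulAut.one_apply, mul_inv_eq_iff_eq_mul] at h1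
    exact h1
  have h1 : Nat.card (MulAut.conj : L →* MulAut L).range = Nat.card L :=
    (Nat.card_congr (MonoidHom.ofInjective hinj).toEquiv).symm
  have h2 : (MulAut.conj : L →* MulAut L).range.index = 2 ^ 2 := by
    have h3 := (MulAut.conj : L →* MulAut L).range.card_mul_index
    rw [h1, h, mul_comm (2 ^ 2)] at h3
    exact Nat.eq_of_mul_eq_mul_left Nat.card_pos h3
  have hn : (MulAut.conj : L →* MulAut L).range.Normal := by
    constructor
    rintro _ ⟨z, rfl⟩ φ
    refine ⟨φ z, ?_⟩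
    apply MulEquiv.ext
    intro x
    simp only [MulAut.conj_apply, _root_.MulAut.conj_apply, _root_.MulAut.mul_apply, _root_.MulAut.inv_apply, _root_.map_mul, _root_.MulEquiv.apply_symm_apply, _root_.map_inv]
  have : Fact (Nat.Prime 2) := ⟨Nat.prime_two⟩
  have h4 : IsMulCommutative (MulAut L ⧸ (MulAut.conj : L →* MulAut L).range) :=
    IsPGroup.isMulCommutative_of_card_eq_prime_sq (p := 2) h2
  have h5 : QuotientGroup.mk' (MulAut.conj : L →* MulAut L).range (α * β * α⁻¹ * β⁻¹) = 1 := by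
    rw [map_mul, map_mul, map_mul, map_inv, map_inv,
      h4.is_comm.comm (QuotientGroup.mk' (MulAut.conj : L →* MulAut L).range α)
        (QuotientGroup.mk' (MulAut.conj : L →* MulAut L).range β)]
    group
  exact (QuotientGroup.eq_one_iff _).1 h5

variable {F : Type*} [Field F] [Fintype F]

theorem card_25 (hF : Fintype.card F = 25) : Nat.card (ProjectiveSpecialLinearGroup (Fin 2) F) = 7800 := by
  have h1 := ClassicalGeometry.PSL2Basic.card_PSL2_odd (F := F) (by rw [hF]; decide)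
  rw [hF] at h1
  omega

theorem simple_25 (hF : Fintype.card F = 25) : IsSimpleGroup (ProjectiveSpecialLinearGroup (Fin 2) F) :=
  Cfsg.Agent.TwoFusion.SLTwoFacts.isSimpleGroup_psl (by rw [hF]; norm_num)

theorem ncomm_25 (hF : Fintype.card F = 25) : ∃ a b : ProjectiveSpecialLinearGroup (Fin 2) F, a * b ≠ b * a := by
  have := simple_25 hF
  by_contra hcon
  push Not at hcon
  let _ : CommGroup (ProjectiveSpecialLinearGroup (Fin 2) F) := { (inferInstance : Group _) with mul_comm := hcon }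
  have h1 := (IsSimpleGroup.prime_card (α := ProjectiveSpecialLinearGroup (Fin 2) F))
  rw [card_25 hF] at h1
  exact absurd h1 (by norm_num)

theorem card_aut_25 (hF : Fintype.card F = 25) :
    Nat.card (MulAut (ProjectiveSpecialLinearGroup (Fin 2) F)) = 2 ^ 2 * 7800 := by
  have : Fact (Nat.Prime 5) := ⟨by norm_num⟩
  rw [Cfsg.Agent.S0813.result 5 2 (by norm_num) (by rw [hF]; norm_num) 2 le_rfl (fun _ => by norm_num),
    ClassicalGeometry.PSL2Basic.card_PGL2, hF]
  norm_num

variable {Q : Type*} [Group Q] [Finite Q] {A : Subgroup Q} {Γ : Subgroup (MulAut Q)}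

end Cfsg.Agent.H545.EX.LTwo
end

-- part: H545/EX/T25Syl
section
/-!
# S5745, the Tits group: `T = L₂(25)`: Sylow subgroups of `PSL₂(25)` (helper545)

* `card_sylow_five` : 26 Sylow 5-subgroups; `card_norm_five` : their normalisers have order 300;
* `fifty_le` : with at least 50 elements of order 3;
* `card_cases` : orders of the subgroups;
* `card_sylow_thirteen` : 300 Sylow 13-subgroups, at most one in each proper subgroup.
-/

set_option autoImplicit false
set_option linter.unusedSectionVars false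

namespace Cfsg.Agent.H545.EX.LTwo

open scoped Pointwise
open Subgroup Matrix Cfsg.Agent.H417.EP
open Cfsg.Agent.H417.EP.Eleven (D)
open Cfsg.Agent.ChevalleyStructure.SL2Hom (up)
open Cfsg.Agent.ClassicalGeometry.AutPSL.Root

section gen

theorem mem_norm {L : Type*} [Group L] [Finite L] {U : Subgroup L} {g : L} (h : ∀ u ∈ U, g * u * g⁻¹ ∈ U) :
    g ∈ normalizer (U : Set L) := by
  have h1 : U.map (MulAut.conj g).toMonoidHom ≤ U := by
    rintro _ ⟨u, hu, rfl⟩
    exact h u hu
  have h2 : U.map (MulAut.conj g).toMonoidHom = U :=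
    Subgroup.eq_of_le_of_card_ge h1 (Nat.card_congr (U.equivMapOfInjective _ (MulAut.conj g).injective).toEquiv).le
  rw [mem_normalizer_iff]
  intro x
  constructor
  · exact h x
  · intro hx
    have hx' : g * x * g⁻¹ ∈ U := hx
    rw [← h2] at hx'
    obtain ⟨u, hu, e⟩ := hx'
    have e' : g * u * g⁻¹ = g * x * g⁻¹ := e
    have : u = x := mul_left_cancel (mul_right_cancel e')
    rw [← this]
    exact hu

/-- a simple group acting on its Sylow subgroups -/
theorem card_dvd_fact {L : Type*} [Group L] [Finite L] [IsSimpleGroup L] {r : ℕ} [Fact r.Prime]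
    (h : Nat.card (Sylow r L) ≠ 1) : Nat.card L ∣ (Nat.card (Sylow r L)).factorial := by
  classical
  let f : L →* Equiv.Perm (Sylow r L) := MulAction.toPermHom L (Sylow r L)
  have hf : Function.Injective f := by
    rw [← MonoidHom.ker_eq_bot_iff]
    rcases (inferInstance : f.ker.Normal).eq_bot_or_eq_top with h1 | h1
    · exact h1
    · exfalso
      apply h
      rw [Nat.card_eq_one_iff_unique]
      refine ⟨⟨fun P P' => ?_⟩, inferInstance⟩
      obtain ⟨g, hg⟩ := MulAction.exists_smul_eq L P P'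
      have h2 : g ∈ f.ker := by rw [h1]; exact mem_top g
      rw [MonoidHom.mem_ker] at h2
      have h3 := DFunLike.congr_fun h2 P
      rw [← hg]
      exact h3.symm
  have h1 := Subgroup.card_dvd_of_injective f hf
  rwa [Nat.card_perm] at h1

end gen

section PSL

variable {F : Type*} [Field F] [Fintype F]

theorem char_five (hF : Fintype.card F = 25) : CharP F 5 := by
  have : Fact (Nat.Prime 5) := ⟨by norm_num⟩
  exact charP_of_card_eq_prime_pow (f := 2) (by rw [hF]; norm_num)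

/-- the unipotent homomorphism -/
noncomputable def uh (F : Type*) [Field F] : Multiplicative F →* ProjectiveSpecialLinearGroup (Fin 2) F where
  toFun t := pr (up t.toAdd)
  map_one' := by
    rw [toAdd_one, up_zero, map_one]
  map_mul' s t := by
    rw [toAdd_mul, up_add, map_mul]

theorem uh_inj : Function.Injective (uh F) := by
  rw [injective_iff_map_eq_one]
  intro t ht
  have h1 : pr (up t.toAdd) = 1 := ht
  rw [scalar_iff] at h1
  have h2 : t.toAdd = 0 := h1.1
  exact Multiplicative.toAdd.injective h2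

/-- the upper triangular elements of order 3 -/
def tm (a b : F) (h : a ^ 2 + a + 1 = 0) : _root_.Matrix.SpecialLinearGroup (Fin 2) F :=
  ⟨!![a, b; 0, a ^ 2], by
    rw [det_fin_two_of]
    linear_combination (a - 1) * h⟩

theorem tm_mul_up (a b t : F) (h : a ^ 2 + a + 1 = 0) : tm a b h * up t = up (a ^ 2 * t) * tm a b h := by
  apply Subtype.ext
  change (!![a, b; 0, a ^ 2] * !![1, t; 0, 1] : Matrix (Fin 2) (Fin 2) F) = !![1, a ^ 2 * t; 0, 1] * !![a, b; 0, a ^ 2]
  rw [Matrix.mul_fin_two, Matrix.mul_fin_two]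
  ext i j
  fin_cases i <;> fin_cases j
  · simp
  · simp only [_root_.mul_one, _root_.MulZeroClass.mul_zero, _root_.add_zero, _root_.MulZeroClass.zero_mul, _root_.zero_add, _root_.Fin.zero_eta, _root_.Fin.isValue, _root_.Fin.mk_one, _root_.Matrix.of_apply, _root_.Matrix.cons_val', _root_.Matrix.cons_val_one, _root_.Matrix.cons_val_fin_one, _root_.Matrix.cons_val_zero, _root_.one_mul]
    linear_combination (-t * a * (a - 1)) * h
  · simp
  · simp

theorem tm_cube (a b : F) (h : a ^ 2 + a + 1 = 0) : tm a b h ^ 3 = 1 := by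
  rw [pow_succ, pow_two]
  apply Subtype.ext
  change (!![a, b; 0, a ^ 2] * !![a, b; 0, a ^ 2] * !![a, b; 0, a ^ 2] : Matrix (Fin 2) (Fin 2) F) = 1
  rw [Matrix.mul_fin_two, Matrix.mul_fin_two]
  ext i j
  fin_cases i <;> fin_cases j
  · simp only [_root_.MulZeroClass.mul_zero, _root_.add_zero, _root_.MulZeroClass.zero_mul, _root_.zero_add, _root_.Fin.zero_eta, _root_.Fin.isValue, _root_.Matrix.of_apply, _root_.Matrix.cons_val', _root_.Matrix.cons_val_zero, _root_.Matrix.cons_val_fin_one, _root_.Matrix.one_apply_eq]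
    linear_combination (a - 1) * h
  · simp only [_root_.MulZeroClass.mul_zero, _root_.add_zero, _root_.MulZeroClass.zero_mul, _root_.zero_add, _root_.Fin.zero_eta, _root_.Fin.isValue, _root_.Fin.mk_one, _root_.Matrix.of_apply, _root_.Matrix.cons_val', _root_.Matrix.cons_val_one, _root_.Matrix.cons_val_fin_one, _root_.Matrix.cons_val_zero, _root_.ne_eq, _root_.zero_ne_one, _root_.not_false_eq_true, _root_.Matrix.one_apply_ne]
    linear_combination (a ^ 2 * b) * h
  · simp only [_root_.MulZeroClass.mul_zero, _root_.add_zero, _root_.MulZeroClass.zero_mul, _root_.zero_add, _root_.Fin.mk_one, _root_.Fin.isValue, _root_.Fin.zero_eta, _root_.Matrix.of_apply, _root_.Matrix.cons_val', _root_.Matrix.cons_val_zero, _root_.Matrix.cons_val_fin_one, _root_.Matrix.cons_val_one, _root_.ne_eq, _root_.one_ne_zero, _root_.not_false_eq_true, _root_.Matrix.one_apply_ne]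
  · simp only [_root_.MulZeroClass.mul_zero, _root_.add_zero, _root_.MulZeroClass.zero_mul, _root_.zero_add, _root_.Fin.mk_one, _root_.Fin.isValue, _root_.Matrix.of_apply, _root_.Matrix.cons_val', _root_.Matrix.cons_val_one, _root_.Matrix.cons_val_fin_one, _root_.Matrix.one_apply_eq]
    linear_combination (a ^ 4 - a ^ 3 + a - 1) * h

theorem tm_ne (h5 : (5 : F) = 0) (a b : F) (h : a ^ 2 + a + 1 = 0) : pr (tm a b h) ≠ 1 := by
  intro h1
  rw [scalar_iff] at h1
  have h2 : a = a ^ 2 := h1.2.2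
  have h3 : (1 : F) = 0 := by
    have h3' : (3 : F) = 0 := by linear_combination (3 - 2 * a) * h - (2 * a + 1) * h2
    linear_combination 2 * h3' - h5
  exact one_ne_zero h3

theorem tm_inj (a b a' b' : F) (h : a ^ 2 + a + 1 = 0) (h' : a' ^ 2 + a' + 1 = 0) (e : pr (tm a b h) = pr (tm a' b' h')) :
    a = a' ∧ b = b' := by
  set! z := (tm a b h)⁻¹ * tm a' b' h' with hz
  have h1 : pr z = 1 := by rw [hz, map_mul, map_inv, e, inv_mul_cancel]
  rw [scalar_iff] at h1
  obtain ⟨q1, q2, q3⟩ := h1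
  have h2 : tm a b h * z = tm a' b' h' := by rw [hz, mul_inv_cancel_left]
  have h3 : (!![a, b; 0, a ^ 2] * z.1 : Matrix (Fin 2) (Fin 2) F) = !![a', b'; 0, a' ^ 2] := congrArg Subtype.val h2
  have m : ∀ i j, (!![a, b; 0, a ^ 2] * z.1 : Matrix (Fin 2) (Fin 2) F) i j = (!![a', b'; 0, a' ^ 2] : Matrix _ _ F) i j :=
    fun i j => by rw [h3]
  have m00 := m 0 0
  have m01 := m 0 1
  have m11 := m 1 1
  rw [Matrix.mul_apply, Fin.sum_univ_two] at m00 m01 m11
  have q1' : z.1 0 1 = 0 := q1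
  have q2' : z.1 1 0 = 0 := q2
  have q3' : z.1 0 0 = z.1 1 1 := q3
  simp only [q1', q2', _root_.Fin.isValue, _root_.Matrix.of_apply, _root_.Matrix.cons_val', _root_.Matrix.cons_val_zero, _root_.Matrix.cons_val_fin_one, _root_.Matrix.cons_val_one, _root_.MulZeroClass.mul_zero, _root_.add_zero, _root_.zero_add] at m00 m01 m11
  rw [q3'] at m00
  have ha : a ≠ 0 := by
    rintro rfl
    simp at h
  have h4 : a ^ 2 * (z.1 1 1 * (z.1 1 1 - 1)) = 0 := by
    rw [← m00] at m11
    linear_combination -m11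
  have hz0 : z.1 1 1 ≠ 0 := by
    intro h0
    rw [h0, mul_zero] at m00
    rw [← m00] at h'
    simp at h'
  have h5 : z.1 1 1 = 1 := by
    rcases mul_eq_zero.1 h4 with h6 | h6
    · exact absurd h6 (pow_ne_zero 2 ha)
    · exact sub_eq_zero.1 ((mul_eq_zero.1 h6).resolve_left hz0)
  rw [h5, mul_one] at m00 m01
  exact ⟨m00, m01⟩

/-- a Sylow 5-subgroup -/
noncomputable def U₀ (F : Type*) [Field F] : Subgroup (ProjectiveSpecialLinearGroup (Fin 2) F) := (uh F).range

theorem card_U₀ (hF : Fintype.card F = 25) : Nat.card (U₀ F) = 25 := by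
  rw [U₀, ← Nat.card_congr (MonoidHom.ofInjective uh_inj).toEquiv]
  change Nat.card F = 25
  rw [Nat.card_eq_fintype_card, hF]

theorem fact_five (hF : Fintype.card F = 25) : (Nat.card (ProjectiveSpecialLinearGroup (Fin 2) F)).factorization 5 = 2 := by
  rw [card_25 hF]
  have h1 : (7800 : ℕ) = 5 ^ 2 * 312 := by norm_num
  rw [h1, Nat.factorization_mul (by norm_num) (by norm_num), Nat.Prime.factorization_pow (by norm_num)]
  simp [Nat.factorization_eq_zero_of_not_dvd (show ¬ 5 ∣ 312 by norm_num)]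

/-- the number of elements of order 3 of a subgroup -/
noncomputable def e3 {L : Type*} [Group L] (K : Subgroup L) : ℕ := {x : L | x ∈ K ∧ x ∈ D L 3}.ncard

theorem roots (hF : Fintype.card F = 25) : ∃ a b : F, a ≠ b ∧ a ^ 2 + a + 1 = 0 ∧ b ^ 2 + b + 1 = 0 := by
  have h3 : Fact (Nat.Prime 3) := ⟨Nat.prime_three⟩
  have hc : Nat.card Fˣ = 24 := by rw [Nat.card_units, Nat.card_eq_fintype_card, hF]
  obtain ⟨w, hw⟩ := exists_prime_orderOf_dvd_card' (G := Fˣ) 3 (by rw [hc]; norm_num)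
  have h1 : (w : F) ^ 3 = 1 := by
    have := pow_orderOf_eq_one w
    rw [hw] at this
    rw [← Units.val_pow_eq_pow_val, this, Units.val_one]
  have h2 : (w : F) ≠ 1 := by
    intro h0
    have : w = 1 := Units.ext h0
    rw [this, orderOf_one] at hw
    norm_num at hw
  have h4 : (w : F) ^ 2 + w + 1 = 0 := by
    have h5 : ((w : F) - 1) * ((w : F) ^ 2 + w + 1) = 0 := by linear_combination h1
    exact (mul_eq_zero.1 h5).resolve_left (sub_ne_zero.2 h2)
  refine ⟨w, (w : F) ^ 2, ?_, h4, ?_⟩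
  · intro h0
    apply h2
    have h6 : (w : F) * ((w : F) - 1) = 0 := by linear_combination -h0
    exact sub_eq_zero.1 ((mul_eq_zero.1 h6).resolve_left w.ne_zero)
  · linear_combination ((w : F) ^ 2 - w + 1) * h4

theorem fifty_U₀ (hF : Fintype.card F = 25) :
    50 ≤ e3 (normalizer (U₀ F : Set (ProjectiveSpecialLinearGroup (Fin 2) F))) := by
  classical
  have := char_five hF
  have h5 : (5 : F) = 0 := by exact_mod_cast CharP.cast_eq_zero F 5
  obtain ⟨a, b, hab, ha, hb⟩ := roots hF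
  have hroot : ∀ i : Fin 2, (![a, b] i) ^ 2 + ![a, b] i + 1 = 0 := by
    intro i
    fin_cases i
    · exact ha
    · exact hb
  have hinj : Function.Injective (fun p : Fin 2 × F => pr (tm (![a, b] p.1) p.2 (hroot p.1))) := by
    rintro ⟨i, s⟩ ⟨j, t⟩ e
    obtain ⟨e1, e2⟩ := tm_inj _ _ _ _ _ _ e
    have : i = j := by
      fin_cases i <;> fin_cases j
      · rfl
      · exact absurd e1 hab
      · exact absurd e1.symm hab
      · rfl
    rw [this]
    exact Prod.ext rfl e2
  have h1 : Set.range (fun p : Fin 2 × F => pr (tm (![a, b] p.1) p.2 (hroot p.1))) ⊆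
      {x | x ∈ normalizer (U₀ F : Set (ProjectiveSpecialLinearGroup (Fin 2) F)) ∧ x ∈ D _ 3} := by
    rintro _ ⟨p, rfl⟩
    refine ⟨?_, tm_ne h5 _ _ _, ?_⟩
    · apply mem_norm
      rintro _ ⟨t, rfl⟩
      refine ⟨Multiplicative.ofAdd ((![a, b] p.1) ^ 2 * t.toAdd), ?_⟩
      change pr (up ((![a, b] p.1) ^ 2 * t.toAdd)) = pr _ * pr (up t.toAdd) * (pr _)⁻¹
      rw [eq_mul_inv_iff_mul_eq, ← map_mul, ← map_mul, tm_mul_up]
    · rw [← map_pow, tm_cube, map_one]
  have h2 := Set.ncard_le_ncard h1 (Set.toFinite _)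
  rw [← Set.image_univ, Set.ncard_image_of_injective _ hinj, Set.ncard_univ, Nat.card_prod, Nat.card_eq_fintype_card,
    Nat.card_eq_fintype_card, Fintype.card_fin, hF] at h2
  exact h2

theorem e3_conj {L : Type*} [Group L] [Finite L] {K K' : Subgroup L} (g : L) (h : ∀ x ∈ K, g * x * g⁻¹ ∈ K') : e3 K ≤ e3 K' := by
  refine Set.ncard_le_ncard_of_injOn (fun x => g * x * g⁻¹) ?_ ?_ (Set.toFinite _)
  · rintro x ⟨h1, h2, h3⟩
    refine ⟨h x h1, ?_, ?_⟩
    · intro h4
      exact h2 (conj_eq_one_iff.1 h4)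
    · rw [conj_pow, h3, mul_one, mul_inv_cancel]
  · intro x _ y _ e
    exact mul_left_cancel (mul_right_cancel e)

/-- **the normaliser of a Sylow 5-subgroup has at least 50 elements of order 3** -/
theorem fifty_le (hF : Fintype.card F = 25) [Fact (Nat.Prime 5)] (P : Sylow 5 (ProjectiveSpecialLinearGroup (Fin 2) F)) :
    50 ≤ e3 (normalizer ((P : Subgroup (ProjectiveSpecialLinearGroup (Fin 2) F)) :
      Set (ProjectiveSpecialLinearGroup (Fin 2) F))) := by
  let P₀ : Sylow 5 (ProjectiveSpecialLinearGroup (Fin 2) F) := Sylow.ofCard (U₀ F) (by rw [card_U₀ hF, fact_five hF]; norm_num)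
  have hP₀ : (P₀ : Subgroup (ProjectiveSpecialLinearGroup (Fin 2) F)) = U₀ F := rfl
  obtain ⟨g, hg⟩ := MulAction.exists_smul_eq (ProjectiveSpecialLinearGroup (Fin 2) F) P₀ P
  refine (fifty_U₀ hF).trans (e3_conj g fun x hx => ?_)
  have h2 : ∀ y, y ∈ P ↔ g⁻¹ * y * g ∈ U₀ F := by
    intro y
    rw [← hg, ← hP₀]
    change y ∈ (MulAut.conj g • (P₀ : Subgroup (ProjectiveSpecialLinearGroup (Fin 2) F))) ↔ _
    rw [Subgroup.mem_pointwise_smul_iff_inv_smul_mem]
    have : (MulAut.conj g)⁻¹ • y = g⁻¹ * y * g := by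
      rw [← map_inv, MulAut.smul_def, MulAut.conj_apply, inv_inv]
    rw [this]
  apply mem_norm
  intro y hy
  have h3 := (h2 y).1 hy
  have h4 := (mem_normalizer_iff.1 hx _).1 h3
  refine (h2 _).2 ?_
  have : g⁻¹ * (g * x * g⁻¹ * y * (g * x * g⁻¹)⁻¹) * g = x * (g⁻¹ * y * g) * x⁻¹ := by group
  rw [this]
  exact h4

/-- **the number of Sylow 5-subgroups** -/
theorem card_sylow_five (hF : Fintype.card F = 25) [Fact (Nat.Prime 5)] :
    Nat.card (Sylow 5 (ProjectiveSpecialLinearGroup (Fin 2) F)) = 26 := by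
  classical
  have := simple_25 hF
  obtain ⟨P⟩ : Nonempty (Sylow 5 (ProjectiveSpecialLinearGroup (Fin 2) F)) := inferInstance
  have hcP : Nat.card (P : Subgroup (ProjectiveSpecialLinearGroup (Fin 2) F)) = 25 := by
    rw [P.card_eq_multiplicity, fact_five hF]
    norm_num
  have h1 : Nat.card (Sylow 5 (ProjectiveSpecialLinearGroup (Fin 2) F)) =
    (normalizer ((P : Subgroup (ProjectiveSpecialLinearGroup (Fin 2) F)) :
      Set (ProjectiveSpecialLinearGroup (Fin 2) F))).index := P.card_eq_index_normalizer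
  have h2 := (normalizer ((P : Subgroup (ProjectiveSpecialLinearGroup (Fin 2) F)) :
    Set (ProjectiveSpecialLinearGroup (Fin 2) F))).card_mul_index
  rw [card_25 hF] at h2
  have hle : (P : Subgroup (ProjectiveSpecialLinearGroup (Fin 2) F)) ≤
    normalizer ((P : Subgroup (ProjectiveSpecialLinearGroup (Fin 2) F)) : Set (ProjectiveSpecialLinearGroup (Fin 2) F)) :=
    le_normalizer
  obtain ⟨m, hm⟩ := Subgroup.card_dvd_of_le hle
  rw [hcP] at hm
  have h3 : 75 ≤ Nat.card (normalizer ((P : Subgroup (ProjectiveSpecialLinearGroup (Fin 2) F)) :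
      Set (ProjectiveSpecialLinearGroup (Fin 2) F))) := by
    have hd : Disjoint ((P : Subgroup (ProjectiveSpecialLinearGroup (Fin 2) F)) : Set (ProjectiveSpecialLinearGroup (Fin 2) F))
        {x | x ∈ normalizer ((P : Subgroup (ProjectiveSpecialLinearGroup (Fin 2) F)) :
          Set (ProjectiveSpecialLinearGroup (Fin 2) F)) ∧ x ∈ D _ 3} := by
      rw [Set.disjoint_left]
      rintro x hx ⟨-, hx1, hx3⟩
      apply hx1
      obtain ⟨k, hk⟩ := P.2 ⟨x, hx⟩
      have hk' : x ^ (5 ^ k) = 1 := congrArg Subtype.val hk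
      have h4 : orderOf x ∣ 3 := orderOf_dvd_of_pow_eq_one hx3
      have h5 : orderOf x ∣ 5 ^ k := orderOf_dvd_of_pow_eq_one hk'
      have h6 : Nat.Coprime 3 (5 ^ k) := Nat.Coprime.pow_right _ (by norm_num)
      rw [← orderOf_eq_one_iff]
      exact Nat.eq_one_of_dvd_coprimes h6 h4 h5
    have h4 := Set.ncard_union_eq hd (Set.toFinite _) (Set.toFinite _)
    have h5 := fifty_le hF P
    have h6 : ((P : Subgroup (ProjectiveSpecialLinearGroup (Fin 2) F)) : Set (ProjectiveSpecialLinearGroup (Fin 2) F)).ncard = 25 := by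
      rw [← hcP]
      rfl
    have h7 : (((P : Subgroup (ProjectiveSpecialLinearGroup (Fin 2) F)) : Set (ProjectiveSpecialLinearGroup (Fin 2) F)) ∪
        {x | x ∈ normalizer ((P : Subgroup (ProjectiveSpecialLinearGroup (Fin 2) F)) :
          Set (ProjectiveSpecialLinearGroup (Fin 2) F)) ∧ x ∈ D _ 3}) ⊆
        ((normalizer ((P : Subgroup (ProjectiveSpecialLinearGroup (Fin 2) F)) :
          Set (ProjectiveSpecialLinearGroup (Fin 2) F)) : Subgroup (ProjectiveSpecialLinearGroup (Fin 2) F)) :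
          Set (ProjectiveSpecialLinearGroup (Fin 2) F)) := by
      rintro x (hx | hx)
      · exact hle hx
      · exact hx.1
    have h8 := Set.ncard_le_ncard h7 (Set.toFinite _)
    rw [h4, h6] at h8
    unfold e3 at h5
    refine le_trans ?_ h8
    omega
  have h4 := card_sylow_modEq_one 5 (ProjectiveSpecialLinearGroup (Fin 2) F)
  rw [← h1, hm] at h2
  rw [hm] at h3
  have hfac := card_dvd_fact (L := ProjectiveSpecialLinearGroup (Fin 2) F) (r := 5)
  rw [card_25 hF] at hfac
  have hone : Nat.card (Sylow 5 (ProjectiveSpecialLinearGroup (Fin 2) F)) ≠ 1 := by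
    intro h0
    rw [h0] at h1
    have h5 : normalizer ((P : Subgroup (ProjectiveSpecialLinearGroup (Fin 2) F)) :
        Set (ProjectiveSpecialLinearGroup (Fin 2) F)) = ⊤ := Subgroup.index_eq_one.1 h1.symm
    have h6 : (P : Subgroup (ProjectiveSpecialLinearGroup (Fin 2) F)).Normal := Subgroup.normalizer_eq_top_iff.1 h5
    rcases h6.eq_bot_or_eq_top with h7 | h7
    · rw [h7, Subgroup.card_bot] at hcP
      norm_num at hcP
    · rw [h7, Subgroup.card_top, card_25 hF] at hcP
      norm_num at hcP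
  generalize Nat.card (Sylow 5 (ProjectiveSpecialLinearGroup (Fin 2) F)) = s at *
  have hs : s ≤ 104 := by
    by_contra hcon
    have : 3 * 105 ≤ m * s := Nat.mul_le_mul (by omega) (by omega)
    linarith only [h2, this]
  have h5 : s % 5 = 1 := h4
  clear h1 h4
  have h6 : m * s = 312 := by linarith only [h2]
  have h7 : s ∣ 312 := Dvd.intro_left _ h6
  have h8 : s = 1 ∨ s = 6 ∨ s = 26 := by
    clear hfac hone h2 h3 hm h6
    revert h7 h5
    interval_cases s <;> decide
  rcases h8 with rfl | rfl | rfl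
  · exact absurd rfl hone
  · exfalso
    have := hfac (by norm_num)
    revert this
    decide
  · rfl

theorem card_norm_five (hF : Fintype.card F = 25) [Fact (Nat.Prime 5)] (P : Sylow 5 (ProjectiveSpecialLinearGroup (Fin 2) F)) :
    Nat.card (normalizer ((P : Subgroup (ProjectiveSpecialLinearGroup (Fin 2) F)) :
      Set (ProjectiveSpecialLinearGroup (Fin 2) F))) = 300 := by
  have h1 : Nat.card (Sylow 5 (ProjectiveSpecialLinearGroup (Fin 2) F)) =
    (normalizer ((P : Subgroup (ProjectiveSpecialLinearGroup (Fin 2) F)) :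
      Set (ProjectiveSpecialLinearGroup (Fin 2) F))).index := P.card_eq_index_normalizer
  have h2 := (normalizer ((P : Subgroup (ProjectiveSpecialLinearGroup (Fin 2) F)) :
    Set (ProjectiveSpecialLinearGroup (Fin 2) F))).card_mul_index
  rw [card_25 hF, ← h1, card_sylow_five hF] at h2
  omega

theorem field_cases {K : Type*} [Field K] [Fintype K] {m : ℕ} (h : Fintype.card K ^ m = 25) :
    Fintype.card K = 5 ∨ Fintype.card K = 25 := by
  have hm : m ≠ 0 := by
    rintro rfl
    norm_num at h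
  have h1 : Fintype.card K ∣ 5 ^ 2 := by
    rw [show (5 : ℕ) ^ 2 = 25 by norm_num, ← h]
    exact dvd_pow_self _ hm
  obtain ⟨i, hi, e⟩ := (Nat.dvd_prime_pow (by norm_num)).1 h1
  have h2 : 1 < Fintype.card K := Fintype.one_lt_card
  interval_cases i
  · rw [e] at h2
    norm_num at h2
  · exact Or.inl (by rw [e]; norm_num)
  · exact Or.inr (by rw [e]; norm_num)

theorem card_PSL_five {K : Type*} [Field K] [Fintype K] (h : Fintype.card K = 5) :
    Nat.card (ProjectiveSpecialLinearGroup (Fin 2) K) = 60 := by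
  have h1 := ClassicalGeometry.PSL2Basic.card_PSL2_odd (F := K) (by rw [h]; decide)
  rw [h] at h1
  omega

/-- **the orders of the subgroups of `PSL₂(25)`** -/
theorem card_cases (hF : Fintype.card F = 25) (K : Subgroup (ProjectiveSpecialLinearGroup (Fin 2) F)) :
    Nat.card K ∣ 26 ∨ Nat.card K ∣ 24 ∨ Nat.card K ∣ 300 ∨ Nat.card K ∣ 120 ∨ 7800 ≤ Nat.card K := by
  have h5 : Fact (Nat.Prime 5) := ⟨by norm_num⟩
  have := char_five hF
  have hdih : ∀ k : ℕ, Nat.card (DihedralGroup k) = 2 * k := fun k => DihedralGroup.nat_card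
  rcases Cfsg.Agent.S0799.result (F := F) hF 5 K with
    ⟨k, hk, ⟨-, hc⟩ | ⟨⟨e⟩⟩⟩ | ⟨P, B, hB, ⟨e⟩⟩ | ⟨⟨e⟩⟩ | ⟨⟨e⟩⟩ | ⟨⟨e⟩⟩ | ⟨K', _, _, m, hm, h⟩
  · rw [hc]
    rcases hk with hk | hk
    · exact Or.inl (hk.trans (by norm_num))
    · exact Or.inr (Or.inl (hk.trans (by norm_num)))
  · rw [Nat.card_congr e.toEquiv, hdih]
    rcases hk with hk | hk
    · exact Or.inl (Nat.mul_dvd_mul_left 2 (hk.trans (show (25 + 1) / Nat.gcd 2 (25 - 1) ∣ 13 by norm_num)))
    · exact Or.inr (Or.inl (Nat.mul_dvd_mul_left 2 (hk.trans (show (25 - 1) / Nat.gcd 2 (25 - 1) ∣ 12 by norm_num))))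
  · right; right; left
    rw [Nat.card_congr e.toEquiv, ← card_norm_five hF P]
    exact Subgroup.card_dvd_of_le hB
  · right; right; right; left
    rw [Nat.card_congr e.toEquiv, Nat.card_eq_fintype_card]
    decide +kernel
  · right; right; right; left
    rw [Nat.card_congr e.toEquiv, Nat.card_eq_fintype_card]
    decide
  · right; right; right; left
    rw [Nat.card_congr e.toEquiv, Nat.card_eq_fintype_card]
    decide +kernel
  · right; right; right
    rcases field_cases hm with hc | hc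
    · left
      rcases h with ⟨⟨e⟩⟩ | ⟨⟨e⟩⟩
      · rw [Nat.card_congr e.toEquiv, card_PSL_five hc]
        norm_num
      · rw [Nat.card_congr e.toEquiv, ClassicalGeometry.PSL2Basic.card_PGL2, hc]
        norm_num
    · right
      rcases h with ⟨⟨e⟩⟩ | ⟨⟨e⟩⟩
      · rw [Nat.card_congr e.toEquiv, card_25 hc]
      · rw [Nat.card_congr e.toEquiv, ClassicalGeometry.PSL2Basic.card_PGL2, hc]
        norm_num

/-- **the number of Sylow 13-subgroups** -/
theorem card_sylow_thirteen (hF : Fintype.card F = 25) [Fact (Nat.Prime 13)] :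
    Nat.card (Sylow 13 (ProjectiveSpecialLinearGroup (Fin 2) F)) = 300 := by
  classical
  have := simple_25 hF
  obtain ⟨P⟩ : Nonempty (Sylow 13 (ProjectiveSpecialLinearGroup (Fin 2) F)) := inferInstance
  have hfac : (Nat.card (ProjectiveSpecialLinearGroup (Fin 2) F)).factorization 13 = 1 := by
    rw [card_25 hF]
    have h1 : (7800 : ℕ) = 13 ^ 1 * 600 := by norm_num
    rw [h1, Nat.factorization_mul (by norm_num) (by norm_num), Nat.Prime.factorization_pow (by norm_num)]
    simp [Nat.factorization_eq_zero_of_not_dvd (show ¬ 13 ∣ 600 by norm_num)]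
  have hcP : Nat.card (P : Subgroup (ProjectiveSpecialLinearGroup (Fin 2) F)) = 13 := by
    rw [P.card_eq_multiplicity, hfac, pow_one]
  have h1 : Nat.card (Sylow 13 (ProjectiveSpecialLinearGroup (Fin 2) F)) =
    (normalizer ((P : Subgroup (ProjectiveSpecialLinearGroup (Fin 2) F)) :
      Set (ProjectiveSpecialLinearGroup (Fin 2) F))).index := P.card_eq_index_normalizer
  have h2 := (normalizer ((P : Subgroup (ProjectiveSpecialLinearGroup (Fin 2) F)) :
    Set (ProjectiveSpecialLinearGroup (Fin 2) F))).card_mul_index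
  rw [card_25 hF, ← h1] at h2
  have hle : (P : Subgroup (ProjectiveSpecialLinearGroup (Fin 2) F)) ≤
    normalizer ((P : Subgroup (ProjectiveSpecialLinearGroup (Fin 2) F)) : Set (ProjectiveSpecialLinearGroup (Fin 2) F)) :=
    le_normalizer
  obtain ⟨m, hm⟩ := Subgroup.card_dvd_of_le hle
  rw [hcP] at hm
  have hone : Nat.card (Sylow 13 (ProjectiveSpecialLinearGroup (Fin 2) F)) ≠ 1 := by
    intro h0
    rw [h0] at h1
    have h5 : normalizer ((P : Subgroup (ProjectiveSpecialLinearGroup (Fin 2) F)) :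
        Set (ProjectiveSpecialLinearGroup (Fin 2) F)) = ⊤ := Subgroup.index_eq_one.1 h1.symm
    have h6 : (P : Subgroup (ProjectiveSpecialLinearGroup (Fin 2) F)).Normal := Subgroup.normalizer_eq_top_iff.1 h5
    rcases h6.eq_bot_or_eq_top with h7 | h7
    · rw [h7, Subgroup.card_bot] at hcP
      norm_num at hcP
    · rw [h7, Subgroup.card_top, card_25 hF] at hcP
      norm_num at hcP
  have h4 : Nat.card (Sylow 13 (ProjectiveSpecialLinearGroup (Fin 2) F)) % 13 = 1 :=
    card_sylow_modEq_one 13 (ProjectiveSpecialLinearGroup (Fin 2) F)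
  have h5 := card_cases hF (normalizer ((P : Subgroup (ProjectiveSpecialLinearGroup (Fin 2) F)) :
      Set (ProjectiveSpecialLinearGroup (Fin 2) F)))
  rw [hm] at h2 h5
  have hk : ∀ n, ¬ 13 ∣ n → ¬ 13 * m ∣ n := fun n hn h => hn (Dvd.dvd.trans (Dvd.intro _ rfl) h)
  generalize Nat.card (Sylow 13 (ProjectiveSpecialLinearGroup (Fin 2) F)) = s at *
  rcases h5 with h5 | h5 | h5 | h5 | h5
  · have h6 : m ∣ 2 := Nat.dvd_of_mul_dvd_mul_left (by norm_num : 0 < 13) h5
    have h7 := Nat.le_of_dvd (by norm_num) h6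
    interval_cases m
    · omega
    · omega
    · omega
  · exact absurd h5 (hk _ (by norm_num))
  · exact absurd h5 (hk _ (by norm_num))
  · exact absurd h5 (hk _ (by norm_num))
  · exfalso
    apply hone
    have h6 : 600 ≤ m := by omega
    have h7 : m * s = 600 := by linarith only [h2]
    have h8 : s ≠ 0 := by
      rintro rfl
      omega
    have h9 : s < 2 := by
      by_contra hcon
      have := Nat.mul_le_mul h6 (show 2 ≤ s by omega)
      omega
    omega

/-- a proper subgroup of order divisible by 13 has order at most 26 -/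
theorem le_26 (hF : Fintype.card F = 25) {K : Subgroup (ProjectiveSpecialLinearGroup (Fin 2) F)} (hK : K ≠ ⊤)
    (hd : 13 ∣ Nat.card K) : Nat.card K ≤ 26 := by
  rcases card_cases hF K with h | h | h | h | h
  · exact Nat.le_of_dvd (by norm_num) h
  · exact absurd (hd.trans h) (by norm_num)
  · exact absurd (hd.trans h) (by norm_num)
  · exact absurd (hd.trans h) (by norm_num)
  · exact absurd (Subgroup.eq_top_of_le_card K (by rw [card_25 hF]; exact h)) hK

/-- subgroups of order 13 of a proper subgroup -/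
theorem unique_13 (hF : Fintype.card F = 25) {K : Subgroup (ProjectiveSpecialLinearGroup (Fin 2) F)} (hK : K ≠ ⊤)
    {P P' : Subgroup (ProjectiveSpecialLinearGroup (Fin 2) F)} (hP : Nat.card P = 13) (hP' : Nat.card P' = 13)
    (h : P ≤ K) (h' : P' ≤ K) : P = P' := by
  classical
  have hd : 13 ∣ Nat.card K := by
    rw [← hP]
    exact Subgroup.card_dvd_of_le h
  have hle := le_26 hF hK hd
  by_contra hne
  have h13 : Nat.Prime 13 := by norm_num
  have h1 : P ⊓ P' = ⊥ := by
    have h2 : Nat.card (P ⊓ P' : Subgroup (ProjectiveSpecialLinearGroup (Fin 2) F)) ∣ 13 := by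
      rw [← hP]
      exact Subgroup.card_dvd_of_le inf_le_left
    rcases (Nat.dvd_prime h13).1 h2 with h3 | h3
    · exact Subgroup.card_eq_one.1 h3
    · exfalso
      apply hne
      have h4 : P ⊓ P' = P := Subgroup.eq_of_le_of_card_ge inf_le_left (by rw [h3, hP])
      have h5 : P ⊓ P' = P' := Subgroup.eq_of_le_of_card_ge inf_le_right (by rw [h3, hP'])
      rw [← h4]
      exact h5
  have h2 : Function.Injective (fun p : P × P' => (⟨(p.1 : ProjectiveSpecialLinearGroup (Fin 2) F) * p.2,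
      K.mul_mem (h p.1.2) (h' p.2.2)⟩ : K)) := by
    rintro ⟨a, b⟩ ⟨c, d⟩ e
    have e1 : (a : ProjectiveSpecialLinearGroup (Fin 2) F) * b = c * d := congrArg Subtype.val e
    have e2 : (c : ProjectiveSpecialLinearGroup (Fin 2) F)⁻¹ * a = d * (b : ProjectiveSpecialLinearGroup (Fin 2) F)⁻¹ := by
      rw [inv_mul_eq_iff_eq_mul, ← mul_assoc, ← e1, mul_inv_cancel_right]
    have e3 : (c : ProjectiveSpecialLinearGroup (Fin 2) F)⁻¹ * a ∈ P ⊓ P' := by
      refine ⟨P.mul_mem (P.inv_mem c.2) a.2, ?_⟩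
      rw [e2]
      exact P'.mul_mem d.2 (P'.inv_mem b.2)
    rw [h1, Subgroup.mem_bot] at e3
    have e4 : (c : ProjectiveSpecialLinearGroup (Fin 2) F) = a := inv_mul_eq_one.1 e3
    rw [e4] at e1
    exact Prod.ext (Subtype.ext e4.symm) (Subtype.ext (mul_left_cancel e1))
  have h3 := Nat.card_le_card_of_injective _ h2
  rw [Nat.card_prod, hP, hP'] at h3
  omega

theorem D4_center : ∀ x : DihedralGroup 4, (∀ y, x * y = y * x) → x = 1 ∨ x = DihedralGroup.r 2 := by decide +kernel

theorem D2_comm : ∀ x y : DihedralGroup 2, x * y = y * x := by decide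

theorem D1_comm : ∀ x y : DihedralGroup 1, x * y = y * x := by decide

/-- no admissible subgroup is dihedral of order 8 -/
theorem not_D4 (hF : Fintype.card F = 25) {K : Subgroup (ProjectiveSpecialLinearGroup (Fin 2) F)} (hK : Adm K)
    (e : K ≃* DihedralGroup 4) : False := by
  classical
  let z : K := e.symm (DihedralGroup.r 2)
  have hz1 : (z : ProjectiveSpecialLinearGroup (Fin 2) F) ≠ 1 := by
    intro h
    have h1 : z = 1 := Subtype.ext h
    have h2 : (DihedralGroup.r 2 : DihedralGroup 4) = 1 := by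
      rw [← e.apply_symm_apply (DihedralGroup.r 2)]
      change e z = 1
      rw [h1, map_one]
    revert h2
    decide
  have hz2 : z ^ 2 = 1 := by
    apply e.injective
    rw [map_pow, map_one, e.apply_symm_apply]
    decide
  have hzc : ∀ y : K, z * y = y * z := by
    intro y
    apply e.injective
    rw [map_mul, map_mul, e.apply_symm_apply]
    generalize e y = w
    revert w
    decide
  let X : Subgroup (ProjectiveSpecialLinearGroup (Fin 2) F) := (center K).map K.subtype
  have hX : ∀ x ∈ X, x = 1 ∨ x = (z : ProjectiveSpecialLinearGroup (Fin 2) F) := by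
    rintro _ ⟨x, hx, rfl⟩
    have h1 : ∀ y, e x * y = y * e x := by
      intro y
      have := (mem_center_iff.1 hx (e.symm y)).symm
      have h2 := congrArg e this
      rwa [map_mul, map_mul, e.apply_symm_apply] at h2
    rcases D4_center _ h1 with h2 | h2
    · left
      have : x = 1 := by
        rw [← e.symm_apply_apply x, h2, map_one]
      rw [this]
      rfl
    · right
      have : x = z := by
        rw [← e.symm_apply_apply x, h2]
      rw [this]
      rfl
  have hzX : (z : ProjectiveSpecialLinearGroup (Fin 2) F) ∈ X := ⟨z, mem_center_iff.2 fun y => (hzc y).symm, rfl⟩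
  have hcent : centralizer {(z : ProjectiveSpecialLinearGroup (Fin 2) F)} ≤ K := by
    intro g hg
    rw [mem_centralizer_singleton_iff] at hg
    refine hK.norm X ?_ ?_ ?_ g ?_
    · rintro _ ⟨x, -, rfl⟩
      exact x.2
    · intro h0
      rw [h0, mem_bot] at hzX
      exact hz1 hzX
    · rintro φ y ⟨x, hx, hxy⟩
      have : x = y := Subtype.ext hxy
      subst this
      refine ⟨φ x, mem_center_iff.2 fun g => ?_, rfl⟩
      have h1 := congrArg φ (mem_center_iff.1 hx (φ.symm g))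
      rwa [map_mul, map_mul, MulEquiv.apply_symm_apply] at h1
    · intro x hx
      rcases hX x hx with rfl | rfl
      · rw [mul_one, mul_inv_cancel]
        exact one_mem _
      · rw [hg, mul_inv_cancel_right]
        exact hx
  have hK8 : Nat.card K = 8 := by rw [Nat.card_congr e.toEquiv, DihedralGroup.nat_card]
  have h1 := Subgroup.card_le_of_le hcent
  rw [hK8] at h1
  -- the class of `z`
  have h2 : H742.EX.cG (z : ProjectiveSpecialLinearGroup (Fin 2) F) ≤ 650 := by
    have h3 := two_le (F := F)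
    rw [hF] at h3
    refine le_trans ?_ h3
    change Nat.card ({y | IsConj (z : ProjectiveSpecialLinearGroup (Fin 2) F) y} : Set _) ≤ _
    refine Set.ncard_le_ncard ?_ (Set.toFinite _)
    intro y hy
    obtain ⟨g, hg⟩ := isConj_iff.1 hy
    rw [← hg]
    refine ⟨fun h4 => hz1 (conj_eq_one_iff.1 h4), ?_⟩
    rw [conj_pow, ← Subgroup.coe_pow, hz2, Subgroup.coe_one, mul_one, mul_inv_cancel]
  have h3 := H742.EX.card_G (z : ProjectiveSpecialLinearGroup (Fin 2) F)
  have h4 : Nat.card {g : ProjectiveSpecialLinearGroup (Fin 2) F // g⁻¹ * z * g = z} ≤ 8 := by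
    refine le_trans (Nat.card_le_card_of_injective (fun g => (⟨g.1, ?_⟩ : centralizer {(z :
      ProjectiveSpecialLinearGroup (Fin 2) F)})) ?_) h1
    · rw [mem_centralizer_singleton_iff]
      have := g.2
      rw [mul_assoc, inv_mul_eq_iff_eq_mul] at this
      exact this.symm
    · intro a b hab
      have hab' := congrArg (fun q : centralizer {(z : ProjectiveSpecialLinearGroup (Fin 2) F)} =>
        (q : ProjectiveSpecialLinearGroup (Fin 2) F)) hab
      exact Subtype.ext hab'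
  rw [card_25 hF] at h3
  have h5 := Nat.mul_le_mul h2 h4
  omega

theorem not_comm_25 (hF : Fintype.card F = 25) {K : Subgroup (ProjectiveSpecialLinearGroup (Fin 2) F)} (hK : Adm K)
    {X : Type*} [Group X] (e : K ≃* X) (hX : ∀ x y : X, x * y = y * x) : False := by
  have := simple_25 hF
  refine hK.not_comm (ncomm_25 hF) fun a ha b hb => ?_
  have h1 : (⟨a, ha⟩ : K) * ⟨b, hb⟩ = ⟨b, hb⟩ * ⟨a, ha⟩ := by
    apply e.injective
    rw [map_mul, map_mul, hX]
  exact congrArg Subtype.val h1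

/-- **The admissible subgroups of `PSL₂(25)`.** -/
theorem adm_25 (hF : Fintype.card F = 25) [Fact (Nat.Prime 5)] {K : Subgroup (ProjectiveSpecialLinearGroup (Fin 2) F)}
    (hK : Adm K) :
    13 ∣ Nat.card K ∨
    (∃ P : Sylow 5 (ProjectiveSpecialLinearGroup (Fin 2) F), K = normalizer
      ((P : Subgroup (ProjectiveSpecialLinearGroup (Fin 2) F)) : Set (ProjectiveSpecialLinearGroup (Fin 2) F))) ∨
    (3 ∣ Nat.card K ∧ ¬ 25 ∣ Nat.card K) := by
  have := char_five hF
  have := simple_25 hF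
  have hnc : ¬ ∀ a ∈ K, ∀ b ∈ K, a * b = b * a := hK.not_comm (ncomm_25 hF)
  have hdih : ∀ k : ℕ, Nat.card (DihedralGroup k) = 2 * k := fun k => DihedralGroup.nat_card
  rcases Cfsg.Agent.S0799.result (F := F) hF 5 K with
    ⟨k, hk, ⟨hc, -⟩ | ⟨⟨e⟩⟩⟩ | ⟨P, B, hB, ⟨e⟩⟩ | ⟨⟨e⟩⟩ | ⟨⟨e⟩⟩ | ⟨⟨e⟩⟩ | ⟨K', _, _, m, hm, h⟩
  · exfalso
    apply hnc
    intro a ha b hb
    exact congrArg Subtype.val (hc.isMulCommutative.is_comm.comm (⟨a, ha⟩ : K) ⟨b, hb⟩)
  · rw [Nat.card_congr e.toEquiv, hdih]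
    rcases hk with hk | hk
    · have hk' : k ∣ 13 := hk.trans (by norm_num)
      rcases (Nat.dvd_prime (by norm_num)).1 hk' with rfl | rfl
      · exact (not_comm_25 hF hK e D1_comm).elim
      · left
        norm_num
    · right; right
      have hk' : k ∣ 12 := hk.trans (by norm_num)
      have hle := Nat.le_of_dvd (by norm_num) hk'
      interval_cases k
      · norm_num at hk'
      · exact (not_comm_25 hF hK e D1_comm).elim
      · exact (not_comm_25 hF hK e D2_comm).elim
      · norm_num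
      · exact (not_D4 hF hK e).elim
      · norm_num at hk'
      · norm_num
      · norm_num at hk'
      · norm_num at hk'
      · norm_num at hk'
      · norm_num at hk'
      · norm_num at hk'
      · norm_num
  · exact Or.inr (Or.inl (borel hK hnc 5 P hB e))
  · right; right
    rw [Nat.card_congr e.toEquiv, Nat.card_eq_fintype_card]
    decide +kernel
  · right; right
    rw [Nat.card_congr e.toEquiv, Nat.card_eq_fintype_card]
    decide
  · right; right
    rw [Nat.card_congr e.toEquiv, Nat.card_eq_fintype_card]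
    decide +kernel
  · rcases field_cases hm with hc | hc
    · right; right
      rcases h with ⟨⟨e⟩⟩ | ⟨⟨e⟩⟩
      · rw [Nat.card_congr e.toEquiv, card_PSL_five hc]
        norm_num
      · rw [Nat.card_congr e.toEquiv, ClassicalGeometry.PSL2Basic.card_PGL2, hc]
        norm_num
    · exfalso
      apply hK.ne_top
      exact H948.PSLMax.eq_top_of_card_eq K (by rw [hc, hF]) h

end PSL

end Cfsg.Agent.H545.EX.LTwo
end

-- part: H545/EX/CntAct
section
/-!
# Counting fixed points of Sylow subgroups and elements (helper545)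

`L` acts on `Ω`, `o` is a fixed point.
* `sylow_count` : if every `w ≠ o` is fixed by at most one Sylow `r`-subgroup, the number of points `w ≠ o` fixed by one
  is `|Syl_r| * k` with `k + 1 ≡ |Ω|` mod `r`;
* `sum_fix` : `∑_{x ∈ E} |Fix x ∖ {o}| = ∑_{w ≠ o} |E ∩ L_w|`.
-/

set_option autoImplicit false

namespace Cfsg.Agent.H545.EX.Cnt

open MulAction
open scoped Pointwise

variable {L Ω : Type*} [Group L] [MulAction L Ω]

theorem mem_smul_sylow {r : ℕ} {P : Sylow r L} {g y : L} : y ∈ g • P ↔ g⁻¹ * y * g ∈ P := by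
  change y ∈ (MulAut.conj g • (P : Subgroup L)) ↔ _
  rw [Subgroup.mem_pointwise_smul_iff_inv_smul_mem]
  have : (MulAut.conj g)⁻¹ • y = g⁻¹ * y * g := by
    rw [← map_inv, MulAut.smul_def, MulAut.conj_apply, inv_inv]
  rw [this]
  rfl

theorem sylow_count [Finite L] [Finite Ω] {r : ℕ} [Fact r.Prime] (o : Ω) (ho : ∀ g : L, g • o = o)
    (huniq : ∀ w, w ≠ o → ∀ P P' : Sylow r L, (P : Subgroup L) ≤ stabilizer L w → (P' : Subgroup L) ≤ stabilizer L w →
      P = P') :
    ∃ k, (k + 1) % r = Nat.card Ω % r ∧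
      {w : Ω | w ≠ o ∧ ∃ P : Sylow r L, (P : Subgroup L) ≤ stabilizer L w}.ncard = Nat.card (Sylow r L) * k := by
  classical
  obtain ⟨P₀⟩ : Nonempty (Sylow r L) := inferInstance
  let S : Set Ω := {w | w ≠ o ∧ (P₀ : Subgroup L) ≤ stabilizer L w}
  refine ⟨S.ncard, ?_, ?_⟩
  · have h1 := P₀.2.card_modEq_card_fixedPoints (α := Ω)
    have h2 : fixedPoints (P₀ : Subgroup L) Ω = insert o S := by
      ext w
      rw [mem_fixedPoints, Set.mem_insert_iff]
      constructor
      · intro h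
        by_cases hw : w = o
        · exact Or.inl hw
        · exact Or.inr ⟨hw, fun g hg => mem_stabilizer_iff.2 (h ⟨g, hg⟩)⟩
      · rintro (rfl | ⟨-, h⟩)
        · rintro ⟨g, hg⟩
          exact ho g
        · rintro ⟨g, hg⟩
          exact mem_stabilizer_iff.1 (h hg)
    have h3 : Nat.card (fixedPoints (P₀ : Subgroup L) Ω) = S.ncard + 1 := by
      rw [Nat.card_coe_set_eq, h2, Set.ncard_insert_of_notMem (fun h => h.1 rfl) (Set.toFinite _)]
    rw [← h3]
    exact h1.symm
  · choose g hg using fun P : Sylow r L => exists_smul_eq L P₀ P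
    have hst : ∀ (P : Sylow r L) (w : Ω), (P₀ : Subgroup L) ≤ stabilizer L w →
        (P : Subgroup L) ≤ stabilizer L (g P • w) := by
      intro P w hw y hy
      have h2 : (g P)⁻¹ * y * g P ∈ P₀ := by
        rw [← mem_smul_sylow, hg]
        exact hy
      have h3 := mem_stabilizer_iff.1 (hw h2)
      rw [mem_stabilizer_iff]
      rw [mul_smul, mul_smul, inv_smul_eq_iff] at h3
      exact h3
    have hinj : Function.Injective (fun p : Sylow r L × S => g p.1 • (p.2 : Ω)) := by
      rintro ⟨P, w⟩ ⟨P', w'⟩ e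
      have e' : g P • (w : Ω) = g P' • (w' : Ω) := e
      have hne : g P • (w : Ω) ≠ o := by
        intro h
        have h1 : (w : Ω) = (g P)⁻¹ • o := by rw [← h, inv_smul_smul]
        rw [ho] at h1
        exact w.2.1 h1
      have h1 : P = P' := huniq _ hne P P' (hst P w w.2.2) (by rw [e']; exact hst P' w' w'.2.2)
      subst h1
      exact Prod.ext rfl (Subtype.ext (smul_left_cancel _ e'))
    have himg : {w : Ω | w ≠ o ∧ ∃ P : Sylow r L, (P : Subgroup L) ≤ stabilizer L w} =
        Set.range (fun p : Sylow r L × S => g p.1 • (p.2 : Ω)) := by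
      ext w
      constructor
      · rintro ⟨hw, P, hP⟩
        refine ⟨⟨P, ⟨(g P)⁻¹ • w, ?_, ?_⟩⟩, smul_inv_smul _ _⟩
        · intro h
          rw [inv_smul_eq_iff, ho] at h
          exact hw h
        · intro y hy
          rw [mem_stabilizer_iff]
          have h1 : g P * y * (g P)⁻¹ ∈ P := by
            have h2 : g P * y * (g P)⁻¹ ∈ g P • P₀ := by
              rw [mem_smul_sylow]
              have : (g P)⁻¹ * (g P * y * (g P)⁻¹) * g P = y := by group
              rw [this]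
              exact hy
            rwa [hg] at h2
          have h2 := mem_stabilizer_iff.1 (hP h1)
          rw [mul_smul, mul_smul] at h2
          rw [eq_inv_smul_iff]
          exact h2
      · rintro ⟨⟨P, w⟩, rfl⟩
        refine ⟨?_, P, hst P w w.2.2⟩
        intro h
        have h' : g P • (w : Ω) = o := h
        have h1 : (w : Ω) = (g P)⁻¹ • o := by rw [← h', inv_smul_smul]
        rw [ho] at h1
        exact w.2.1 h1
    rw [himg, ← Set.image_univ, Set.ncard_image_of_injective _ hinj, Set.ncard_univ, Nat.card_prod, Nat.card_coe_set_eq]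

theorem sum_fix [Fintype Ω] [DecidableEq Ω] (E : Finset L) (o : Ω) :
    ∑ x ∈ E, {w : Ω | w ≠ o ∧ x • w = w}.ncard =
      ∑ w ∈ Finset.univ.erase o, {x : L | x ∈ stabilizer L w ∧ x ∈ E}.ncard := by
  classical
  have h1 : ∀ x : L, {w : Ω | w ≠ o ∧ x • w = w}.ncard =
      (Finset.bipartiteAbove (fun (x : L) (w : Ω) => x • w = w) (Finset.univ.erase o) x).card := by
    intro x
    rw [← Set.ncard_coe_finset]
    congr 1
    ext w
    simp only [Finset.bipartiteAbove, _root_.ne_eq, _root_.Set.mem_ofPred_eq, _root_.Finset.bipartiteAbove, _root_.Finset.coe_filter, _root_.Finset.mem_erase, _root_.Finset.mem_univ, _root_.and_true]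
  have h2 : ∀ w : Ω, {x : L | x ∈ stabilizer L w ∧ x ∈ E}.ncard =
      (Finset.bipartiteBelow (fun (x : L) (w : Ω) => x • w = w) E w).card := by
    intro w
    rw [← Set.ncard_coe_finset]
    congr 1
    ext x
    simp [Finset.bipartiteBelow, mem_stabilizer_iff, and_comm]
  rw [Finset.sum_congr rfl fun x _ => h1 x, Finset.sum_congr rfl fun w _ => h2 w]
  exact Finset.sum_card_bipartiteAbove_eq_sum_card_bipartiteBelow _

end Cfsg.Agent.H545.EX.Cnt
end

-- part: H545/EX/TitsL25
section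
/-!
# S5745, the Tits group: the row `T = L₂(25)` (helper545)

`no_25` : a simple group of order 17971200 with `|C(x)| ≤ 108` for the elements of order 3 has no extremely primitive
action with stabiliser of socle `PSL₂(25)`.
-/

set_option autoImplicit false

namespace Cfsg.Agent.H545.EX.LTwo

open Subgroup Matrix Cfsg.Agent.H417.EP MulAction
open Cfsg.Agent.H284
open Cfsg.Agent.H417.EP.Eleven (D)
open Cfsg.Agent.H545.EX.Cnt

section

variable {F : Type*} [Field F] [Fintype F]

local notation "LL" => ProjectiveSpecialLinearGroup (Fin 2) F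

theorem two_le_e3 {L : Type*} [Group L] [Finite L] {K : Subgroup L} (h : 3 ∣ Nat.card K) : 2 ≤ e3 K := by
  have : Fact (Nat.Prime 3) := ⟨Nat.prime_three⟩
  obtain ⟨x, hx⟩ := exists_prime_orderOf_dvd_card' (G := K) 3 h
  have hx' : orderOf (x : L) = 3 := by rw [Subgroup.orderOf_coe, hx]
  have hx3 : (x : L) ^ 3 = 1 := by rw [← hx']; exact pow_orderOf_eq_one _
  have hx1 : (x : L) ≠ 1 := by
    intro h0
    rw [h0, orderOf_one] at hx'
    norm_num at hx'
  have hx2 : (x : L) ^ 2 ≠ 1 := by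
    intro h0
    have := orderOf_dvd_of_pow_eq_one h0
    rw [hx'] at this
    norm_num at this
  have hne : (x : L) ≠ (x : L) ^ 2 := by
    intro h0
    apply hx1
    have h1 : (x : L) * 1 = x * x := by rw [mul_one, ← pow_two]; exact h0
    exact (mul_left_cancel h1).symm
  have h1 : ({(x : L), (x : L) ^ 2} : Set L) ⊆ {y | y ∈ K ∧ y ∈ D L 3} := by
    rintro y (rfl | rfl)
    · exact ⟨x.2, hx1, hx3⟩
    · refine ⟨K.pow_mem x.2 2, hx2, ?_⟩
      rw [← pow_mul, mul_comm, pow_mul, hx3, one_pow]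
  have h2 := Set.ncard_le_ncard h1 (Set.toFinite _)
  rwa [Set.ncard_pair hne] at h2

/-- `P ≤ N(P')` -/
theorem eq_of_le_norm {L : Type*} [Group L] [Finite L] {r : ℕ} [Fact r.Prime] {P P' : Sylow r L}
    (h : (P : Subgroup L) ≤ normalizer ((P' : Subgroup L) : Set L)) : P = P' := by
  have h1 := P.2.inf_normalizer_sylow P'
  have h2 : (P : Subgroup L) ≤ P' := by
    have h3 : (P : Subgroup L) = (P : Subgroup L) ⊓ normalizer ((P' : Subgroup L) : Set L) := (inf_eq_left.2 h).symm
    rw [h3]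
    exact h1.le.trans inf_le_right
  exact (Sylow.ext (P.3 P'.2 h2)).symm

theorem card_P5 (hF : Fintype.card F = 25) [Fact (Nat.Prime 5)] (P : Sylow 5 LL) : Nat.card (P : Subgroup LL) = 25 := by
  rw [P.card_eq_multiplicity, fact_five hF]
  norm_num

theorem fact_13 (hF : Fintype.card F = 25) : (Nat.card LL).factorization 13 = 1 := by
  rw [card_25 hF]
  have h1 : (7800 : ℕ) = 13 ^ 1 * 600 := by norm_num
  rw [h1, Nat.factorization_mul (by norm_num) (by norm_num), Nat.Prime.factorization_pow (by norm_num)]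
  simp [Nat.factorization_eq_zero_of_not_dvd (show ¬ 13 ∣ 600 by norm_num)]

theorem card_P13 (hF : Fintype.card F = 25) [Fact (Nat.Prime 13)] (P : Sylow 13 LL) :
    Nat.card (P : Subgroup LL) = 13 := by
  rw [P.card_eq_multiplicity, fact_13 hF, pow_one]

/-- **The count**: `L = PSL₂(25)` acts on `Ω` with one fixed point, all other stabilisers are admissible. -/
theorem count (hF : Fintype.card F = 25) {Ω : Type*} [Finite Ω] [MulAction LL Ω] (o : Ω) (ho : ∀ g : LL, g • o = o)
    (hadm : ∀ w : Ω, w ≠ o → Adm (stabilizer LL w)) :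
    (∃ k, (k + 1) % 13 = Nat.card Ω % 13 ∧ 300 * k + 1 ≤ Nat.card Ω) ∧
    (Nat.card Ω = 2304 → ∀ b : ℕ, (∀ x : LL, x ∈ D LL 3 → {w : Ω | w ≠ o ∧ x • w = w}.ncard ≤ b) →
      7150 ≤ 650 * b) := by
  classical
  have := Fintype.ofFinite Ω
  have : Fintype LL := Fintype.ofFinite _
  have h5 : Fact (Nat.Prime 5) := ⟨by norm_num⟩
  have h13 : Fact (Nat.Prime 13) := ⟨by norm_num⟩
  have hs := simple_25 hF
  obtain ⟨k, hk, hk'⟩ := sylow_count (L := LL) (r := 13) o ho (fun w hw P P' h h' =>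
    Sylow.ext (unique_13 hF (hadm w hw).ne_top (card_P13 hF P) (card_P13 hF P') h h'))
  rw [card_sylow_thirteen hF] at hk'
  set S13 : Set Ω := {w : Ω | w ≠ o ∧ ∃ P : Sylow 13 LL, (P : Subgroup LL) ≤ stabilizer LL w} with hS13
  have hle : 300 * k + 1 ≤ Nat.card Ω := by
    rw [← hk', ← Set.ncard_univ, ← Set.ncard_insert_of_notMem (a := o) (s := S13) (fun h => h.1 rfl) (Set.toFinite _)]
    exact Set.ncard_le_ncard (Set.subset_univ _) (Set.toFinite _)
  refine ⟨⟨k, hk, hle⟩, fun hn b hb => ?_⟩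
  have hk2 : k = 2 := by (clear * - hk hle hn; solve | lia | omega)
  rw [hk2] at hk'
  have hno : ∀ w : Ω, w ≠ o → ∀ P : Sylow 5 LL, (P : Subgroup LL) ≤ stabilizer LL w → 13 ∣ Nat.card (stabilizer LL w) →
      False := by
    intro w hw P hP hd
    have h1 := le_26 hF (hadm w hw).ne_top hd
    have h2 := Subgroup.card_dvd_of_le hP
    rw [card_P5 hF] at h2
    have h3 : 25 * 13 ∣ Nat.card (stabilizer LL w) := Nat.Coprime.mul_dvd_of_dvd_of_dvd (by norm_num) h2 hd
    have h4 := Nat.le_of_dvd Nat.card_pos h3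
    omega
  obtain ⟨k5, hk5, hk5'⟩ := sylow_count (L := LL) (r := 5) o ho (fun w hw P P' h h' => by
    rcases adm_25 hF (hadm w hw) with h1 | ⟨P₁, h1⟩ | ⟨-, h1⟩
    · exact (hno w hw P h h1).elim
    · rw [h1] at h h'
      rw [eq_of_le_norm h, eq_of_le_norm h']
    · exfalso
      apply h1
      rw [← card_P5 hF P]
      exact Subgroup.card_dvd_of_le h)
  rw [card_sylow_five hF] at hk5'
  set S5 : Set Ω := {w : Ω | w ≠ o ∧ ∃ P : Sylow 5 LL, (P : Subgroup LL) ≤ stabilizer LL w} with hS5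
  have hk53 : 3 ≤ k5 := by omega
  -- the pointwise inequality
  have hpt : ∀ w ∈ (Finset.univ.erase o : Finset Ω), 2 + (if w ∈ S5 then 48 else 0) ≤
      {x : LL | x ∈ stabilizer LL w ∧ x ∈ (D LL 3).toFinset}.ncard + (if w ∈ S13 then 2 else 0) := by
    intro w hw
    have hw : w ≠ o := Finset.ne_of_mem_erase hw
    have he : {x : LL | x ∈ stabilizer LL w ∧ x ∈ (D LL 3).toFinset}.ncard = e3 (stabilizer LL w) := by
      rw [e3]
      congr 1
      ext x
      simp
    rw [he]
    by_cases h1 : w ∈ S13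
    · have h2 : w ∉ S5 := by
        rintro ⟨-, P, hP⟩
        obtain ⟨-, P', hP'⟩ := h1
        refine hno w hw P hP ?_
        rw [← card_P13 hF P']
        exact Subgroup.card_dvd_of_le hP'
      rw [if_pos h1, if_neg h2]
      omega
    · rw [if_neg h1]
      have h13' : ¬ 13 ∣ Nat.card (stabilizer LL w) := by
        intro hd
        apply h1
        obtain ⟨y, hy⟩ := exists_prime_orderOf_dvd_card' (G := stabilizer LL w) 13 hd
        have hcy : Nat.card (zpowers (y : LL)) = 13 ^ (Nat.card LL).factorization 13 := by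
          rw [Nat.card_zpowers, Subgroup.orderOf_coe, hy, fact_13 hF, pow_one]
        refine ⟨hw, Sylow.ofCard (zpowers (y : LL)) hcy, ?_⟩
        change zpowers (y : LL) ≤ _
        rw [zpowers_le]
        exact y.2
      rcases adm_25 hF (hadm w hw) with h2 | ⟨P, h2⟩ | ⟨h2, h3⟩
      · exact absurd h2 h13'
      · have h4 := fifty_le hF P
        rw [← h2] at h4
        split_ifs <;> omega
      · have h4 : w ∉ S5 := by
          rintro ⟨-, P, hP⟩
          apply h3
          rw [← card_P5 hF P]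
          exact Subgroup.card_dvd_of_le hP
        rw [if_neg h4]
        have := two_le_e3 h2
        omega
  have hsum := Finset.sum_le_sum hpt
  rw [Finset.sum_add_distrib, Finset.sum_add_distrib, ← sum_fix] at hsum
  have hc : (Finset.univ.erase o : Finset Ω).card = 2303 := by
    rw [Finset.card_erase_of_mem (Finset.mem_univ _), Finset.card_univ, ← Nat.card_eq_fintype_card, hn]
  have hi : ∀ (S : Set Ω) [DecidablePred (· ∈ S)] (c : ℕ), o ∉ S → ∑ w ∈ (Finset.univ.erase o : Finset Ω), (if w ∈ S then c else 0) = S.ncard * c := by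
    intro S _ c hoS
    rw [← Finset.sum_filter, Finset.sum_const, smul_eq_mul]
    congr 1
    rw [← Set.ncard_coe_finset]
    congr 1
    ext w
    simp only [Finset.coe_filter, Finset.mem_erase, Finset.mem_univ, and_true, Set.mem_ofPred_eq]
    exact ⟨fun h => h.2, fun h => ⟨fun h0 => hoS (h0 ▸ h), h⟩⟩
  rw [hi S5 48 (fun h => h.1 rfl), hi S13 2 (fun h => h.1 rfl), hk', hk5', Finset.sum_const, hc, smul_eq_mul] at hsum
  have hE : (D LL 3).toFinset.card ≤ 650 := by
    rw [← Set.ncard_eq_toFinset_card']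
    have := three_le (F := F)
    rw [hF] at this
    exact this
  have hub : ∑ x ∈ (D LL 3).toFinset, {w : Ω | w ≠ o ∧ x • w = w}.ncard ≤ 650 * b := by
    refine (Finset.sum_le_card_nsmul _ _ b fun x hx => hb x (Set.mem_toFinset.1 hx)).trans ?_
    rw [smul_eq_mul]
    exact Nat.mul_le_mul_right _ hE
  omega

variable {G : Type*} [Group G] [Finite G] {A : Subgroup G} {Γ : Subgroup (MulAut G)}

/-- **The Tits group, socle of the stabiliser `PSL₂(25)`.** -/
theorem no_25 (hF : Fintype.card F = 25) (hG : Nat.card G = 17971200)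
    (hz3 : ∀ x : G, orderOf x = 3 → Nat.card (centralizer {x}) ≤ 108) (h : EPT A Γ) (hsoc : H419.EP.HasSoc A LL) :
    False := by
  classical
  have hdv := hsoc.card_dvd
  obtain ⟨φ, hφ⟩ := hsoc.exists_hom
  have hdv2 := Subgroup.card_dvd_of_injective φ hφ
  rw [card_aut_25 hF] at hdv2
  rw [card_25 hF] at hdv
  obtain ⟨N, hNA, hN, hcent, ⟨e⟩⟩ := hsoc
  have := simple_25 hF
  have hna := ncomm_25 hF
  have hz : ∀ z : LL, (∀ x, z * x = x * z) → z = 1 := by
    intro z hz
    have h1 : z ∈ center LL := mem_center_iff.2 fun g => (hz g).symm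
    rcases (inferInstance : (center LL).Normal).eq_bot_or_eq_top with h2 | h2
    · rwa [h2, mem_bot] at h1
    · exfalso
      obtain ⟨a, b, hab⟩ := hna
      have h3 : b ∈ center LL := by rw [h2]; exact mem_top b
      exact hab (mem_center_iff.1 h3 a)
  have hOut := out_four hz (by rw [card_aut_25 hF, card_25 hF])
  have hi : _root_.Cfsg.Agent.H417.EP.Inv A Γ (emb e) := base_inv h hNA hN e hcent
  have hne : ∀ x, x ∉ A → tr (emb e) A x ≠ ⊥ := fun x hx => base_tr h hNA hN hna e hcent hOut hx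
  let _ : MulAction LL (G ⧸ A) := MulAction.compHom (G ⧸ A) (emb e)
  have hsm : ∀ (l : LL) (w : G ⧸ A), l • w = emb e l • w := fun _ _ => rfl
  have ho : ∀ l : LL, l • ((1 : G) : G ⧸ A) = ((1 : G) : G ⧸ A) := by
    intro l
    rw [hsm]
    rw [H807.EPX.smul_mk_eq]
    rw [inv_one, one_mul, mul_one]
    exact hi.mem l
  have hadm : ∀ w : G ⧸ A, w ≠ ((1 : G) : G ⧸ A) → Adm (stabilizer LL w) := by
    intro w hw
    obtain ⟨x, rfl⟩ := QuotientGroup.mk_surjective w
    have hx : x ∉ A := by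
      intro hx
      apply hw
      rw [eq_comm, QuotientGroup.eq, inv_one, one_mul]
      exact hx
    have h1 : stabilizer LL (x : G ⧸ A) = tr (emb e) A x := by
      ext l
      rw [mem_stabilizer_iff, hsm, mem_tr]
      exact H807.EPX.smul_mk_eq
    rw [h1]
    exact adm_tr h hi hx (hne x hx)
  obtain ⟨⟨k, hk, hle⟩, hcnt⟩ := count hF (Ω := G ⧸ A) _ ho hadm
  have hidx := A.card_mul_index
  rw [hG, ← Subgroup.index_eq_card] at *
  obtain ⟨j, hj⟩ := hdv
  have hj4 : j ∣ 4 := by
    rw [hj] at hdv2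
    exact Nat.dvd_of_mul_dvd_mul_left (by norm_num : 0 < 7800) (by rw [mul_comm 7800 4]; exact hdv2)
  have hj4' : j = 1 ∨ j = 2 ∨ j = 4 := by
    have := Nat.le_of_dvd (by norm_num) hj4
    interval_cases j
    · norm_num at hj4
    · exact Or.inl rfl
    · exact Or.inr (Or.inl rfl)
    · norm_num at hj4
    · exact Or.inr (Or.inr rfl)
  rw [hj] at hidx
  rcases hj4' with rfl | rfl | rfl
  · have hn : A.index = 2304 := by omega
    have h1 := hcnt hn 8 (by
      intro x hx
      have hx1 : emb e x ≠ 1 := by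
        intro h0
        apply hx.1
        apply hi.inj
        rw [h0, map_one]
      have hx3 : orderOf (emb e x) = 3 := by
        refine orderOf_eq_prime ?_ hx1
        rw [← map_pow, hx.2, map_one]
      have h2 := H807.EPX.Fx_mul (H := A) (emb e x)
      have h3 := hz3 _ hx3
      have h4 : H807.EPX.Sec A (emb e x) ≤ 650 := by
        have h5 := three_le (F := F)
        rw [hF] at h5
        have hNA' : N = A := Subgroup.eq_of_le_of_card_ge hNA (by
          rw [hj, Nat.card_congr e.toEquiv, card_25 hF])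
        refine le_trans ?_ h5
        refine Set.ncard_le_ncard_of_injOn (fun y => if hy : y ∈ N then e ⟨y, hy⟩ else 1) ?_ ?_ (Set.toFinite _)
        · rintro y ⟨hy, hxy⟩
          have hyN : y ∈ N := by rw [hNA']; exact hy
          have ho3 : orderOf y = 3 := by
            obtain ⟨g, hg⟩ := isConj_iff.1 hxy
            rw [← hg, ← hx3]
            simpa only [_root_.MulEquiv.toMonoidHom_eq_coe, _root_.MonoidHom.coe_coe, _root_.MulAut.conj_apply] using orderOf_injective (MulAut.conj g).toMonoidHom (MulAut.conj g).injective (emb e x)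
          simp only [dif_pos hyN]
          constructor
          · intro h0
            rw [MulEquiv.map_eq_one_iff] at h0
            have : y = 1 := congrArg Subtype.val h0
            rw [this, orderOf_one] at ho3
            norm_num at ho3
          · rw [← map_pow]
            have : (⟨y, hyN⟩ : N) ^ 3 = 1 := Subtype.ext (by
              rw [Subgroup.coe_pow, Subgroup.coe_one, ← ho3]
              exact pow_orderOf_eq_one y)
            rw [this, map_one]
        · rintro y ⟨hy, -⟩ z ⟨hz, -⟩ hyz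
          have hyN : y ∈ N := by rw [hNA']; exact hy
          have hzN : z ∈ N := by rw [hNA']; exact hz
          simp only [dif_pos hyN, dif_pos hzN] at hyz
          exact congrArg Subtype.val (e.injective hyz)
      have h5 : {w : G ⧸ A | w ≠ ((1 : G) : G ⧸ A) ∧ x • w = w}.ncard + 1 = H807.EPX.Fx A (emb e x) := by
        rw [H807.EPX.Fx]
        have : {c : G ⧸ A | emb e x • c = c} = insert ((1 : G) : G ⧸ A) {w : G ⧸ A | w ≠ ((1 : G) : G ⧸ A) ∧ x • w = w} := by
          ext w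
          constructor
          · intro hw
            by_cases hw1 : w = ((1 : G) : G ⧸ A)
            · exact Or.inl hw1
            · exact Or.inr ⟨hw1, hw⟩
          · rintro (rfl | ⟨-, hw⟩)
            · exact ho x
            · exact hw
        rw [this, Set.ncard_insert_of_notMem (fun h => h.1 rfl) (Set.toFinite _)]
      have h6 := Nat.mul_le_mul h3 h4
      rw [← h2, hj] at h6
      omega)
    omega
  · have hn : A.index = 1152 := by omega
    rw [hn] at hk hle
    omega
  · have hn : A.index = 576 := by omega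
    rw [hn] at hk hle
    omega

/-- the form of `H224.EPX.Rows.l25` -/
theorem row_25 {G : Type} [Group G] [Finite G] [IsSimpleGroup G] (hG : Nat.card G = 17971200)
    (hz3 : ∀ x : G, orderOf x = 3 → Nat.card (centralizer {x}) ≤ 108) (F : Type) [Field F] [Fintype F]
    (hF : Fintype.card F = 25) (H N : Subgroup G) (T : Type) [Group T] (e : N ≃* (Fin 1 → T))
    (h : H209.EPX.EPS H N e) (hT : Nonempty (T ≃* ProjectiveSpecialLinearGroup (Fin 2) F)) : False := by
  obtain ⟨i⟩ := hT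
  exact no_25 hF hG hz3 (H957.EPX.ept_of_eps h) ((H957.EPX.hasSoc_of_eps h).congr i)

end

end Cfsg.Agent.H545.EX.LTwo
end

-- part: H407/EPT/Cls
section
/-!
# S5745, Tits group: element orders and centralizers (helper407)

`T := TitsGroup`, `|T| = 17971200 = 2¹¹·3³·5²·13`.
* `card_tits`; `cent_three = 108`, `cent_five = 50`, `cent_thirteen = 13`; `conj_three`, `conj_five` : one class;
* `ord_three` : `3 ∣ orderOf g → orderOf g ∣ 12`, `ord_five` : `5 ∣ orderOf g → orderOf g ∣ 10`,
  `ord_thirteen` : `13 ∣ orderOf g → orderOf g = 13`, `ne_fifteen`.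
-/

set_option autoImplicit false

namespace Cfsg.Agent.H407.EPT

open Subgroup Cfsg

theorem iso_refl : Lie.IsoTits Lie.TitsGroup := ⟨MulEquiv.refl _⟩

theorem card_tits : Nat.card Lie.TitsGroup = 17971200 := H369.Ti.Facts.fs.card

instance finite_tits : Finite Lie.TitsGroup := Nat.finite_of_card_ne_zero (by rw [card_tits]; norm_num)

theorem facts : H235.TitsIdx.Facts Lie.TitsGroup := H235.TitsRow.facts iso_refl

theorem out : CpAutTits.Row.Out Lie.TitsGroup := CpAutTits.Row.out iso_refl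

theorem card_cent_congr {G : Type*} [Group G] {x y : G} (h : IsConj x y) :
    Nat.card (centralizer ({x} : Set G)) = Nat.card (centralizer ({y} : Set G)) := by
  obtain ⟨g, rfl⟩ := isConj_iff.1 h
  refine Nat.card_congr ⟨fun c => ⟨g * c.1 * g⁻¹, ?_⟩, fun c => ⟨g⁻¹ * c.1 * g, ?_⟩, fun c => ?_, fun c => ?_⟩
  · have h1 := mem_centralizer_singleton_iff.1 c.2
    rw [mem_centralizer_singleton_iff]
    calc g * c.1 * g⁻¹ * (g * x * g⁻¹) = g * (c.1 * x) * g⁻¹ := by group
      _ = g * (x * c.1) * g⁻¹ := by rw [h1]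
      _ = _ := by group
  · have h1 := mem_centralizer_singleton_iff.1 c.2
    rw [mem_centralizer_singleton_iff]
    calc g⁻¹ * c.1 * g * x = g⁻¹ * (c.1 * (g * x * g⁻¹)) * g := by group
      _ = g⁻¹ * ((g * x * g⁻¹) * c.1) * g := by rw [h1]
      _ = _ := by group
  · apply Subtype.ext
    show g⁻¹ * (g * c.1 * g⁻¹) * g = c.1
    group
  · apply Subtype.ext
    show g * (g⁻¹ * c.1 * g) * g⁻¹ = c.1
    group

theorem ne_one_of_order {G : Type*} [Group G] {x : G} {n : ℕ} (h : orderOf x = n) (hn : n ≠ 1) : x ≠ 1 := by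
  rintro rfl
  exact hn (by rw [← h, orderOf_one])

theorem conj_t (D : H87.TitsAbs.Dat Lie.TitsGroup) {x : Lie.TitsGroup} (hx : orderOf x = 3) : IsConj x D.t :=
  H745.RvTits.isConj_t D out (y := x) (b := 1) (by
    have h := pow_orderOf_eq_one x
    rw [hx] at h
    exact h) (ne_one_of_order hx (by norm_num))

theorem cent_three {x : Lie.TitsGroup} (hx : orderOf x = 3) : Nat.card (centralizer ({x} : Set Lie.TitsGroup)) = 108 := by
  obtain ⟨D⟩ := facts.dat
  rw [card_cent_congr (conj_t D hx)]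
  exact H745.RvTits.card_cent_t D out

theorem cent_five {x : Lie.TitsGroup} (hx : orderOf x = 5) : Nat.card (centralizer ({x} : Set Lie.TitsGroup)) = 50 :=
  facts.cent x hx

theorem ord_three {g : Lie.TitsGroup} (h : 3 ∣ orderOf g) : orderOf g ∣ 12 := H369.Ti.Facts.fs.three g h

theorem ne_fifteen (g : Lie.TitsGroup) : orderOf g ≠ 15 := by
  intro h
  have h1 := ord_three (g := g) (by rw [h]; norm_num)
  rw [h] at h1
  norm_num at h1

/-- subgroups of order 13 are self-centralising -/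
theorem cent_thirteen {x : Lie.TitsGroup} (hx : orderOf x = 13) :
    Nat.card (centralizer ({x} : Set Lie.TitsGroup)) = 13 := by
  obtain ⟨D⟩ := facts.dat
  have h13 := H369.Ti.Facts.card_x D
  have hx' : orderOf D.x = 13 := by
    have : Fact (Nat.Prime 13) := ⟨by norm_num⟩
    exact orderOf_eq_prime D.x13 D.x1
  have hZ : Nat.card (zpowers D.x) = 13 := by rw [Nat.card_zpowers, hx']
  have hidx : ¬ 13 ∣ (zpowers D.x).index := by
    intro hd
    have h2 := (zpowers D.x).card_mul_index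
    rw [hZ, card_tits] at h2
    obtain ⟨c, hc⟩ := hd
    omega
  obtain ⟨c, hcm⟩ := Cfsg.Agent.H20.FrobTits.exists_conj_mem (a := 1) (by norm_num : Nat.Prime 13)
    (R := zpowers D.x) (by rw [hZ]; norm_num) hidx (y := x) (b := 1) (by
      have h3 := pow_orderOf_eq_one x
      rw [hx] at h3
      exact h3)
  have hco : orderOf (c * x * c⁻¹) = 13 := by
    have h4 : c * x * c⁻¹ = MulAut.conj c x := rfl
    rw [h4, MulEquiv.orderOf_eq, hx]
  have h2 : zpowers (c * x * c⁻¹) = zpowers D.x := by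
    apply eq_of_le_of_card_ge
    · rw [zpowers_le]; exact hcm
    · rw [Nat.card_zpowers, Nat.card_zpowers, hx', hco]
  have h3 : (centralizer ({c * x * c⁻¹} : Set Lie.TitsGroup)) = centralizer ({D.x} : Set Lie.TitsGroup) := by
    have h5 : ∀ a : Lie.TitsGroup, centralizer ({a} : Set Lie.TitsGroup) = centralizer (zpowers a : Set Lie.TitsGroup) := by
      intro a
      rw [zpowers_eq_closure, centralizer_closure]
    rw [h5, h5 D.x, h2]
  rw [card_cent_congr (isConj_iff.2 ⟨c, rfl⟩ : IsConj x (c * x * c⁻¹)), h3, h13]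

end Cfsg.Agent.H407.EPT
end

-- part: H545/EX/TitsL25Row
section
/-!
# S5745, the Tits group: the row `T = L₂(25)` for `Lie.TitsGroup` (helper545)
-/

set_option autoImplicit false

namespace Cfsg.Agent.H545.EX.LTwo

open Subgroup

theorem tits_25 [IsSimpleGroup Lie.TitsGroup] (F : Type) [Field F] [Fintype F] (hF : Fintype.card F = 25)
    (H N : Subgroup Lie.TitsGroup) (T : Type) [Group T] (e : N ≃* (Fin 1 → T)) (h : H209.EPX.EPS H N e)
    (hT : Nonempty (T ≃* Matrix.ProjectiveSpecialLinearGroup (Fin 2) F)) : False :=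
  row_25 H407.EPT.card_tits (fun _ hx => (H407.EPT.cent_three hx).le) F hF H N T e h hT

end Cfsg.Agent.H545.EX.LTwo
end

private theorem dce_a1fbddec7ea9 : _root_.True := by
  try have : _root_.True := by simp only [_root_.Cfsg.Agent.H545.EX.LTwo.e3.eq_1]
  try have : _root_.True := by simp only [_root_.Cfsg.Agent.H545.EX.LTwo.U₀.eq_1]
  exact _root_.True.intro
end

-- part: H523/EPX/TitsK_mg
section
prune_inst 0x4d42007000d0002000000800240003822aa0000000003080040020a0406802c2309022660b000010200028004003d004812000030c00000000000040001190581008052060240a104060008000880000000000000000000000000000000000000200000000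
set_option linter.all false
open scoped Cfsg.Agent.FastGrp

-- part: H523/EPX/FiveRep
section
/-!
# Modules for `T × T` where `T` has a subgroup of order 25 whose nontrivial elements are conjugate (S5745, helper523)

* `exists_basis` : a basis of common eigenvectors for a commutative subgroup of exponent `N ≠ 0` in `k`;
* `finrank_inf` : dimensions of common eigenspaces;
* `five_pair` : the multiplicity `e₁` of a nontrivial eigenvalue of `(x, 1)`, `x ∈ P`, `x ≠ 1`, is independent of `x` and of the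
  eigenvalue, `5 ∣ e₁`, and `24 (e₁ + e₂) ≤ 5 dim V` if `dim V < 576`.
-/

set_option autoImplicit false

namespace Cfsg.Agent.H523.EPX.TK

open Module Cfsg.Agent.H912.Bd

section Basis

variable {K : Type*} [Field K] {V : Type*} [AddCommGroup V] [Module K V] [FiniteDimensional K V] {L : Type*} [Group L]

theorem exists_basis [IsAlgClosed K] (ρ : L →* Module.End K V) {A : Subgroup L}
    (hA : ∀ a ∈ A, ∀ b ∈ A, a * b = b * a) {N : ℕ} (hN : (N : K) ≠ 0) (hAN : ∀ a ∈ A, a ^ N = 1) :
    ∃ (n : ℕ) (b : Basis (Fin n) K V) (χ : Fin n → A → K), ∀ i, ∀ a : A, ρ a (b i) = χ i a • b i := by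
  classical
  have h1 : DirectSum.IsInternal (wt ρ A) :=
    DirectSum.isInternal_submodule_of_iSupIndep_of_iSup_eq_top (indep_wt ρ hA hN hAN) (iSup_wt ρ hA hN hAN)
  let b0 := h1.collectedBasis fun χ => Module.finBasis K (wt ρ A χ)
  have hfin : Finite ((χ : A → K) × Fin (finrank K (wt ρ A χ))) := Module.Finite.finite_basis b0
  have := Fintype.ofFinite ((χ : A → K) × Fin (finrank K (wt ρ A χ)))
  let eq := Fintype.equivFin ((χ : A → K) × Fin (finrank K (wt ρ A χ)))
  refine ⟨_, b0.reindex eq, fun i => (eq.symm i).1, fun i a => ?_⟩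
  rw [Basis.reindex_apply]
  exact mem_wt.1 (h1.collectedBasis_mem (fun χ => Module.finBasis K (wt ρ A χ)) (eq.symm i)) a

omit [FiniteDimensional K V] in
/-- dimension of a common eigenspace -/
theorem finrank_inf [DecidableEq K] {n : ℕ} (b : Basis (Fin n) K V) {f g : Module.End K V} {c d : Fin n → K}
    (hf : ∀ i, f (b i) = c i • b i) (hg : ∀ i, g (b i) = d i • b i) (μ ν : K) :
    finrank K ↥(f.eigenspace μ ⊓ g.eigenspace ν) = (Finset.univ.filter fun i => c i = μ ∧ d i = ν).card := by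
  have hrep : ∀ (f : Module.End K V) (c : Fin n → K), (∀ i, f (b i) = c i • b i) → ∀ (v : V) (i : Fin n),
      b.repr (f v) i = c i * b.repr v i := by
    intro f c hf v i
    conv_lhs => rw [← b.sum_repr v]
    rw [map_sum, map_sum, Finsupp.finsetSum_apply, Finset.sum_eq_single i]
    · rw [map_smul, hf, smul_comm, map_smul, map_smul, Basis.repr_self]
      simp
    · intro j _ hj
      rw [map_smul, hf, smul_comm, map_smul, map_smul, Basis.repr_self]
      simp [Finsupp.single_eq_of_ne hj.symm]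
    · intro h
      exact absurd (Finset.mem_univ i) h
  have key : f.eigenspace μ ⊓ g.eigenspace ν = Submodule.span K (Set.range fun i : {i : Fin n // c i = μ ∧ d i = ν} =>
      b i.1) := by
    apply le_antisymm
    · rintro v ⟨h1, h2⟩
      rw [SetLike.mem_coe, Module.End.mem_eigenspace_iff] at h1 h2
      rw [← b.sum_repr v]
      refine Submodule.sum_mem _ fun i _ => ?_
      by_cases hi : b.repr v i = 0
      · rw [hi, zero_smul]
        exact Submodule.zero_mem _
      · refine Submodule.smul_mem _ _ (Submodule.subset_span ⟨⟨i, ?_, ?_⟩, rfl⟩)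
        · have h3 := hrep f c hf v i
          rw [h1, map_smul, Finsupp.smul_apply, smul_eq_mul] at h3
          exact (mul_right_cancel₀ hi h3).symm
        · have h3 := hrep g d hg v i
          rw [h2, map_smul, Finsupp.smul_apply, smul_eq_mul] at h3
          exact (mul_right_cancel₀ hi h3).symm
    · rw [Submodule.span_le]
      rintro _ ⟨⟨i, h1, h2⟩, rfl⟩
      refine ⟨?_, ?_⟩
      · rw [SetLike.mem_coe, Module.End.mem_eigenspace_iff]
        subst h1
        exact hf i
      · rw [SetLike.mem_coe, Module.End.mem_eigenspace_iff]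
        subst h2
        exact hg i
  have h3 := finrank_span_eq_card (b.linearIndependent.comp (fun i : {i : Fin n // c i = μ ∧ d i = ν} => i.1)
    Subtype.val_injective)
  rw [Fintype.card_subtype] at h3
  rw [key]
  exact h3

end Basis

/-! ### conjugation -/

section Conj

variable {K : Type*} [Field K] {V : Type*} [AddCommGroup V] [Module K V] [FiniteDimensional K V] {L : Type*} [Group L]
  (ρ : L →* Module.End K V)

/-- dimensions of common eigenspaces of conjugate pairs -/
theorem finrank_conj {x y g : L} (μ ν : K) :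
    finrank K ↥((ρ x).eigenspace μ ⊓ (ρ y).eigenspace ν) ≤
      finrank K ↥((ρ (g * x * g⁻¹)).eigenspace μ ⊓ (ρ (g * y * g⁻¹)).eigenspace ν) := by
  rw [(Submodule.equivMapOfInjective (ρ g) (rho_injective ρ g) _).finrank_eq]
  apply Submodule.finrank_mono
  rintro _ ⟨v, ⟨h1, h2⟩, rfl⟩
  have key : ∀ (x : L) (μ : K), v ∈ (ρ x).eigenspace μ → ρ g v ∈ (ρ (g * x * g⁻¹)).eigenspace μ := by
    intro x μ h
    rw [Module.End.mem_eigenspace_iff] at h ⊢
    have e : ρ (g * x * g⁻¹) (ρ g v) = ρ g (ρ x v) := by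
      rw [← Module.End.mul_apply, ← Module.End.mul_apply, ← map_mul, ← map_mul, inv_mul_cancel_right]
    rw [e, h, map_smul]
  exact ⟨key x μ h1, key y ν h2⟩

end Conj

/-! ### counting -/

section Count

variable {K : Type*} [Field K] {P : Type*} [Group P] [Fintype P] [DecidableEq K]

/-- a nontrivial homomorphism from a group of order 25 and exponent 5 to a field has a kernel of order 5 -/
theorem card_ker (hP : Fintype.card P = 25) (hexp : ∀ a : P, a ^ 5 = 1) (c : P →* K) {a₀ : P} (ha : c a₀ ≠ 1) :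
    (Finset.univ.filter fun a => c a ≠ 1).card = 20 := by
  classical
  let c' : P →* Kˣ := c.toHomUnits
  have hc' : ∀ a, ((c' a : Kˣ) : K) = c a := fun a => rfl
  have h1 : ∀ a, c' a ∈ rootsOfUnity 5 K := by
    intro a
    rw [mem_rootsOfUnity, ← map_pow, hexp, map_one]
  have hker : Nat.card c'.ker * Nat.card c'.range = 25 := by
    rw [← Nat.card_eq_fintype_card] at hP
    rw [← hP, ← c'.ker.card_mul_index]
    congr 1
    exact (Subgroup.index_ker c').symm
  have hle : Nat.card c'.range ≤ 5 := by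
    have h2 : c'.range ≤ rootsOfUnity 5 K := by
      rintro _ ⟨a, rfl⟩
      exact h1 a
    exact (Nat.card_le_card_of_injective _ (Subgroup.inclusion_injective h2)).trans (card_rootsOfUnity K 5)
  have hne : Nat.card c'.range ≠ 1 := by
    intro h
    rw [Subgroup.card_eq_one] at h
    have h3 : c' a₀ ∈ c'.range := ⟨a₀, rfl⟩
    rw [h, Subgroup.mem_bot] at h3
    apply ha
    rw [← hc', h3, Units.val_one]
  have hdvd : Nat.card c'.range ∣ 5 ^ 2 := ⟨Nat.card c'.ker, by rw [mul_comm] at hker; rw [hker]; norm_num⟩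
  obtain ⟨j, hj, h4⟩ := (Nat.dvd_prime_pow (by norm_num)).1 hdvd
  have h5 : Nat.card c'.range = 5 := by
    interval_cases j
    · exact absurd h4 hne
    · exact h4
    · rw [h4] at hle
      norm_num at hle
  rw [h5] at hker
  have h6 : (Finset.univ.filter fun a => c a = 1).card = Nat.card c'.ker := by
    rw [← Fintype.card_subtype, ← Nat.card_eq_fintype_card]
    refine Nat.card_congr (Equiv.subtypeEquivRight fun a => ?_)
    rw [MonoidHom.mem_ker, Units.ext_iff, Units.val_one, hc']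
  have h7 := Finset.card_filter_add_card_filter_not (s := (Finset.univ : Finset P)) (fun a => c a = 1)
  rw [Finset.card_univ, hP] at h7
  have h8 : (Finset.univ.filter fun a => c a ≠ 1).card = (Finset.univ.filter fun a => ¬ c a = 1).card := rfl
  omega

variable (hexp : ∀ a : P, a ^ 5 = 1) {ζ : K} (hζ : IsPrimitiveRoot ζ 5)

omit [Fintype P] [DecidableEq K] in
include hexp in
theorem pow_mul_inv {j j' : ℕ} (hj : j' * j % 5 = 1) (a : P) : (a ^ j') ^ j = a := by
  rw [← pow_mul, ← Nat.div_add_mod (j' * j) 5, hj, pow_add, pow_mul, hexp, one_pow, one_mul, pow_one]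

omit [Fintype P] [DecidableEq K] in
include hexp hζ in
theorem eq_pow_iff {j j' : ℕ} (hj : j' * j % 5 = 1) (c : P →* K) (a : P) : c a = ζ ^ j ↔ c (a ^ j') = ζ := by
  have h5 : ζ ^ 5 = 1 := hζ.pow_eq_one
  constructor
  · intro h
    rw [map_pow, h, ← pow_mul, mul_comm j j', ← Nat.div_add_mod (j' * j) 5, hj, pow_add, pow_mul, h5, one_pow, one_mul,
      pow_one]
  · intro h
    have h1 := congrArg c (pow_mul_inv hexp hj a)
    rw [map_pow, h] at h1
    exact h1.symm

omit [Fintype P] in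
include hexp hζ in
/-- splitting according to the value -/
theorem card_split {n : ℕ} (c : Fin n → P →* K) (a : P) (p : Fin n → Prop) [DecidablePred p] :
    (Finset.univ.filter fun i => c i a ≠ 1 ∧ p i).card =
      ∑ j ∈ Finset.range 4, (Finset.univ.filter fun i => c i a = ζ ^ (j + 1) ∧ p i).card := by
  classical
  rw [← Finset.card_biUnion]
  · congr 1
    ext i
    simp only [Finset.mem_filter, Finset.mem_univ, true_and, Finset.mem_biUnion, Finset.mem_range]
    constructor
    · rintro ⟨h1, h2⟩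
      have h3 : c i a ^ 5 = 1 := by rw [← map_pow, hexp, map_one]
      obtain ⟨m, hm, h4⟩ := hζ.eq_pow_of_pow_eq_one h3
      have hm0 : m ≠ 0 := by
        rintro rfl
        exact h1 (by rw [← h4, pow_zero])
      exact ⟨m - 1, by omega, by rw [Nat.sub_add_cancel (by omega), h4], h2⟩
    · rintro ⟨j, hj, h1, h2⟩
      refine ⟨?_, h2⟩
      rw [h1]
      exact hζ.pow_ne_one_of_pos_of_lt (by omega) (by omega)
  · intro j hj l hl hjl
    rw [Function.onFun, Finset.disjoint_left]
    intro i h1 h2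
    rw [Finset.mem_filter] at h1 h2
    have h3 := h1.2.1.symm.trans h2.2.1
    have hj' := Finset.mem_range.1 (Finset.mem_coe.1 hj)
    have hl' := Finset.mem_range.1 (Finset.mem_coe.1 hl)
    have h4 := hζ.pow_inj (by omega) (by omega) h3
    omega

omit [Fintype P] [DecidableEq K] in
include hexp in
theorem exists_inv {j : ℕ} (hj : j < 4) : ∃ j', j' * (j + 1) % 5 = 1 ∧ ∀ a : P, a ≠ 1 → a ^ j' ≠ 1 := by
  obtain ⟨j', h⟩ : ∃ j', j' * (j + 1) % 5 = 1 := by
    interval_cases j
    · exact ⟨1, rfl⟩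
    · exact ⟨3, rfl⟩
    · exact ⟨2, rfl⟩
    · exact ⟨4, rfl⟩
  refine ⟨j', h, fun a ha h1 => ha ?_⟩
  have h2 := pow_mul_inv hexp h a
  rw [← h2, h1, one_pow]

include hexp hζ in
/-- **One factor.** -/
theorem count_one (hP : Fintype.card P = 25) {n : ℕ} (c : Fin n → P →* K) (p : Fin n → Prop) [DecidablePred p]
    (hE : ∀ a : P, a ≠ 1 → ∀ a' : P, a' ≠ 1 → (Finset.univ.filter fun i => c i a = ζ ∧ p i).card =
      (Finset.univ.filter fun i => c i a' = ζ ∧ p i).card) :
    ∃ e : ℕ, (∀ a : P, a ≠ 1 → ∀ j < 4, (Finset.univ.filter fun i => c i a = ζ ^ (j + 1) ∧ p i).card = e) ∧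
      5 * (Finset.univ.filter fun i => (∃ a, c i a ≠ 1) ∧ p i).card = 24 * e := by
  classical
  have hnt : Nontrivial P := by
    rw [← Fintype.one_lt_card_iff_nontrivial, hP]; norm_num
  obtain ⟨a₀, ha₀⟩ := exists_ne (1 : P)
  set e := (Finset.univ.filter fun i => c i a₀ = ζ ∧ p i).card with he
  have hu : ∀ a : P, a ≠ 1 → ∀ j < 4, (Finset.univ.filter fun i => c i a = ζ ^ (j + 1) ∧ p i).card = e := by
    intro a ha j hj
    obtain ⟨j', h1, h2⟩ := exists_inv hexp hj
    have h3 : (Finset.univ.filter fun i => c i a = ζ ^ (j + 1) ∧ p i) =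
        Finset.univ.filter fun i => c i (a ^ j') = ζ ∧ p i := by
      apply Finset.filter_congr
      intro i _
      rw [eq_pow_iff hexp hζ h1]
    rw [h3, he]
    exact hE _ (h2 a ha) _ ha₀
  refine ⟨e, hu, ?_⟩
  have h1 : ∀ a : P, a ≠ 1 → (Finset.univ.filter fun i => c i a ≠ 1 ∧ p i).card = 4 * e := by
    intro a ha
    rw [card_split hexp hζ c a p, Finset.sum_congr rfl fun j hj => hu a ha j (Finset.mem_range.1 hj)]
    simp
  have h2 : ∑ a : P, (Finset.univ.filter fun i => c i a ≠ 1 ∧ p i).card = 24 * (4 * e) := by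
    rw [← Finset.add_sum_erase _ _ (Finset.mem_univ (1 : P)), Finset.sum_congr rfl fun a ha =>
      h1 a (Finset.ne_of_mem_erase ha), Finset.sum_const, Finset.card_erase_of_mem (Finset.mem_univ _),
      Finset.card_univ, hP]
    simp
  have h3 : ∑ a : P, (Finset.univ.filter fun i => c i a ≠ 1 ∧ p i).card =
      ∑ i : Fin n, (Finset.univ.filter fun a : P => c i a ≠ 1 ∧ p i).card := by
    simp only [Finset.card_filter]
    exact Finset.sum_comm
  have h4 : ∀ i : Fin n, (Finset.univ.filter fun a : P => c i a ≠ 1 ∧ p i).card =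
      if (∃ a, c i a ≠ 1) ∧ p i then 20 else 0 := by
    intro i
    split_ifs with h
    · obtain ⟨⟨a, ha⟩, hp⟩ := h
      rw [← card_ker hP hexp (c i) ha]
      congr 1
      apply Finset.filter_congr
      intro b _
      simp [hp]
    · rw [Finset.card_eq_zero, Finset.filter_eq_empty_iff]
      intro a _ h'
      exact h ⟨⟨a, h'.1⟩, h'.2⟩
  rw [Finset.sum_congr rfl fun i _ => h4 i, ← Finset.sum_filter, Finset.sum_const, smul_eq_mul] at h3
  omega

include hexp hζ in
/-- **Two factors.** -/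
theorem count_two (hP : Fintype.card P = 25) {n : ℕ} (c d : Fin n → P →* K)
    (hF : ∀ a : P, a ≠ 1 → ∀ a' : P, a' ≠ 1 → ∀ b : P, b ≠ 1 → ∀ b' : P, b' ≠ 1 →
      (Finset.univ.filter fun i => c i a = ζ ∧ d i b = ζ).card = (Finset.univ.filter fun i => c i a' = ζ ∧ d i b' = ζ).card)
    (hn : n < 576) (i : Fin n) : (∀ a, c i a = 1) ∨ ∀ b, d i b = 1 := by
  classical
  have hnt : Nontrivial P := by
    rw [← Fintype.one_lt_card_iff_nontrivial, hP]; norm_num
  obtain ⟨a₀, ha₀⟩ := exists_ne (1 : P)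
  set f := (Finset.univ.filter fun i => c i a₀ = ζ ∧ d i a₀ = ζ).card with hf
  have h1 : ∀ b : P, b ≠ 1 → 5 * (Finset.univ.filter fun i => d i b = ζ ∧ ∃ a, c i a ≠ 1).card = 24 * f := by
    intro b hb
    obtain ⟨e, h2, h3⟩ := count_one hexp hζ hP c (fun i => d i b = ζ) fun a ha a' ha' => hF a ha a' ha' b hb b hb
    have h4 := h2 a₀ ha₀ 0 (by norm_num)
    rw [zero_add, pow_one] at h4
    have h5 := hF a₀ ha₀ a₀ ha₀ b hb a₀ ha₀
    rw [h4, ← hf] at h5
    rw [← h5, ← h3]
    congr 2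
    ext i
    simp only [Finset.mem_filter, Finset.mem_univ, true_and]
    exact and_comm
  obtain ⟨e, h2, h3⟩ := count_one hexp hζ hP d (fun i => ∃ a, c i a ≠ 1) fun a ha a' ha' => by
    have h4 := h1 a ha
    have h5 := h1 a' ha'
    omega
  have h4 := h2 a₀ ha₀ 0 (by norm_num)
  rw [zero_add, pow_one] at h4
  have h5 := h1 a₀ ha₀
  rw [h4] at h5
  have h6 : (Finset.univ.filter fun i => (∃ a, d i a ≠ 1) ∧ ∃ a, c i a ≠ 1).card ≤ n := by
    refine (Finset.card_filter_le _ _).trans ?_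
    rw [Finset.card_univ, Fintype.card_fin]
  have h7 : (Finset.univ.filter fun i => (∃ a, d i a ≠ 1) ∧ ∃ a, c i a ≠ 1).card = 0 := by omega
  rw [Finset.card_eq_zero, Finset.filter_eq_empty_iff] at h7
  by_contra hcon
  push Not at hcon
  exact h7 (Finset.mem_univ i) ⟨hcon.2, hcon.1⟩

end Count

section Main

variable {K : Type*} [Field K] {V : Type*} [AddCommGroup V] [Module K V] [FiniteDimensional K V]

theorem exp_of_fus {T : Type*} [Group T] {P : Subgroup T} (hP : Nat.card P = 25)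
    (hfus : ∀ x ∈ P, x ≠ 1 → ∀ y ∈ P, y ≠ 1 → ∃ s : T, s * x * s⁻¹ = y) : ∀ a : P, a ^ 5 = 1 := by
  have hf : Fact (Nat.Prime 5) := ⟨by norm_num⟩
  have hfin : Finite P := Nat.finite_of_card_ne_zero (by rw [hP]; norm_num)
  obtain ⟨x, hx⟩ := exists_prime_orderOf_dvd_card' (G := P) 5 (by rw [hP]; norm_num)
  have hx1 : (x : T) ≠ 1 := by
    intro h
    have h1 : x = 1 := Subtype.ext h
    rw [h1, orderOf_one] at hx
    norm_num at hx
  intro a
  by_cases ha : a = 1
  · rw [ha, one_pow]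
  · obtain ⟨s, hs⟩ := hfus x x.2 hx1 a a.2 fun h => ha (Subtype.ext h)
    apply Subtype.ext
    rw [Subgroup.coe_pow, ← hs, conj_pow, Subgroup.coe_one]
    have h1 : (x : T) ^ 5 = 1 := by
      rw [← Subgroup.coe_pow, ← hx, pow_orderOf_eq_one, Subgroup.coe_one]
    rw [h1, mul_one, mul_inv_cancel]

theorem comm_of_card {P : Type*} [Group P] (hP : Nat.card P = 25) (a b : P) : a * b = b * a := by
  have hf : Fact (Nat.Prime 5) := ⟨by norm_num⟩
  exact (IsPGroup.isMulCommutative_of_card_eq_prime_sq (p := 5) (by rw [hP]; norm_num)).is_comm.comm a b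

/-- **The dimensions.** -/
theorem five_pair [IsAlgClosed K] (h5 : ((5 : ℕ) : K) ≠ 0) {T : Type*} [Group T] {P : Subgroup T} (hP : Nat.card P = 25)
    (hfus : ∀ x ∈ P, x ≠ 1 → ∀ y ∈ P, y ≠ 1 → ∃ s : T, s * x * s⁻¹ = y) (ρ : T × T →* Module.End K V)
    (hV : finrank K V < 576) : ∃ e₁ e₂ : ℕ, 5 ∣ e₁ ∧ 5 ∣ e₂ ∧ 24 * (e₁ + e₂) ≤ 5 * finrank K V ∧
      (∀ x ∈ P, x ≠ 1 → ∀ μ : K, μ ^ 5 = 1 → μ ≠ 1 → finrank K ((ρ (x, 1)).eigenspace μ) = e₁) ∧
      ∀ x ∈ P, x ≠ 1 → ∀ μ : K, μ ^ 5 = 1 → μ ≠ 1 → finrank K ((ρ (1, x)).eigenspace μ) = e₂ := by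
  classical
  have hexp := exp_of_fus hP hfus
  have hfin : Finite P := Nat.finite_of_card_ne_zero (by rw [hP]; norm_num)
  have := Fintype.ofFinite P
  have hP' : Fintype.card P = 25 := by rw [← Nat.card_eq_fintype_card, hP]
  have hne : NeZero ((5 : ℕ) : K) := ⟨h5⟩
  obtain ⟨ζ, hζ⟩ := HasEnoughRootsOfUnity.exists_primitiveRoot K 5
  have hcomm : ∀ a ∈ P.prod P, ∀ b ∈ P.prod P, a * b = b * a := by
    rintro ⟨a, a'⟩ ⟨ha, ha'⟩ ⟨b, b'⟩ ⟨hb, hb'⟩
    refine Prod.ext ?_ ?_
    · exact congrArg Subtype.val (comm_of_card hP ⟨a, ha⟩ ⟨b, hb⟩)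
    · exact congrArg Subtype.val (comm_of_card hP ⟨a', ha'⟩ ⟨b', hb'⟩)
  have hexp' : ∀ a ∈ P.prod P, a ^ 5 = 1 := by
    rintro ⟨a, a'⟩ ⟨ha, ha'⟩
    refine Prod.ext ?_ ?_
    · exact congrArg Subtype.val (hexp ⟨a, ha⟩)
    · exact congrArg Subtype.val (hexp ⟨a', ha'⟩)
  obtain ⟨n, b, χ, hχ⟩ := exists_basis ρ hcomm h5 hexp'
  have hn : finrank K V = n := by rw [finrank_eq_card_basis b, Fintype.card_fin]
  have hmul : ∀ i x y, χ i (x * y) = χ i x * χ i y := by
    intro i x y
    have h1 := hχ i (x * y)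
    rw [Subgroup.coe_mul, map_mul, Module.End.mul_apply, hχ i y, map_smul, hχ i x, smul_smul, mul_comm (χ i y)] at h1
    have h2 : (χ i (x * y) - χ i x * χ i y) • b i = 0 := by rw [sub_smul, ← h1, sub_self]
    exact sub_eq_zero.1 ((smul_eq_zero.1 h2).resolve_right (b.ne_zero i))
  have hone : ∀ i, χ i 1 = 1 := by
    intro i
    have h1 := hχ i 1
    rw [Subgroup.coe_one, map_one, Module.End.one_apply] at h1
    have h2 : (χ i 1 - 1) • b i = 0 := by rw [sub_smul, ← h1, one_smul, sub_self]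
    exact sub_eq_zero.1 ((smul_eq_zero.1 h2).resolve_right (b.ne_zero i))
  let c : Fin n → P →* K := fun i =>
    { toFun := fun a => χ i ⟨((a : T), 1), a.2, P.one_mem⟩
      map_one' := hone i
      map_mul' := fun x y => by
        rw [← hmul]
        congr 1
        exact Subtype.ext (Prod.ext rfl (one_mul 1).symm) }
  let d : Fin n → P →* K := fun i =>
    { toFun := fun a => χ i ⟨(1, (a : T)), P.one_mem, a.2⟩
      map_one' := hone i
      map_mul' := fun x y => by
        rw [← hmul]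
        congr 1
        exact Subtype.ext (Prod.ext (one_mul 1).symm rfl) }
  have hdim : ∀ (x y : P) (μ ν : K), finrank K ↥((ρ ((x : T), 1)).eigenspace μ ⊓ (ρ (1, (y : T))).eigenspace ν) =
      (Finset.univ.filter fun i => c i x = μ ∧ d i y = ν).card := fun x y μ ν =>
    finrank_inf b (fun i => hχ i ⟨((x : T), 1), x.2, P.one_mem⟩) (fun i => hχ i ⟨(1, (y : T)), P.one_mem, y.2⟩) μ ν
  have hle : ∀ a : P, a ≠ 1 → ∀ a' : P, a' ≠ 1 → ∀ b : P, b ≠ 1 → ∀ b' : P, b' ≠ 1 → ∀ μ ν : K,
      (Finset.univ.filter fun i => c i a = μ ∧ d i b = ν).card ≤ (Finset.univ.filter fun i => c i a' = μ ∧ d i b' = ν).card := by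
    intro a ha a' ha' b hb b' hb' μ ν
    obtain ⟨s, hs⟩ := hfus a a.2 (fun h => ha (Subtype.ext h)) a' a'.2 fun h => ha' (Subtype.ext h)
    obtain ⟨t, ht⟩ := hfus b b.2 (fun h => hb (Subtype.ext h)) b' b'.2 fun h => hb' (Subtype.ext h)
    rw [← hdim, ← hdim]
    refine (finrank_conj ρ (g := (s, t)) μ ν).trans (le_of_eq ?_)
    have e1 : (s, t) * ((a : T), (1 : T)) * (s, t)⁻¹ = ((a' : T), 1) := Prod.ext hs (by simp)
    have e2 : (s, t) * ((1 : T), (b : T)) * (s, t)⁻¹ = ((1 : T), (b' : T)) := Prod.ext (by simp) ht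
    rw [e1, e2]
  have htwo := count_two hexp hζ hP' c d (fun a ha a' ha' b hb b' hb' =>
    le_antisymm (hle a ha a' ha' b hb b' hb' ζ ζ) (hle a' ha' a ha b' hb' b hb ζ ζ)) (by omega)
  -- the single factors
  have hd1 : ∀ (x : P) (μ : K), finrank K ((ρ ((x : T), 1)).eigenspace μ) = (Finset.univ.filter fun i => c i x = μ).card := by
    intro x μ
    have h1 := hdim x 1 μ 1
    have h2 : (ρ ((1 : T), ((1 : P) : T))).eigenspace 1 = ⊤ := by
      rw [eq_top_iff]
      intro v _
      rw [Module.End.mem_eigenspace_iff, one_smul]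
      have e : ((1 : T), ((1 : P) : T)) = 1 := rfl
      rw [e, map_one, Module.End.one_apply]
    rw [h2, inf_top_eq] at h1
    rw [h1]
    congr 1
    apply Finset.filter_congr
    intro i _
    rw [map_one]
    exact ⟨fun h => h.1, fun h => ⟨h, rfl⟩⟩
  have hd2 : ∀ (x : P) (μ : K), finrank K ((ρ (1, (x : T))).eigenspace μ) = (Finset.univ.filter fun i => d i x = μ).card := by
    intro x μ
    have h1 := hdim 1 x 1 μ
    have h2 : (ρ (((1 : P) : T), (1 : T))).eigenspace 1 = ⊤ := by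
      rw [eq_top_iff]
      intro v _
      rw [Module.End.mem_eigenspace_iff, one_smul]
      have e : (((1 : P) : T), (1 : T)) = 1 := rfl
      rw [e, map_one, Module.End.one_apply]
    rw [h2, top_inf_eq] at h1
    rw [h1]
    congr 1
    apply Finset.filter_congr
    intro i _
    rw [map_one]
    exact ⟨fun h => h.2, fun h => ⟨rfl, h⟩⟩
  have hc1 : ∀ a : P, a ≠ 1 → ∀ a' : P, a' ≠ 1 → ∀ μ : K,
      (Finset.univ.filter fun i => c i a = μ).card ≤ (Finset.univ.filter fun i => c i a' = μ).card := by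
    intro a ha a' ha' μ
    obtain ⟨s, hs⟩ := hfus a a.2 (fun h => ha (Subtype.ext h)) a' a'.2 fun h => ha' (Subtype.ext h)
    have h1 := finrank_conj ρ (x := ((a : T), 1)) (y := ((a : T), 1)) (g := (s, 1)) μ μ
    have e1 : (s, (1 : T)) * ((a : T), (1 : T)) * (s, (1 : T))⁻¹ = ((a' : T), 1) := Prod.ext hs (by simp)
    rwa [e1, inf_idem, inf_idem, hd1, hd1] at h1
  have hc2 : ∀ a : P, a ≠ 1 → ∀ a' : P, a' ≠ 1 → ∀ μ : K,
      (Finset.univ.filter fun i => d i a = μ).card ≤ (Finset.univ.filter fun i => d i a' = μ).card := by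
    intro a ha a' ha' μ
    obtain ⟨s, hs⟩ := hfus a a.2 (fun h => ha (Subtype.ext h)) a' a'.2 fun h => ha' (Subtype.ext h)
    have h1 := finrank_conj ρ (x := ((1 : T), (a : T))) (y := ((1 : T), (a : T))) (g := (1, s)) μ μ
    have e1 : ((1 : T), s) * ((1 : T), (a : T)) * ((1 : T), s)⁻¹ = ((1 : T), (a' : T)) := Prod.ext (by simp) hs
    rwa [e1, inf_idem, inf_idem, hd2, hd2] at h1
  obtain ⟨e₁, h1, h1'⟩ := count_one hexp hζ hP' c (fun _ => True) fun a ha a' ha' => by
    simp only [and_true]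
    exact le_antisymm (hc1 a ha a' ha' ζ) (hc1 a' ha' a ha ζ)
  obtain ⟨e₂, h2, h2'⟩ := count_one hexp hζ hP' d (fun _ => True) fun a ha a' ha' => by
    simp only [and_true]
    exact le_antisymm (hc2 a ha a' ha' ζ) (hc2 a' ha' a ha ζ)
  simp only [and_true] at h1 h1' h2 h2'
  have hval : ∀ μ : K, μ ^ 5 = 1 → μ ≠ 1 → ∃ j < 4, ζ ^ (j + 1) = μ := by
    intro μ hμ hμ1
    obtain ⟨m, hm, h4⟩ := hζ.eq_pow_of_pow_eq_one hμ
    have hm0 : m ≠ 0 := by
      rintro rfl
      exact hμ1 (by rw [← h4, pow_zero])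
    exact ⟨m - 1, by omega, by rw [Nat.sub_add_cancel (by omega), h4]⟩
  refine ⟨e₁, e₂, by omega, by omega, ?_, ?_, ?_⟩
  · have h3 : Disjoint (Finset.univ.filter fun i => ∃ a, c i a ≠ 1) (Finset.univ.filter fun i => ∃ a, d i a ≠ 1) := by
      rw [Finset.disjoint_left]
      intro i hi hi'
      obtain ⟨a, ha⟩ := (Finset.mem_filter.1 hi).2
      obtain ⟨a', ha'⟩ := (Finset.mem_filter.1 hi').2
      rcases htwo i with h | h
      · exact ha (h a)
      · exact ha' (h a')
    have h4 := Finset.card_union_of_disjoint h3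
    have h6 := Finset.card_le_univ ((Finset.univ.filter fun i => ∃ a, c i a ≠ 1) ∪ (Finset.univ.filter fun i => ∃ a, d i a ≠ 1))
    rw [Fintype.card_fin] at h6
    omega
  · intro x hx hx1 μ hμ hμ1
    obtain ⟨j, hj, rfl⟩ := hval μ hμ hμ1
    rw [hd1 ⟨x, hx⟩]
    exact h1 _ (fun h => hx1 (congrArg Subtype.val h)) j hj
  · intro x hx hx1 μ hμ hμ1
    obtain ⟨j, hj, rfl⟩ := hval μ hμ hμ1
    rw [hd2 ⟨x, hx⟩]
    exact h2 _ (fun h => hx1 (congrArg Subtype.val h)) j hj

end Main

end Cfsg.Agent.H523.EPX.TK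
end

-- part: H523/EPX/RootPairs
section
/-!
# Counting roots with a nontrivial value on a torus element of order 5 (S5745, helper523)

For a root `s` with `χ(s) ≠ 1` and the `P` pairs of roots `(β, β + s)`: if every nontrivial value is taken by exactly `e` roots,
then `2 P + 4 ≤ 6 e`.
-/

set_option autoImplicit false

namespace Cfsg.Agent.H523.EPX.TK

open CoxeterSystem Cfsg Cfsg.Lie Cfsg.Lie.ChevalleyDatum
open Cfsg.Agent.ChevalleyStructure Cfsg.Agent.ChevalleyStructure.Elts Cfsg.Agent.ChevalleyStructure.CoxeterGeom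
  Cfsg.Agent.ChevalleyStructure.CoxeterGeomTypes Cfsg.Agent.ChevalleyStructure.RootVec
open Cfsg.Agent.Tits.Roots Cfsg.Agent.Tits.Core Cfsg.Agent.Nodes Cfsg.Agent.Nodes.Reps Cfsg.Agent.Nodes.BNOf
  Cfsg.Agent.Nodes.RGDChev
open Cfsg.Agent.KFacts.RgdChevCoord Cfsg.Agent.H129.TorusChar

/-! ### lists -/

section Lists

theorem countP_le {n : ℕ} {l : List ℕ} (hl : l.Nodup) (hn : ∀ x ∈ l, x < n) (p : ℕ → Prop) [DecidablePred p] :
    l.countP (fun x => decide (p x)) ≤ ((Finset.range n).filter p).card := by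
  classical
  rw [List.countP_eq_length_filter, ← List.toFinset_card_of_nodup (hl.filter _)]
  apply Finset.card_le_card
  intro x hx
  rw [List.mem_toFinset, List.mem_filter] at hx
  rw [Finset.mem_filter, Finset.mem_range]
  exact ⟨hn x hx.1, by simpa using hx.2⟩

variable {K : Type*} [Field K] [DecidableEq K] (χ : ℕ → K)

/-- the pointwise inequality, summed -/
theorem sum_pairs {v : K} (hv : v ≠ 1) : ∀ L : List (ℕ × ℕ), (∀ p ∈ L, χ p.2 = χ p.1 * v) →
    2 * L.length ≤ (L.flatMap fun p => [p.1, p.2]).countP (fun x => decide (χ x ≠ 1)) +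
      (L.map Prod.snd).countP (fun x => decide (χ x = v)) + (L.map Prod.fst).countP (fun x => decide (χ x = v⁻¹))
  | [], _ => by simp
  | (b, c) :: L, h => by
    have ih := sum_pairs hv L fun p hp => h p (List.mem_cons_of_mem _ hp)
    have h1 : χ c = χ b * v := h (b, c) List.mem_cons_self
    have h2 : 2 ≤ ([b, c] : List ℕ).countP (fun x => decide (χ x ≠ 1)) + ([c] : List ℕ).countP (fun x => decide (χ x = v)) +
        ([b] : List ℕ).countP (fun x => decide (χ x = v⁻¹)) := by
      by_cases hb : χ b = 1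
      · have hc : χ c = v := by rw [h1, hb, one_mul]
        simp [hb, hc, hv]
      · by_cases hc : χ c = 1
        · have hb' : χ b = v⁻¹ := eq_inv_of_mul_eq_one_left (by rw [← h1, hc])
          have hb2 : v⁻¹ ≠ 1 := by rw [← hb']; exact hb
          simp [List.countP_cons, hc, hb', hb2]
        · simp only [List.countP_cons, List.countP_nil, ne_eq, hb, hc, not_false_eq_true, decide_true, if_true]
          omega
    have e1 : (((b, c) :: L).flatMap fun p => [p.1, p.2]) = [b, c] ++ L.flatMap fun p => [p.1, p.2] := rfl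
    have e2 : (((b, c) :: L).map Prod.snd) = [c] ++ L.map Prod.snd := rfl
    have e3 : (((b, c) :: L).map Prod.fst) = [b] ++ L.map Prod.fst := rfl
    rw [e1, e2, e3, List.countP_append, List.countP_append, List.countP_append, List.length_cons]
    omega

/-- **The count.** -/
theorem count_pairs {n s t : ℕ} {L : List (ℕ × ℕ)} (h1 : (s :: t :: L.flatMap fun p => [p.1, p.2]).Nodup)
    (h2 : (s :: L.map Prod.snd).Nodup) (h3 : (t :: L.map Prod.fst).Nodup)
    (h4 : ∀ x ∈ s :: t :: L.flatMap fun p => [p.1, p.2], x < n) (hs : χ s ≠ 1) (ht : χ t = (χ s)⁻¹)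
    (hL : ∀ p ∈ L, χ p.2 = χ p.1 * χ s) {e : ℕ} (he : ((Finset.range n).filter fun x => χ x ≠ 1).card = 4 * e)
    (he1 : ((Finset.range n).filter fun x => χ x = χ s).card = e)
    (he2 : ((Finset.range n).filter fun x => χ x = (χ s)⁻¹).card = e) : 2 * L.length + 4 ≤ 6 * e := by
  have hsn : s < n := h4 s List.mem_cons_self
  have htn : t < n := h4 t (List.mem_cons_of_mem _ List.mem_cons_self)
  have hfl : ∀ x ∈ L.flatMap fun p => [p.1, p.2], x < n := fun x hx =>
    h4 x (List.mem_cons_of_mem _ (List.mem_cons_of_mem _ hx))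
  have a1 := countP_le h1 h4 (fun x => χ x ≠ 1)
  have a2 := countP_le (n := n) h2 (by
    intro x hx
    rcases List.mem_cons.1 hx with rfl | hx
    · exact hsn
    · obtain ⟨p, hp, rfl⟩ := List.mem_map.1 hx
      exact hfl _ (List.mem_flatMap.2 ⟨p, hp, by simp⟩)) (fun x => χ x = χ s)
  have a3 := countP_le (n := n) h3 (by
    intro x hx
    rcases List.mem_cons.1 hx with rfl | hx
    · exact htn
    · obtain ⟨p, hp, rfl⟩ := List.mem_map.1 hx
      exact hfl _ (List.mem_flatMap.2 ⟨p, hp, by simp⟩)) (fun x => χ x = (χ s)⁻¹)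
  have ht1 : χ t ≠ 1 := by
    rw [ht]
    intro h
    exact hs (inv_eq_one.1 h)
  have a4 := sum_pairs χ hs L hL
  rw [he, List.countP_cons, List.countP_cons, if_pos (by simpa using ht1), if_pos (by simpa using hs)] at a1
  rw [he1, List.countP_cons, if_pos (by simp)] at a2
  rw [he2, List.countP_cons, if_pos (by simpa using ht)] at a3
  omega

end Lists

/-! ### tables -/

/-- `E₆`: the simple roots: `(s, -s, pairs (β, β + s))` -/
def tabE : List (ℕ × ℕ × List (ℕ × ℕ)) :=
  [(56, 15, [(5, 16), (6, 17), (7, 18), (8, 19), (9, 20), (10, 21), (11, 26), (12, 27), (13, 28), (14, 29), (42,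
  57), (43, 58), (44, 59), (45, 60), (50, 61), (51, 62), (52, 63), (53, 64), (54, 65), (55, 66)]), (46, 25, [(0, 1),
  (8, 11), (9, 12), (10, 13), (19, 26), (20, 27), (21, 28), (22, 30), (23, 31), (24, 32), (39, 47), (40, 48), (41,
  49), (43, 50), (44, 51), (45, 52), (58, 61), (59, 62), (60, 63), (70, 71)]), (42, 29, [(2, 5), (3, 6), (4, 7),
  (14, 15), (19, 22), (20, 23), (21, 24), (26, 30), (27, 31), (28, 32), (39, 43), (40, 44), (41, 45), (47, 50), (48,
  51), (49, 52), (56, 57), (64, 67), (65, 68), (66, 69)]), (39, 32, [(1, 2), (6, 8), (7, 9), (13, 14), (17, 19),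
  (18, 20), (24, 25), (28, 29), (30, 33), (31, 34), (37, 40), (38, 41), (42, 43), (46, 47), (51, 53), (52, 54), (57,
  58), (62, 64), (63, 65), (69, 70)]), (37, 34, [(2, 3), (5, 6), (9, 10), (12, 13), (16, 17), (20, 21), (23, 24),
  (27, 28), (31, 32), (33, 35), (36, 38), (39, 40), (43, 44), (47, 48), (50, 51), (54, 55), (58, 59), (61, 62), (65,
  66), (68, 69)]), (36, 35, [(3, 4), (6, 7), (8, 9), (11, 12), (17, 18), (19, 20), (22, 23), (26, 27), (30, 31),
  (33, 34), (37, 38), (40, 41), (44, 45), (48, 49), (51, 52), (53, 54), (59, 60), (62, 63), (64, 65), (67, 68)])]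

/-- `E₇`: the simple roots: `(s, -s, pairs (β, β + s))` -/
def tabS : List (ℕ × ℕ × List (ℕ × ℕ)) :=
  [(93, 32, [(0, 1), (17, 33), (18, 34), (19, 35), (20, 36), (21, 37), (22, 38), (23, 39), (24, 40), (25, 41), (26,
  42), (27, 48), (28, 49), (29, 50), (30, 51), (31, 52), (73, 94), (74, 95), (75, 96), (76, 97), (77, 98), (83, 99),
  (84, 100), (85, 101), (86, 102), (87, 103), (88, 104), (89, 105), (90, 106), (91, 107), (92, 108), (124, 125)]),
  (78, 47, [(3, 7), (4, 8), (5, 9), (6, 10), (23, 27), (24, 28), (25, 29), (26, 30), (39, 48), (40, 49), (41, 50),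
  (42, 51), (43, 53), (44, 54), (45, 55), (46, 56), (69, 79), (70, 80), (71, 81), (72, 82), (74, 83), (75, 84), (76,
  85), (77, 86), (95, 99), (96, 100), (97, 101), (98, 102), (115, 119), (116, 120), (117, 121), (118, 122)]), (73,
  52, [(1, 2), (11, 17), (12, 18), (13, 19), (14, 20), (15, 21), (16, 22), (31, 32), (39, 43), (40, 44), (41, 45),
  (42, 46), (48, 53), (49, 54), (50, 55), (51, 56), (69, 74), (70, 75), (71, 76), (72, 77), (79, 83), (80, 84), (81,
  85), (82, 86), (93, 94), (103, 109), (104, 110), (105, 111), (106, 112), (107, 113), (108, 114), (123, 124)]),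
  (69, 56, [(2, 3), (8, 11), (9, 12), (10, 13), (20, 23), (21, 24), (22, 25), (30, 31), (36, 39), (37, 40), (38,
  41), (46, 47), (51, 52), (53, 57), (54, 58), (55, 59), (66, 70), (67, 71), (68, 72), (73, 74), (78, 79), (84, 87),
  (85, 88), (86, 89), (94, 95), (100, 103), (101, 104), (102, 105), (112, 115), (113, 116), (114, 117), (122,
  123)]), (66, 59, [(3, 4), (7, 8), (12, 14), (13, 15), (18, 20), (19, 21), (25, 26), (29, 30), (34, 36), (35, 37),
  (41, 42), (45, 46), (50, 51), (55, 56), (57, 60), (58, 61), (64, 67), (65, 68), (69, 70), (74, 75), (79, 80), (83,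
  84), (88, 90), (89, 91), (95, 96), (99, 100), (104, 106), (105, 107), (110, 112), (111, 113), (117, 118), (121,
  122)]), (64, 61, [(4, 5), (8, 9), (11, 12), (15, 16), (17, 18), (21, 22), (24, 25), (28, 29), (33, 34), (37, 38),
  (40, 41), (44, 45), (49, 50), (54, 55), (58, 59), (60, 62), (63, 65), (66, 67), (70, 71), (75, 76), (80, 81), (84,
  85), (87, 88), (91, 92), (96, 97), (100, 101), (103, 104), (107, 108), (109, 110), (113, 114), (116, 117), (120,
  121)]), (63, 62, [(5, 6), (9, 10), (12, 13), (14, 15), (18, 19), (20, 21), (23, 24), (27, 28), (34, 35), (36, 37),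
  (39, 40), (43, 44), (48, 49), (53, 54), (57, 58), (60, 61), (64, 65), (67, 68), (71, 72), (76, 77), (81, 82), (85,
  86), (88, 89), (90, 91), (97, 98), (101, 102), (104, 105), (106, 107), (110, 111), (112, 113), (115, 116), (119,
  120)])]

/-- the properties of an entry of the tables -/
def chk (D : ChevalleyDatum) (P : ℕ) (a : ℕ × ℕ × List (ℕ × ℕ)) : Bool :=
  decide (a.1 :: a.2.1 :: a.2.2.flatMap fun p => [p.1, p.2]).Nodup && decide (a.1 :: a.2.2.map Prod.snd).Nodup &&
    decide (a.2.1 :: a.2.2.map Prod.fst).Nodup &&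
    (a.1 :: a.2.1 :: a.2.2.flatMap fun p => [p.1, p.2]).all (fun x => decide (x < D.nroots)) &&
    (List.range D.rank).all (fun i => decide (rt D a.2.1 i = - rt D a.1 i)) &&
    a.2.2.all (fun p => (List.range D.rank).all fun i => decide (rt D p.2 i = rt D p.1 i + rt D a.1 i)) &&
    decide (a.2.2.length = P)

private noncomputable def _root_.Cfsg.Agent.LsF.ffa6690_0 : {f // @Cfsg.Agent.ChevalleyStructure.RootVecTab.dig = f} := ⟨_, by first | (delta Cfsg.Agent.ChevalleyStructure.RootVecTab.dig; rewrite [Cfsg.Agent.LsF.nmul_pat]; exact rfl) | exact rfl⟩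
private noncomputable def _root_.Cfsg.Agent.LsF.ffa6690_1 : {f // @Cfsg.Agent.ChevalleyStructure.RootVecTab.packTab = f} := ⟨_, by first | (delta Cfsg.Agent.ChevalleyStructure.RootVecTab.packTab; rewrite [Cfsg.Agent.LsF.instDecEq_eq, Cfsg.Agent.LsF.ite_eq]; exact rfl) | exact rfl⟩
private noncomputable def _root_.Cfsg.Agent.LsF.ffa6690_2 : {f // @Cfsg.Agent.ChevalleyStructure.RootVecTab.code = f} := ⟨_, by first | (delta Cfsg.Agent.ChevalleyStructure.RootVecTab.code; rewrite [Cfsg.Agent.LsF.ffa6690_1.2, Cfsg.Agent.LsF.nmul_pat, Cfsg.Agent.LsF.npow_pat]; exact rfl) | exact rfl⟩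
private noncomputable def _root_.Cfsg.Agent.LsF.ffa6690_3 : {f // @Cfsg.Agent.ChevalleyStructure.RootVec.rt = f} := ⟨_, by first | (delta Cfsg.Agent.ChevalleyStructure.RootVec.rt; rewrite [Cfsg.Agent.LsF.ffa6690_0.2, Cfsg.Agent.LsF.ffa6690_2.2, Cfsg.Agent.LsF.nsub_pat, Cfsg.Agent.LsF.isub_pat, Cfsg.Agent.LsF.icast_pat, Cfsg.Agent.LsF.decLt_eq, Cfsg.Agent.LsF.dAnd_eq, Cfsg.Agent.LsF.ite_eq]; exact rfl) | exact rfl⟩
private noncomputable def _root_.Cfsg.Agent.LsF.ffa6690_4 : {f // @Cfsg.Agent.H523.EPX.TK.chk = f} := ⟨_, by first | (delta Cfsg.Agent.H523.EPX.TK.chk; rewrite [Cfsg.Agent.NodupNat.dec_eq, Cfsg.Agent.LsF.ffa6690_3.2, Cfsg.Agent.LsF.iadd_pat, Cfsg.Agent.LsF.ineg_pat, Cfsg.Agent.LsF.and_eq, Cfsg.Agent.LsF.instDecEq_eq, Cfsg.Agent.LsF.decLt_eq, Cfsg.Agent.LsF.all_eq, Cfsg.Agent.LsF.map_eq, Cfsg.Agent.LsF.flatMap_eq, Cfsg.Agent.LsF.range_eq, Cfsg.Agent.LsF.instIDecEq_eq, Cfsg.Agent.LsF.length_eq, Cfsg.Agent.LsF.decide_eq]; exact rfl) | exact rfl⟩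
theorem chkE : tabE.all (chk chevE6 20) = true := by ((try (rewrite [Cfsg.Agent.LsF.ffa6690_4.2, Cfsg.Agent.LsF.all_eq])); decide +kernel)

theorem chkS : tabS.all (chk chevE7 32) = true := by ((try (rewrite [Cfsg.Agent.LsF.ffa6690_4.2, Cfsg.Agent.LsF.all_eq])); decide +kernel)

end Cfsg.Agent.H523.EPX.TK
end

-- part: H523/EPX/FiveTor
section
/-!
# `T × T` with the property of order 25 is not a subgroup of `F₄`, `E₆`, `E₇` (S5745, helper523)

`k` algebraically closed, algebraic over its prime field, of characteristic `r ≠ 5`.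
-/

set_option autoImplicit false
set_option linter.unusedSectionVars false

namespace Cfsg.Agent.H523.EPX.TK

open CoxeterSystem Cfsg Cfsg.Lie Cfsg.Lie.ChevalleyDatum Module
open Cfsg.Agent.ChevalleyStructure Cfsg.Agent.ChevalleyStructure.Elts Cfsg.Agent.ChevalleyStructure.CoxeterGeom
  Cfsg.Agent.ChevalleyStructure.CoxeterGeomTypes Cfsg.Agent.ChevalleyStructure.RootVec
open Cfsg.Agent.Tits.Roots Cfsg.Agent.Tits.Core Cfsg.Agent.Nodes Cfsg.Agent.Nodes.Reps Cfsg.Agent.Nodes.BNOf
  Cfsg.Agent.Nodes.RGDChev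
open Cfsg.Agent.KFacts.RgdChevCoord Cfsg.Agent.H129.TorusChar

universe u

theorem card_split' {K : Type*} [Field K] [DecidableEq K] {ζ : K} (hζ : IsPrimitiveRoot ζ 5) {α : Type*} [DecidableEq α]
    (s : Finset α) (c : α → K) (hc : ∀ i ∈ s, c i ^ 5 = 1) :
    (s.filter fun i => c i ≠ 1).card = ∑ j ∈ Finset.range 4, (s.filter fun i => c i = ζ ^ (j + 1)).card := by
  classical
  rw [← Finset.card_biUnion]
  · congr 1
    ext i
    simp only [Finset.mem_filter, Finset.mem_biUnion, Finset.mem_range]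
    constructor
    · rintro ⟨h2, h1⟩
      obtain ⟨m, hm, h4⟩ := hζ.eq_pow_of_pow_eq_one (hc i h2)
      have hm0 : m ≠ 0 := by
        rintro rfl
        exact h1 (by rw [← h4, pow_zero])
      exact ⟨m - 1, by omega, h2, by rw [Nat.sub_add_cancel (by omega), h4]⟩
    · rintro ⟨j, hj, h2, h1⟩
      refine ⟨h2, ?_⟩
      rw [h1]
      exact hζ.pow_ne_one_of_pos_of_lt (by omega) (by omega)
  · intro j hj l hl hjl
    rw [Function.onFun, Finset.disjoint_left]
    intro i h1 h2
    rw [Finset.mem_filter] at h1 h2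
    have h3 := h1.2.symm.trans h2.2
    have hj' := Finset.mem_range.1 (Finset.mem_coe.1 hj)
    have hl' := Finset.mem_range.1 (Finset.mem_coe.1 hl)
    have h4 := hζ.pow_inj (by omega) (by omega) h3
    omega

section Tor

variable {D : ChevalleyDatum} {l : ℕ} {M : CoxeterMatrix (Fin l)} (hp : IsType D l M) {k : Type u} [Field k] [DecidableEq k]

theorem card_fin_range (n : ℕ) (p : ℕ → Prop) [DecidablePred p] :
    ((Finset.range n).filter p).card = (Finset.univ.filter fun r : Fin n => p r).card := by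
  rw [Finset.card_filter, Finset.card_filter, Finset.sum_range]

theorem vec_eq_of {a b c : ℕ} (h : ∀ i < D.rank, rt D c i = rt D b i + rt D a i) (hl : D.rank = l) :
    vec D l c = vec D l b + vec D l a := by
  funext i
  rw [Pi.add_apply, vec_apply, vec_apply, vec_apply]
  exact h i (by rw [hl]; exact i.2)

/-- the inequality for a torus element of order 5 -/
theorem six_e {t : ↥(D.group k)} (ht : t ∈ TT D k) (ht5 : t ^ 5 = 1) {P : ℕ} {a : ℕ × ℕ × List (ℕ × ℕ)}
    (ha : chk D P a = true) (hta : cX hp t (vec D l a.1) ≠ 1) {e : ℕ}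
    (he : ∀ μ : k, μ ^ 5 = 1 → μ ≠ 1 → (Finset.univ.filter fun r : Fin D.nroots => cX hp t (vec D l r) = μ).card = e) :
    2 * P + 4 ≤ 6 * e := by
  obtain ⟨s, ns, L⟩ := a
  simp only [chk, Bool.and_eq_true, decide_eq_true_eq, List.all_eq_true, List.mem_range] at ha
  obtain ⟨⟨⟨⟨⟨⟨h1, h2⟩, h3⟩, h4⟩, h5⟩, h6⟩, h7⟩ := ha
  have hM := isMC_cX hp ht
  have hl : D.rank = l := hp.rank_eq
  set χ : ℕ → k := fun r => cX hp t (vec D l r) with hχ
  have hpow : ∀ r, χ r ^ 5 = 1 := by
    intro r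
    show cX hp t (vec D l r) ^ 5 = 1
    rw [← cX_pow hp ht, ht5, cX_one]
  have hs : χ s ≠ 1 := hta
  have hns : χ ns = (χ s)⁻¹ := by
    apply eq_inv_of_mul_eq_one_left
    show cX hp t (vec D l ns) * cX hp t (vec D l s) = 1
    rw [← hM.add]
    have e0 : vec D l ns + vec D l s = 0 := by
      funext i
      rw [Pi.add_apply, vec_apply, vec_apply, h5 i (by rw [hl]; exact i.2)]
      exact neg_add_cancel _
    rw [e0]
    exact hM.zero
  have hL : ∀ p ∈ L, χ p.2 = χ p.1 * χ s := by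
    intro p hp'
    show cX hp t (vec D l p.2) = cX hp t (vec D l p.1) * cX hp t (vec D l s)
    rw [vec_eq_of (fun i hi => h6 p hp' i hi) hl, hM.add]
  have hord : orderOf (χ s) = 5 := by
    have hf : Fact (Nat.Prime 5) := ⟨by norm_num⟩
    exact orderOf_eq_prime (hpow s) hs
  have hζ : IsPrimitiveRoot (χ s) 5 := by
    rw [← hord]
    exact IsPrimitiveRoot.orderOf _
  have hcard : ∀ μ : k, μ ^ 5 = 1 → μ ≠ 1 → ((Finset.range D.nroots).filter fun r => χ r = μ).card = e := by
    intro μ hμ hμ1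
    rw [card_fin_range]
    exact he μ hμ hμ1
  have h8 := card_split' hζ (Finset.range D.nroots) χ fun i _ => hpow i
  rw [Finset.sum_congr rfl fun j hj => hcard (χ s ^ (j + 1)) (by rw [← pow_mul, mul_comm, pow_mul, hζ.pow_eq_one, one_pow])
    (hζ.pow_ne_one_of_pos_of_lt (by omega) (by have := Finset.mem_range.1 hj; omega))] at h8
  rw [Finset.sum_const, Finset.card_range, smul_eq_mul] at h8
  have h9 := count_pairs χ h1 h2 h3 h4 hs hns hL h8 (hcard _ (hpow s) hs)
    (hcard _ (by rw [inv_pow, hpow, inv_one]) (by rw [← hns]; intro h; rw [hns, inv_eq_one] at h; exact hs h))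
  rw [← h7]
  exact h9

end Tor

section Rep

variable {D : ChevalleyDatum} {l : ℕ} {M : CoxeterMatrix (Fin l)} (hp : IsType D l M) {k : Type u} [Field k]

/-- the adjoint representation -/
noncomputable def adj (D : ChevalleyDatum) (k : Type u) [Field k] : ↥(D.group k) →* Module.End k (D.Idx → k) :=
  ((Matrix.toLinAlgEquiv' : Matrix D.Idx D.Idx k ≃ₐ[k] Module.End k (D.Idx → k)).toRingEquiv.toRingHom.toMonoidHom).comp
    ((Units.coeHom (Matrix D.Idx D.Idx k)).comp (D.group k).subtype)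

theorem adj_apply (x : ↥(D.group k)) :
    adj D k x = Matrix.toLin' ((x : GL D.Idx k) : Matrix D.Idx D.Idx k) := rfl

include hp in
/-- the dimension of an eigenspace for a nontrivial eigenvalue -/
theorem finrank_adj [DecidableEq k] {x z t : ↥(D.group k)} (ht : t ∈ TT D k) (hz : z⁻¹ * x * z = t) {μ : k}
    (hμ : μ ≠ 1) : finrank k ((adj D k x).eigenspace μ) =
      (Finset.univ.filter fun r : Fin D.nroots => cX hp t (vec D l r) = μ).card := by
  have h1 : (((z⁻¹ : ↥(D.group k)) : GL D.Idx k) : Matrix D.Idx D.Idx k) * ((x : GL D.Idx k) : Matrix D.Idx D.Idx k) *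
      (((((z⁻¹ : ↥(D.group k)) : GL D.Idx k))⁻¹ : GL D.Idx k) : Matrix D.Idx D.Idx k) =
      Matrix.diagonal (Sum.elim (fun _ => (1 : k)) (fun s : Fin D.nroots => cX hp t (vec D l s))) := by
    rw [← Cfsg.Agent.H83.RootCount.coe_eq_diagonal hp ht, ← hz, ← Subgroup.coe_inv, inv_inv, Subgroup.coe_mul,
      Subgroup.coe_mul, Units.val_mul, Units.val_mul]
  have h2 := Cfsg.Agent.H943.TorDim.finrank_ker_conj_diag _ _ h1 μ
  rw [Module.End.eigenspace_def, adj_apply, h2]
  symm
  refine Finset.card_bij (fun r _ => Sum.inr r) ?_ ?_ ?_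
  · intro a ha
    rw [Finset.mem_filter] at ha ⊢
    exact ⟨Finset.mem_univ _, ha.2⟩
  · intro a _ b _ h
    exact Sum.inr_injective h
  · intro b hb
    rw [Finset.mem_filter] at hb
    rcases b with b | b
    · exact absurd hb.2.symm hμ
    · exact ⟨b, Finset.mem_filter.2 ⟨Finset.mem_univ _, hb.2⟩, rfl⟩

end Rep

section Main

open Cfsg.Agent.BpExc

variable {D : ChevalleyDatum} {l : ℕ} {M : CoxeterMatrix (Fin l)} (hp : IsType D l M) {k : Type u} [Field k]
  [IsAlgClosed k] (r : ℕ) [Fact r.Prime] [CharP k r] (hk : TorAll.HAlg r k)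

include hk in
/-- the bound for `e` -/
theorem six_e_adj {x : ↥(D.group k)} (hx : x ^ 5 = 1) (hx1 : x ≠ 1) (hr : r ≠ 5) {P : ℕ}
    {tab : List (ℕ × ℕ × List (ℕ × ℕ))} (htab : tab.all (chk D P) = true)
    (hgen : ∀ t ∈ TT D k, t ^ 5 = 1 → (∀ a ∈ tab, cX hp t (vec D l a.1) = 1) → t = 1) {e : ℕ}
    (he : ∀ μ : k, μ ^ 5 = 1 → μ ≠ 1 → finrank k ((adj D k x).eigenspace μ) = e) : 2 * P + 4 ≤ 6 * e := by
  classical
  obtain ⟨z, hz⟩ := TorAll.exists_toral hp r hk (q := 5) (by norm_num) (Ne.symm hr) hx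
  obtain ⟨t, ht⟩ : ∃ t, t = z⁻¹ * x * z := ⟨_, rfl⟩
  rw [← ht] at hz
  have e1 : t = z⁻¹ * x * z⁻¹⁻¹ := by rw [inv_inv, ht]
  have ht5 : t ^ 5 = 1 := by rw [e1, conj_pow, hx, mul_one, inv_inv, inv_mul_cancel]
  have ht1 : t ≠ 1 := by
    intro h
    apply hx1
    have e2 : x = z * t * z⁻¹ := by rw [ht]; group
    rw [e2, h]; group
  obtain ⟨a, ha, ha1⟩ : ∃ a ∈ tab, cX hp t (vec D l a.1) ≠ 1 := by
    by_contra hcon
    push Not at hcon
    exact ht1 (hgen t hz ht5 hcon)
  exact six_e hp hz ht5 (List.all_eq_true.1 htab a ha) ha1 fun μ hμ hμ1 => by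
    rw [← he μ hμ hμ1, finrank_adj hp hz ht.symm hμ1]

include hk in
/-- **No `T × T`.** -/
theorem no_five_sq (hr : r ≠ 5) {P : ℕ} {tab : List (ℕ × ℕ × List (ℕ × ℕ))} (htab : tab.all (chk D P) = true)
    (hgen : ∀ t ∈ TT D k, t ^ 5 = 1 → (∀ a ∈ tab, cX hp t (vec D l a.1) = 1) → t = 1)
    (hnum : ∀ e₁ e₂ : ℕ, 5 ∣ e₁ → 5 ∣ e₂ → 2 * P + 4 ≤ 6 * e₁ → 2 * P + 4 ≤ 6 * e₂ →
      24 * (e₁ + e₂) ≤ 5 * (D.rank + D.nroots) → False) (hN : D.rank + D.nroots < 576)
    {T : Type*} [Group T] {P₀ : Subgroup T} (hP : Nat.card P₀ = 25)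
    (hfus : ∀ x ∈ P₀, x ≠ 1 → ∀ y ∈ P₀, y ≠ 1 → ∃ s : T, s * x * s⁻¹ = y) (f : T × T →* ↥(D.group k))
    (hf : Function.Injective f) : False := by
  classical
  have h5 : ((5 : ℕ) : k) ≠ 0 := by
    intro h0
    have h1 := (CharP.cast_eq_zero_iff k r 5).1 h0
    exact hr ((Nat.prime_dvd_prime_iff_eq (Fact.out : r.Prime) (by norm_num)).1 h1)
  have hdim : finrank k (D.Idx → k) = D.rank + D.nroots := by
    rw [Module.finrank_fintype_fun_eq_card, Fintype.card_sum, Fintype.card_fin, Fintype.card_fin]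
  obtain ⟨e₁, e₂, h1, h2, h3, h4, h6⟩ := five_pair h5 hP hfus ((adj D k).comp f) (by rw [hdim]; exact hN)
  have hexp := exp_of_fus hP hfus
  have hnt : Nontrivial P₀ := by
    have hfin : Finite P₀ := Nat.finite_of_card_ne_zero (by rw [hP]; norm_num)
    rw [← Finite.one_lt_card_iff_nontrivial, hP]; norm_num
  obtain ⟨x, hx⟩ := exists_ne (1 : P₀)
  have hx1 : (x : T) ≠ 1 := fun h => hx (Subtype.ext h)
  have hx5 : (x : T) ^ 5 = 1 := congrArg Subtype.val (hexp x)
  rw [hdim] at h3
  refine hnum e₁ e₂ h1 h2 ?_ ?_ h3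
  · refine six_e_adj hp r hk (x := f ((x : T), 1)) ?_ ?_ hr htab hgen fun μ hμ hμ1 => h4 x x.2 hx1 μ hμ hμ1
    · rw [← map_pow, Prod.pow_mk, hx5, one_pow]
      exact map_one f
    · intro h
      exact hx1 (congrArg Prod.fst (hf (h.trans (map_one f).symm)))
  · refine six_e_adj hp r hk (x := f (1, (x : T))) ?_ ?_ hr htab hgen fun μ hμ hμ1 => h6 x x.2 hx1 μ hμ hμ1
    · rw [← map_pow, Prod.pow_mk, hx5, one_pow]
      exact map_one f
    · intro h
      exact hx1 (congrArg Prod.snd (hf (h.trans (map_one f).symm)))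

end Main

end Cfsg.Agent.H523.EPX.TK
end

-- part: H938/EPK/Z
section
/-!
# `(Z)`: centralizers in a subgroup `N ≅ T ^ k`, `k ≥ 2` (S5745, CrossK; helper938)

* `exists_cent` : `r ∣ |T|`, `r` prime: some `x` of order `r` in `N` has `r * |T| ^ (k - 1) ∣ |C_G(x)|`;
* `zkill` : if `|C_G(x)| < r * |T|` for all `x` of order `r`, contradiction;
* `exists_comm` : commuting elements of orders `r`, `s` (and one of order `r * s` if `r`, `s` are coprime);
* `exists_inj` : an injective homomorphism `A × B → G` from injective `A → T`, `B → T`.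
-/

set_option autoImplicit false

namespace Cfsg.Agent.H938.EPK

open Subgroup

universe u v

variable {G : Type u} [Group G] {N : Subgroup G} {T : Type v} [Group T] {k : ℕ}

/-- the homomorphism `T × T ^ m → T ^ (m + 1)` -/
def consHom (T : Type v) [Group T] (m : ℕ) : T × (Fin m → T) →* (Fin (m + 1) → T) where
  toFun p := Fin.cons p.1 p.2
  map_one' := by
    funext i
    refine Fin.cases ?_ (fun j => ?_) i
    · simp
    · simp
  map_mul' a b := by
    funext i
    refine Fin.cases ?_ (fun j => ?_) i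
    · simp
    · simp

theorem consHom_inj (m : ℕ) : Function.Injective (consHom T m) := by
  rintro ⟨a, b⟩ ⟨c, d⟩ h
  have h' : (Fin.cons a b : Fin (m + 1) → T) = Fin.cons c d := h
  obtain ⟨h1, h2⟩ := Fin.cons_inj.1 h'
  rw [h1, h2]

/-- `T × T ^ (k - 1)` in `G` -/
theorem exists_hom (e : N ≃* (Fin k → T)) (hk : 1 ≤ k) :
    ∃ f : T × (Fin (k - 1) → T) →* G, Function.Injective f ∧ ∀ x, f x ∈ N := by
  obtain ⟨m, rfl⟩ : ∃ m, k = m + 1 := ⟨k - 1, by omega⟩
  refine ⟨N.subtype.comp (e.symm.toMonoidHom.comp (consHom T m)), ?_, fun x => (e.symm (consHom T m x)).2⟩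
  exact Subtype.val_injective.comp (e.symm.injective.comp (consHom_inj m))

/-- `T × T` in `G` -/
theorem exists_hom2 (e : N ≃* (Fin k → T)) (hk : 2 ≤ k) :
    ∃ f : T × T →* G, Function.Injective f ∧ ∀ x, f x ∈ N := by
  obtain ⟨m, rfl⟩ : ∃ m, k = m + 2 := ⟨k - 2, by omega⟩
  obtain ⟨f, hf, hfN⟩ := exists_hom e (by omega)
  let g : T →* (Fin (m + 2 - 1) → T) := MonoidHom.mulSingle (fun _ : Fin (m + 1) => T) 0
  have hg : Function.Injective g := Pi.mulSingle_injective (M := fun _ : Fin (m + 1) => T) 0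
  refine ⟨f.comp ((MonoidHom.id T).prodMap g), hf.comp (Function.Injective.prodMap Function.injective_id hg),
    fun x => hfN _⟩

variable [Finite G]

omit [Finite G] in
/-- abstract form: `T × U` in `G` -/
theorem dvd_of_hom {U : Type*} [Group U] {f : T × U →* G} (hf : Function.Injective f) {t : T} :
    orderOf t * Nat.card U ∣ Nat.card (centralizer ({f (t, 1)} : Set G)) := by
  have hle : ((zpowers t).prod (⊤ : Subgroup U)).map f ≤ centralizer ({f (t, 1)} : Set G) := by
    rintro _ ⟨⟨s, u⟩, ⟨hs, -⟩, rfl⟩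
    rw [mem_centralizer_singleton_iff, ← map_mul, ← map_mul]
    congr 1
    obtain ⟨n, hn⟩ := hs
    have hn' : t ^ n = s := hn
    refine Prod.ext ?_ ?_
    · change s * t = t * s
      rw [← hn']
      exact (Commute.refl t).zpow_left n
    · change u * 1 = 1 * u
      rw [mul_one, one_mul]
  have h1 := card_dvd_of_le hle
  rw [card_map_of_injective hf, Nat.card_congr (prodEquiv _ _).toEquiv, Nat.card_prod, Nat.card_zpowers, card_top] at h1
  exact h1

/-- **(Z)** : some `x ∈ N` of order `r` has `r * |T| ^ (k - 1) ∣ |C_G(x)|` -/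
theorem exists_cent (e : N ≃* (Fin k → T)) (hk : 2 ≤ k) {r : ℕ} (hr : r.Prime) (hT : r ∣ Nat.card T) :
    ∃ x ∈ N, orderOf x = r ∧ r * Nat.card T ^ (k - 1) ∣ Nat.card (centralizer ({x} : Set G)) := by
  obtain ⟨f, hf, hfN⟩ := exists_hom e (by omega)
  have hfin : Finite T := by
    refine Finite.of_injective (fun t => f (t, 1)) fun a b h => ?_
    exact (Prod.ext_iff.1 (hf h)).1
  have := Fact.mk hr
  obtain ⟨t, ht⟩ := exists_prime_orderOf_dvd_card' r hT
  refine ⟨f (t, 1), hfN _, ?_, ?_⟩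
  · rw [orderOf_injective f hf, Prod.orderOf_mk, orderOf_one, Nat.lcm_one_right, ht]
  · have h1 := dvd_of_hom (U := Fin (k - 1) → T) hf (t := t)
    rw [ht, Nat.card_pi, Finset.prod_const, Finset.card_univ, Fintype.card_fin] at h1
    exact h1

/-- **(Z)**, the consumer form -/
theorem zkill (e : N ≃* (Fin k → T)) (hk : 2 ≤ k) {r : ℕ} (hr : r.Prime) (hT : r ∣ Nat.card T) {c : ℕ}
    (hc : ∀ x : G, orderOf x = r → Nat.card (centralizer ({x} : Set G)) ≤ c) (hlt : c < r * Nat.card T) : False := by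
  obtain ⟨x, -, hx, hd⟩ := exists_cent e hk hr hT
  have h1 := Nat.le_of_dvd Nat.card_pos hd
  have h2 := hc x hx
  have hT0 : 0 < Nat.card T := by
    rcases Nat.eq_zero_or_pos (Nat.card T) with h0 | h0
    · rw [h0] at hlt; omega
    · exact h0
  have h3 : Nat.card T ≤ Nat.card T ^ (k - 1) := Nat.le_self_pow (by omega) _
  have h4 := Nat.mul_le_mul_left r h3
  omega

end Cfsg.Agent.H938.EPK
end

-- part: H523/EPX/TitsK
section
/-!
# S5745, CrossK: `T ≅ ²F₄(2)'`, `k ≥ 2` (helper523)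

No `T ^ k`, `k ≥ 2`, in `F₄(q)`, `E₆(q)`, `²E₆(q)`, `E₇(q)`, `5 ∤ q`.  `T` has a subgroup of order 25 whose 24 nontrivial elements
are conjugate (`H476.Conj.five_tits`).
-/

set_option autoImplicit false

namespace Cfsg.Agent.H523.EPX.TK

open CoxeterSystem Cfsg Cfsg.Lie Cfsg.Lie.ChevalleyDatum Module
open Cfsg.Agent.ChevalleyStructure Cfsg.Agent.ChevalleyStructure.Elts Cfsg.Agent.ChevalleyStructure.CoxeterGeom
  Cfsg.Agent.ChevalleyStructure.CoxeterGeomTypes Cfsg.Agent.ChevalleyStructure.RootVec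
open Cfsg.Agent.Tits.Roots Cfsg.Agent.Tits.Core Cfsg.Agent.Nodes Cfsg.Agent.Nodes.Reps Cfsg.Agent.Nodes.BNOf
  Cfsg.Agent.Nodes.RGDChev
open Cfsg.Agent.KFacts.RgdChevCoord Cfsg.Agent.H129.TorusChar Cfsg.Agent.BpExc

universe u v

theorem tyE : IsType chevE6 6 CoxeterMatrix.E₆ := by simp [IsType, typeList]
theorem tyS : IsType chevE7 7 CoxeterMatrix.E₇ := by simp [IsType, typeList]

section Gen

variable {D : ChevalleyDatum} {l : ℕ} {M : CoxeterMatrix (Fin l)} (hp : IsType D l M) {k : Type u} [Field k]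

/-- the simple roots are in the table -/
theorem gen_of_simple {tab : List (ℕ × ℕ × List (ℕ × ℕ))}
    (htab : ∀ i : Fin l, ∃ a ∈ tab, a.1 = D.simple i) {t : ↥(D.group k)} (ht : t ∈ TT D k)
    (h : ∀ a ∈ tab, cX hp t (vec D l a.1) = 1) : t = 1 := by
  refine cX_inj hp ht (one_mem _) fun i => ?_
  obtain ⟨a, ha, hai⟩ := htab i
  rw [cX_one, ← vec_simple hp i, ← hai]
  exact h a ha

end Gen

theorem genE : ∀ i : Fin 6, ∃ a ∈ tabE, a.1 = chevE6.simple i := by decide +kernel

theorem genS : ∀ i : Fin 7, ∃ a ∈ tabS, a.1 = chevE7.simple i := by decide +kernel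

section Main

variable {F : Type u} [Field F] [Finite F] (r : ℕ) [Fact r.Prime] [CharP F r] {T : Type v} [Group T] {P₀ : Subgroup T}

theorem numE (e₁ e₂ : ℕ) (h1 : 5 ∣ e₁) (h2 : 5 ∣ e₂) (h3 : 2 * 20 + 4 ≤ 6 * e₁) (h4 : 2 * 20 + 4 ≤ 6 * e₂)
    (h5 : 24 * (e₁ + e₂) ≤ 5 * (chevE6.rank + chevE6.nroots)) : False := by
  have e : chevE6.rank + chevE6.nroots = 78 := by decide +kernel
  omega

theorem numS (e₁ e₂ : ℕ) (h1 : 5 ∣ e₁) (h2 : 5 ∣ e₂) (h3 : 2 * 32 + 4 ≤ 6 * e₁) (h4 : 2 * 32 + 4 ≤ 6 * e₂)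
    (h5 : 24 * (e₁ + e₂) ≤ 5 * (chevE7.rank + chevE7.nroots)) : False := by
  have e : chevE7.rank + chevE7.nroots = 133 := by decide +kernel
  omega

/-- no `T × T` in `E₆(q)` -/
theorem no_sq_E6 (hr : r ≠ 5) (hP : Nat.card P₀ = 25)
    (hfus : ∀ x ∈ P₀, x ≠ 1 → ∀ y ∈ P₀, y ≠ 1 → ∃ s : T, s * x * s⁻¹ = y) (f : T × T →* ↥(chevE6.group F))
    (hf : Function.Injective f) : False := by
  have := charP_of_injective_algebraMap (algebraMap F (AlgebraicClosure F)).injective r
  refine no_five_sq tyE (k := AlgebraicClosure F) r (H208.PiExc.hAlg_closure F r) hr chkE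
    (fun t ht _ h => gen_of_simple tyE genE ht h) numE (by decide +kernel) hP hfus
    ((GpExc.Field.emb tyE.inList (algebraMap F (AlgebraicClosure F))).comp f) ?_
  exact (GpExc.Field.emb_injective tyE.inList _).comp hf

/-- no `T × T` in `E₇(q)` -/
theorem no_sq_E7 (hr : r ≠ 5) (hP : Nat.card P₀ = 25)
    (hfus : ∀ x ∈ P₀, x ≠ 1 → ∀ y ∈ P₀, y ≠ 1 → ∃ s : T, s * x * s⁻¹ = y) (f : T × T →* ↥(chevE7.group F))
    (hf : Function.Injective f) : False := by
  have := charP_of_injective_algebraMap (algebraMap F (AlgebraicClosure F)).injective r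
  refine no_five_sq tyS (k := AlgebraicClosure F) r (H208.PiExc.hAlg_closure F r) hr chkS
    (fun t ht _ h => gen_of_simple tyS genS ht h) numS (by decide +kernel) hP hfus
    ((GpExc.Field.emb tyS.inList (algebraMap F (AlgebraicClosure F))).comp f) ?_
  exact (GpExc.Field.emb_injective tyS.inList _).comp hf

end Main

/-! ### the Tits group -/

/-- the subgroup of order 25 -/
theorem five_of_isoTits {T : Type*} [Group T] (hT : IsoTits T) : ∃ P : Subgroup T, Nat.card P = 25 ∧
    ∀ x ∈ P, x ≠ 1 → ∀ y ∈ P, y ≠ 1 → ∃ s : T, s * x * s⁻¹ = y := by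
  obtain ⟨e⟩ := hT
  obtain ⟨P, hP, h⟩ := H476.Conj.five_tits
  refine ⟨P.map (e.symm : TitsGroup →* T), ?_, ?_⟩
  · rw [← hP]
    exact (Nat.card_congr (P.equivMapOfInjective _ e.symm.injective).toEquiv).symm
  · rintro _ ⟨x, hx, rfl⟩ hx1 _ ⟨y, hy, rfl⟩ hy1
    obtain ⟨s, hs⟩ := h x hx (fun h => hx1 (by rw [h]; exact map_one _)) y hy fun h => hy1 (by rw [h]; exact map_one _)
    refine ⟨e.symm s, ?_⟩
    rw [← hs]
    simp only [_root_.MonoidHom.coe_coe, _root_.map_mul, _root_.map_inv]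

section EPS

open Cfsg.Agent.H209.EPX Cfsg.Agent.H894.EK

theorem exists_sq {G : Type*} [Group G] {H N : Subgroup G} {T : Type} [Group T] {k : ℕ} {e : N ≃* (Fin k → T)}
    (_h : EPS H N e) (hk : 2 ≤ k) : ∃ f : T × T →* G, Function.Injective f := by
  obtain ⟨f, hf, -⟩ := Cfsg.Agent.H938.EPK.exists_hom2 e hk
  exact ⟨f, hf⟩

variable {F : Type} [Field F] [Fintype F] {T : Type} [Group T] {k : ℕ}

/-- `E₆(q)` -/
theorem titsk_E6 (r : ℕ) [Fact r.Prime] [CharP F r] (hr : r ≠ 5) {H N : Subgroup ↥(chevE6.group F)} {e : N ≃* (Fin k → T)}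
    (h : EPS H N e) (hk : 2 ≤ k) (hT : IsoTits T) : False := by
  obtain ⟨P, hP, hfus⟩ := five_of_isoTits hT
  obtain ⟨f, hf⟩ := exists_sq h hk
  exact no_sq_E6 r hr hP hfus f hf

/-- `E₇(q)` -/
theorem titsk_E7 (r : ℕ) [Fact r.Prime] [CharP F r] (hr : r ≠ 5) {H N : Subgroup ↥(chevE7.group F)} {e : N ≃* (Fin k → T)}
    (h : EPS H N e) (hk : 2 ≤ k) (hT : IsoTits T) : False := by
  obtain ⟨P, hP, hfus⟩ := five_of_isoTits hT
  obtain ⟨f, hf⟩ := exists_sq h hk
  exact no_sq_E7 r hr hP hfus f hf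

/-- `²E₆(q)` -/
theorem titsk_TE6 (r : ℕ) [Fact r.Prime] [CharP F r] (hr : r ≠ 5) {q : ℕ} {H N : Subgroup ↥(twistedE6 F q)}
    {e : N ≃* (Fin k → T)} (h : EPS H N e) (hk : 2 ≤ k) (hT : IsoTits T) : False := by
  obtain ⟨P, hP, hfus⟩ := five_of_isoTits hT
  obtain ⟨f, hf⟩ := exists_sq h hk
  exact no_sq_E6 r hr hP hfus ((H778.Exc.incK F q).comp f) (H778.Exc.incK_injective.comp hf)

/-! ### the fields of `H894.EK.RowsF4`, `RowsE6`, `RowsTE6`, `RowsE7` -/

theorem charP_two {F : Type} [Field F] [Fintype F] {n : ℕ} (hF : Fintype.card F = 2 ^ n) : CharP F 2 := by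
  obtain ⟨p, hp⟩ := CharP.exists F
  obtain ⟨m, hp', hm⟩ := FiniteField.card F p
  have h1 : p ∣ 2 ^ n := by
    rw [← hF, hm]
    exact dvd_pow_self p m.pos.ne'
  have h2 : p = 2 := (Nat.prime_dvd_prime_iff_eq hp' Nat.prime_two).1 (hp'.dvd_of_dvd_pow h1)
  rwa [h2] at hp

theorem row_E6_tits (F : Type) [Field F] [Fintype F] (hF : Fintype.card F = 4) : Row (Nm .tits) ↥(chevE6.group F) 2 := by
  have := charP_two (n := 2) hF
  have : Fact (Nat.Prime 2) := ⟨Nat.prime_two⟩
  intro H N T _ e h hT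
  exact titsk_E6 2 (by norm_num) h le_rfl hT

theorem row_TE6_tits (K : Type) [Field K] [Fintype K] {q : ℕ} (hK : Fintype.card K = q ^ 2) (hq : q = 4) :
    Row (Nm .tits) ↥(twistedE6 K q) 2 := by
  have := charP_two (F := K) (n := 4) (by rw [hK, hq]; norm_num)
  have : Fact (Nat.Prime 2) := ⟨Nat.prime_two⟩
  intro H N T _ e h hT
  exact titsk_TE6 2 (by norm_num) h le_rfl hT

theorem row_E7_tits (F : Type) [Field F] [Fintype F] (hF : Fintype.card F = 4) : Row (Nm .tits) ↥(chevE7.group F) 3 := by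
  have := charP_two (n := 2) hF
  have : Fact (Nat.Prime 2) := ⟨Nat.prime_two⟩
  intro H N T _ e h hT
  exact titsk_E7 2 (by norm_num) h (by norm_num) hT

end EPS

end Cfsg.Agent.H523.EPX.TK
end

-- part: H225/EX/LocU
section
/-!
# S5745: `U₃(3)` has at most 592 subgroups in `LocK` (helper225)

`ncard_locK : U33 N → (LocK N \ {⊤}).ncard ≤ 592` : `K = N(O)` or `K = O` for an object `O` of helper119.
-/

set_option autoImplicit false
set_option linter.unusedSectionVars false

namespace Cfsg.Agent.H225.EX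

open Subgroup Cfsg Cfsg.Agent.H119.EP
open Cfsg.Agent.Lib.Cores (pCore_normal pCore_isPGroup le_pCore pCore_characteristic)
open Cfsg.Agent.H273.EPU (LocK)

variable {N : Type*} [Group N]

/-- a characteristic subgroup is normalised -/
theorem le_norm {K : Subgroup N} (Y : Subgroup K) (hY : Y.Normal) :
    K ≤ normalizer ((Y.map K.subtype : Subgroup N) : Set N) := by
  intro k hk
  rw [mem_normalizer_iff]
  intro y
  constructor
  · rintro ⟨z, hz, rfl⟩
    exact ⟨_, hY.conj_mem z hz ⟨k, hk⟩, rfl⟩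
  · rintro ⟨z, hz, hzy⟩
    refine ⟨_, hY.conj_mem z hz ⟨k, hk⟩⁻¹, ?_⟩
    have h1 : (z : N) = k * y * k⁻¹ := hzy
    show k⁻¹ * (z : N) * (k⁻¹)⁻¹ = y
    rw [h1]
    group

theorem eq_norm {K : Subgroup N} (hK : K ∈ LocK N) (Y : Subgroup K) (hY : Y.Characteristic) (h0 : Y ≠ ⊥) :
    normalizer ((Y.map K.subtype : Subgroup N) : Set N) = K :=
  le_antisymm (hK.2 Y hY h0) (le_norm Y inferInstance)

/-- `K` from its object -/
noncomputable def dec (O : Subgroup N) : Subgroup N := if Nat.card O = 168 then O else normalizer (O : Set N)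

theorem dec_of {O K : Subgroup N} (h1 : Nat.card O ≠ 168) (h2 : normalizer (O : Set N) = K) : dec O = K := by
  rw [dec, if_neg h1, h2]

variable (h : U33 N)

include h

/-- the nonsolvable members -/
theorem mem_KT (M : Subgroup N) (hM : M ≠ ⊥) (hM' : M ≠ ⊤) (h2 : pCore 2 M = ⊥) (h3 : pCore 3 M = ⊥)
    (h7 : pCore 7 M = ⊥) : M ∈ KT N := by
  have := h.finite
  have hnt : Nontrivial M := (nontrivial_iff_ne_bot M).2 hM
  have hns : ¬ Group.IsSolvable M := by
    intro hs
    obtain ⟨r, hr, hne⟩ := Cfsg.Agent.H479.GoodEight.exists_pCore hs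
    have := Fact.mk hr
    have h4 : r ∣ 6048 := by
      obtain ⟨k, hk⟩ := IsPGroup.iff_card.1 (pCore_isPGroup (G := M) r)
      have h5 : Nat.card (pCore r M) ∣ 6048 := (card_subgroup_dvd_card _).trans (h.card_dvd M)
      refine dvd_trans ?_ h5
      rw [hk]
      apply dvd_pow_self
      rintro rfl
      apply hne
      rw [← card_eq_one, hk, pow_zero]
    have h5 : r = 2 ∨ r = 3 ∨ r = 7 := by
      have e : (6048 : ℕ) = 2 ^ 5 * 3 ^ 3 * 7 := by norm_num
      rw [e, hr.dvd_mul, hr.dvd_mul] at h4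
      rcases h4 with (h4 | h4) | h4
      · left; exact (Nat.prime_dvd_prime_iff_eq hr Nat.prime_two).1 (hr.dvd_of_dvd_pow h4)
      · right; left; exact (Nat.prime_dvd_prime_iff_eq hr Nat.prime_three).1 (hr.dvd_of_dvd_pow h4)
      · right; right; exact (Nat.prime_dvd_prime_iff_eq hr (by norm_num)).1 h4
    rcases h5 with rfl | rfl | rfl
    · exact hne h2
    · exact hne h3
    · exact hne h7
  have hd7 : 7 ∣ Nat.card M := by
    by_contra hcon
    apply hns
    apply solvable_of_dvd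
    have h4 : (Nat.card M).Coprime 7 := ((Nat.Prime.coprime_iff_not_dvd (by norm_num : Nat.Prime 7)).2 hcon).symm
    exact h4.dvd_of_dvd_mul_right (show Nat.card M ∣ 864 * 7 from h.card_dvd M)
  obtain ⟨S⟩ : Nonempty (Sylow 7 M) := inferInstance
  have hS7 : Nat.card (S : Subgroup M) = 7 := sylow_card_seven hd7 (h.card_dvd M) S
  have hidx : Nat.card (Sylow 7 M) = (normalizer ((S : Subgroup M) : Set M)).index := S.card_eq_index_normalizer
  -- the normaliser of `S` does not have order 7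
  have hnorm : Nat.card (normalizer ((S : Subgroup M) : Set M)) ≠ 7 := by
    intro h4
    have h5 : (S : Subgroup M) = normalizer ((S : Subgroup M) : Set M) :=
      eq_of_le_of_card_ge le_normalizer (by rw [h4, hS7])
    have hcyc : IsCyclic (S : Subgroup M) := isCyclic_of_prime_card (p := 7) hS7
    have h6 : normalizer ((S : Subgroup M) : Set M) ≤ centralizer ((S : Subgroup M) : Set M) := by
      rw [← h5]
      intro x hx
      rw [mem_centralizer_iff]
      intro y hy
      obtain ⟨g, hg⟩ := hcyc.exists_generator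
      obtain ⟨i, hi⟩ := mem_zpowers_iff.1 (hg ⟨x, hx⟩)
      obtain ⟨j, hj⟩ := mem_zpowers_iff.1 (hg ⟨y, hy⟩)
      have h8 : (⟨y, hy⟩ : (S : Subgroup M)) * ⟨x, hx⟩ = ⟨x, hx⟩ * ⟨y, hy⟩ := by
        rw [← hi, ← hj, ← zpow_add, ← zpow_add, add_comm]
      exact congrArg Subtype.val h8
    have h8 := (MonoidHom.ker_transferSylow_isComplement' S h6).card_mul_card
    rw [show Nat.card (S : Subgroup M) = 7 from hS7] at h8
    set K := (MonoidHom.transferSylow S h6).ker with hK
    have h9 : Group.IsSolvable K := by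
      apply solvable_of_dvd
      have h10 := h.card_dvd M
      rw [← h8] at h10
      exact Nat.dvd_of_mul_dvd_mul_right (by norm_num : 0 < 7) (show Nat.card K * 7 ∣ 864 * 7 from h10)
    apply hns
    have h10 : Group.IsSolvable (M ⧸ K) := by
      have h11 : Nat.card (M ⧸ K) = 7 := by
        have h12 := K.card_mul_index
        rw [← h8] at h12
        exact Nat.eq_of_mul_eq_mul_left Nat.card_pos h12
      have h12 : IsCyclic (M ⧸ K) := isCyclic_of_prime_card (p := 7) h11
      apply Group.isSolvable_of_comm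
      intro a b
      obtain ⟨g, hg⟩ := h12.exists_generator
      obtain ⟨i, rfl⟩ := mem_zpowers_iff.1 (hg a)
      obtain ⟨j, rfl⟩ := mem_zpowers_iff.1 (hg b)
      rw [← zpow_add, ← zpow_add, add_comm]
    exact (Group.isSolvable_iff_subgroup_quotient K).2 ⟨h9, h10⟩
  -- it has order 21
  obtain ⟨P, hP, hPM⟩ : {P : Subgroup N | Nat.card P = 7 ∧ P ≤ M}.Nonempty := by
    refine ⟨(S : Subgroup M).map M.subtype, ?_, map_subtype_le _⟩
    rw [card_map_of_injective (subtype_injective M)]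
    exact hS7
  have h4 := h.norm_inf M P hP hPM
  have h5 : Nat.card (normalizer ((S : Subgroup M) : Set M)) =
      Nat.card (normalizer (P : Set N) ⊓ M : Subgroup N) := by
    have h6 := (normalizer ((S : Subgroup M) : Set M)).index_mul_card
    rw [← hidx, ← h4] at h6
    exact Nat.eq_of_mul_eq_mul_left Nat.card_pos h6
  have h6 : Nat.card (normalizer (P : Set N) ⊓ M : Subgroup N) ∣ 21 := by
    rw [← h.card_norm P hP]
    exact card_dvd_of_le inf_le_left
  have h8 : 7 ∣ Nat.card (normalizer (P : Set N) ⊓ M : Subgroup N) := by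
    rw [← hP]
    exact card_dvd_of_le (le_inf le_normalizer hPM)
  have h9 : Nat.card (normalizer (P : Set N) ⊓ M : Subgroup N) = 21 := by
    obtain ⟨c, hc⟩ := h8
    rw [hc] at h6
    have h10 : c ∣ 3 := Nat.dvd_of_mul_dvd_mul_left (by norm_num : 0 < 7) (show 7 * c ∣ 7 * 3 from h6)
    rcases (Nat.dvd_prime Nat.prime_three).1 h10 with rfl | rfl
    · exfalso
      apply hnorm
      rw [h5, hc]
    · rw [hc]
  rw [h9] at h4
  rcases num_seven hd7 (h.card_dvd M) with h10 | h10 | h10 | h10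
  · exfalso
    rw [h10] at hidx
    have h11 : normalizer ((S : Subgroup M) : Set M) = ⊤ := index_eq_one.1 hidx.symm
    have h12 : (S : Subgroup M).Normal := normalizer_eq_top_iff.1 h11
    have h13 := le_pCore h12 S.isPGroup'
    rw [h7, le_bot_iff] at h13
    rw [h13, card_bot] at hS7
    omega
  · refine ⟨?_, h10⟩
    rw [h10] at h4
    omega
  · exfalso
    rw [h10] at h4
    apply h.no_index_eight M
    have h11 := M.card_mul_index
    rw [h.card, ← h4] at h11
    omega
  · exfalso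
    rw [h10] at h4
    apply hM'
    apply eq_top_of_card_eq
    rw [h.card, ← h4]


theorem loc_seven {K : Subgroup N} (hK : K ∈ LocK N) (h7 : pCore 7 K ≠ ⊥) : ∃ O ∈ Obj N, dec O = K := by
  have := h.finite
  have hc : Nat.card ((pCore 7 K).map K.subtype) = 7 := by
    have h1 := h.card_dvd ((pCore 7 K).map K.subtype)
    rw [card_map_of_injective (subtype_injective K)] at h1 ⊢
    obtain ⟨k, hk⟩ := IsPGroup.iff_card.1 (pCore_isPGroup (G := K) 7)
    rw [hk] at h1 ⊢
    rcases k with _ | _ | k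
    · exfalso
      apply h7
      rw [← card_eq_one, hk]
      rfl
    · rfl
    · exfalso
      have h3 : 7 ^ 2 ∣ 6048 := (pow_dvd_pow 7 (by omega : 2 ≤ k + 1 + 1)).trans h1
      revert h3
      norm_num
  refine ⟨(pCore 7 K).map K.subtype, Or.inl (Or.inl (Or.inl (Or.inr hc))), dec_of (by omega) ?_⟩
  exact eq_norm hK _ (pCore_characteristic 7) h7

theorem loc_two {K : Subgroup N} (hK : K ∈ LocK N) (h2' : pCore 2 K ≠ ⊥) : ∃ O ∈ Obj N, dec O = K := by
  have := h.finite
  have h1 : ∀ v ∈ (Om K).map K.subtype, v * v = 1 := by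
    rintro _ ⟨v, hv, rfl⟩
    exact congrArg Subtype.val hv.2.2
  have h2 := h.el _ h1
  refine ⟨(Om K).map K.subtype, ?_, dec_of (by omega) (eq_norm hK _ (Om_char K) (Om_ne h2'))⟩
  have hp : IsPGroup 2 ((Om K).map K.subtype) := by
    intro v
    refine ⟨1, ?_⟩
    rw [pow_one, pow_two]
    exact Subtype.ext (h1 v v.2)
  obtain ⟨k, hk⟩ := IsPGroup.iff_card.1 hp
  have hne : (Om K).map K.subtype ≠ ⊥ := by
    intro e
    rw [map_eq_bot_iff_of_injective _ (subtype_injective K)] at e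
    exact Om_ne h2' e
  have hk3 : k < 3 := by
    by_contra hcon
    have h3 : 2 ^ 3 ≤ 2 ^ k := Nat.pow_le_pow_right (by norm_num) (by omega)
    omega
  interval_cases k
  · exfalso
    apply hne
    rw [← card_eq_one, hk]
    rfl
  · refine Or.inl (Or.inl (Or.inr ?_))
    exact hk
  · refine Or.inl (Or.inr ⟨hk, h1⟩)

theorem loc_three {K : Subgroup N} (hK : K ∈ LocK N) (h3 : pCore 3 K ≠ ⊥) : ∃ O ∈ Obj N, dec O = K := by
  have := h.finite
  have := Fact.mk Nat.prime_three
  have hRp : IsPGroup 3 ((pCore 3 K).map K.subtype) := (pCore_isPGroup (G := K) 3).map _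
  obtain ⟨S, hS⟩ := hRp.exists_le_sylow
  have hN := eq_norm hK _ (pCore_characteristic (G := K) 3) h3
  have hRK : (pCore 3 K).map K.subtype ≤ K := map_subtype_le _
  have hne : (pCore 3 K).map K.subtype ≠ ⊥ := by
    intro e
    rw [map_eq_bot_iff_of_injective _ (subtype_injective K)] at e
    exact h3 e
  have hmem : ∀ n (hn : n ∈ K), (⟨n, hn⟩ : K) ∈ pCore 3 K → n ∈ (pCore 3 K).map K.subtype :=
    fun n hn hx => ⟨_, hx, rfl⟩
  obtain ⟨x, hx, hx1⟩ : ∃ x ∈ (pCore 3 K).map K.subtype, x ≠ 1 := by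
    by_contra hcon
    push Not at hcon
    exact hne ((eq_bot_iff_forall _).2 hcon)
  -- `K` normalises `S`
  have hKS : ∀ k ∈ K, ∀ s ∈ (S : Subgroup N), k * s * k⁻¹ ∈ (S : Subgroup N) := by
    intro k hk s hs
    have h1 : IsPGroup 3 ((S : Subgroup N).map (MulAut.conj k).toMonoidHom) := S.isPGroup'.map _
    obtain ⟨T, hT⟩ := h1.exists_le_sylow
    have hk' := hk
    rw [← hN, mem_normalizer_iff] at hk'
    have h2 := (hk' x).1 hx
    have h4 : S = T := h.ti S T (k * x * k⁻¹) (by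
      intro e
      apply hx1
      have : x = k⁻¹ * (k * x * k⁻¹) * k := by group
      rw [this, e]; group) (hS h2) (hT ⟨x, hS hx, rfl⟩)
    rw [h4]
    exact hT ⟨s, hs, rfl⟩
  -- `S ∩ K ≤ R`
  have hSK : (S : Subgroup N) ⊓ K ≤ (pCore 3 K).map K.subtype := by
    rintro y ⟨hy1, hy2⟩
    have hn : ((S : Subgroup N).subgroupOf K).Normal := by
      constructor
      intro n hn g
      exact hKS g g.2 n hn
    have hp : IsPGroup 3 ((S : Subgroup N).subgroupOf K) := S.isPGroup'.comap_of_injective _ K.subtype_injective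
    exact hmem y hy2 (le_pCore hn hp hy1)
  -- `R = S`
  have hRS : (pCore 3 K).map K.subtype = (S : Subgroup N) := by
    by_contra hcon
    have hlt : (pCore 3 K).map K.subtype < (S : Subgroup N) := lt_of_le_of_ne hS hcon
    have hnil : Group.IsNilpotent (S : Subgroup N) := S.isPGroup'.isNilpotent
    have h1 : (((pCore 3 K).map K.subtype).subgroupOf (S : Subgroup N)) < ⊤ := by
      rw [lt_top_iff_ne_top, ne_eq, subgroupOf_eq_top]
      exact not_le_of_gt hlt
    have h2 := Group.normalizerCondition_of_isNilpotent (G := (S : Subgroup N)) _ h1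
    obtain ⟨y, hy, hyn⟩ := SetLike.exists_of_lt h2
    apply hyn
    have h4 : (y : N) ∈ normalizer (((pCore 3 K).map K.subtype : Subgroup N) : Set N) := by
      rw [mem_normalizer_iff] at hy ⊢
      intro z
      constructor
      · intro hz
        exact (hy ⟨z, hS hz⟩).1 hz
      · intro hz
        have h5 : (y : N)⁻¹ * ((y : N) * z * (y : N)⁻¹) * (y : N) ∈ (S : Subgroup N) :=
          (S : Subgroup N).mul_mem ((S : Subgroup N).mul_mem ((S : Subgroup N).inv_mem y.2) (hS hz)) y.2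
        have h6 : (y : N)⁻¹ * ((y : N) * z * (y : N)⁻¹) * (y : N) = z := by group
        rw [h6] at h5
        exact (hy ⟨z, h5⟩).2 hz
    rw [hN] at h4
    exact hSK ⟨y.2, h4⟩
  refine ⟨S, Or.inl (Or.inl (Or.inl (Or.inl ⟨S, rfl⟩))), dec_of ?_ (by rw [← hRS]; exact hN)⟩
  intro h168
  obtain ⟨k, hk⟩ := IsPGroup.iff_card.1 S.isPGroup'
  have h5 : 7 ∣ 3 ^ k := by
    rw [← hk]
    show 7 ∣ Nat.card (S : Subgroup N)
    rw [h168]; norm_num
  have h6 := (by norm_num : Nat.Prime 7).dvd_of_dvd_pow h5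
  omega

theorem exists_dec {K : Subgroup N} (hK : K ∈ LocK N) (hK' : K ≠ ⊤) : ∃ O ∈ Obj N, dec O = K := by
  by_cases h2 : pCore 2 K = ⊥
  · by_cases h3 : pCore 3 K = ⊥
    · by_cases h7 : pCore 7 K = ⊥
      · have hkt := mem_KT h K hK.1 hK' h2 h3 h7
        exact ⟨K, Or.inr hkt, by rw [dec, if_pos hkt.1]⟩
      · exact loc_seven h hK h7
    · exact loc_three h hK h3
  · exact loc_two h hK h2

/-- **at most 592 members of `LocK`** -/
theorem ncard_locK : (LocK N \ {⊤}).ncard ≤ 592 := by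
  have := h.finite
  refine le_trans (Set.ncard_le_ncard (t := dec '' Obj N) ?_ (Set.toFinite _))
    ((Set.ncard_image_le (Set.toFinite _)).trans h.ncard_obj)
  rintro K ⟨hK, hK'⟩
  obtain ⟨O, hO, e⟩ := exists_dec h hK hK'
  exact ⟨O, hO, e⟩

end Cfsg.Agent.H225.EX
end

-- part: H225/EX/E7UThree
section
/-!
# S5745, `E₇(2)`: the socle is not `U₃(3)³` (helper225)

* `sch_u33` : the Schreier property of `U₃(3)`;
* `u33_cube` : `EPS H N e`, `N ≅ U₃(3)³` : `|G| ≤ 2 ^ 105`;
* `e7q2_u33` : not in a group of order `|E₇(2)|`.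
-/

set_option autoImplicit false
set_option linter.unusedSectionVars false

namespace Cfsg.Agent.H225.EX

open Subgroup Cfsg Cfsg.Agent.H284 Cfsg.Agent.H209.EPX Cfsg.Agent.H119.EP Cfsg.Agent.H758.EPX
open Cfsg.Agent.Schreier.Basic (Sch)
open Cfsg.Agent.H273.EPU (LocK)

variable {T : Type} [Group T]

theorem u33_of {F : Type*} [Field F] [Fintype F] (hF : Fintype.card F = 3 ^ 2) (i : T ≃* PSU 3 F 3) : U33 T :=
  U33.of_equiv (i.trans (Lin.prEquiv hF).symm) (Lin.u33_su hF)

theorem card_aut_of {F : Type*} [Field F] [Fintype F] (hF : Fintype.card F = 3 ^ 2) (i : T ≃* PSU 3 F 3) :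
    Nat.card (MulAut T) = 12096 := by
  rw [Nat.card_congr (MulAut.congr i).toEquiv, Lin.card_mulAut hF]

/-- the Schreier property, outer automorphism group of order 2 -/
theorem sch_of_two [Finite T] (hs : IsSimpleGroup T) (hna : ∃ a b : T, a * b ≠ b * a)
    (hA : Nat.card (MulAut T) = 2 * Nat.card T) : Sch T := by
  intro C hC φ hφ
  have hn := Schreier.Basic.conj_range_normal T
  have hinj : Function.Injective (MulAut.conj : T →* MulAut T) := by
    rw [← MonoidHom.ker_eq_bot_iff]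
    rcases (inferInstance : (MulAut.conj : T →* MulAut T).ker.Normal).eq_bot_or_eq_top with h | h
    · exact h
    · exfalso
      obtain ⟨a, b, hab⟩ := hna
      apply hab
      have h1 : a ∈ (MulAut.conj : T →* MulAut T).ker := by rw [h]; exact mem_top _
      have h2 := DFunLike.congr_fun (MonoidHom.mem_ker.1 h1) b
      rw [MulAut.conj_apply, MulAut.one_apply, mul_inv_eq_iff_eq_mul] at h2
      exact h2
  have hr : Nat.card (MulAut.conj : T →* MulAut T).range = Nat.card T :=
    (Nat.card_congr (MonoidHom.ofInjective hinj).toEquiv).symm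
  have hq : Nat.card (MulAut T ⧸ (MulAut.conj : T →* MulAut T).range) = 2 := by
    have h1 := (MulAut.conj : T →* MulAut T).range.card_mul_index
    rw [hr, hA, mul_comm] at h1
    exact Nat.eq_of_mul_eq_mul_right Nat.card_pos h1
  have := Fact.mk Nat.prime_two
  have hcyc : IsCyclic (MulAut T ⧸ (MulAut.conj : T →* MulAut T).range) := isCyclic_of_prime_card (p := 2) hq
  have hsol : Group.IsSolvable (MulAut T ⧸ (MulAut.conj : T →* MulAut T).range) := by
    apply Group.isSolvable_of_comm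
    intro a b
    obtain ⟨g, hg⟩ := hcyc.exists_generator
    obtain ⟨i, rfl⟩ := mem_zpowers_iff.1 (hg a)
    obtain ⟨j, rfl⟩ := mem_zpowers_iff.1 (hg b)
    rw [← zpow_add, ← zpow_add, add_comm]
  have h1 := Schreier.Basic.apply_eq_one_of_perfect (QuotientGroup.mk' (MulAut.conj : T →* MulAut T).range) hC hφ
  exact (QuotientGroup.eq_one_iff φ).1 h1

theorem sch_u33 {F : Type*} [Field F] [Fintype F] (hF : Fintype.card F = 3 ^ 2) (i : T ≃* PSU 3 F 3)
    (hna : ∃ a b : T, a * b ≠ b * a) : Sch T := by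
  have hU := u33_of hF i
  have := hU.finite
  exact sch_of_two hU.simple hna (by rw [card_aut_of hF i, hU.card])

variable {G : Type} [Group G] [Finite G] {H N : Subgroup G}

/-- **the bound for `U₃(3)³`** -/
theorem u33_cube {e : N ≃* (Fin 3 → T)} (h : EPS H N e) {F : Type*} [Field F] [Fintype F]
    (hF : Fintype.card F = 3 ^ 2) (i : T ≃* PSU 3 F 3) : Nat.card G ≤ 33155593939537466196787138658304 := by
  have hU := u33_of hF i
  have hA := card_aut_of hF i
  have h1 := EPS.tk_five h (sch_u33 hF i h.nab) (by norm_num) (L := 592) (D := 1024192512) (ncard_locK hU)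
    (by rw [hU.card]; norm_num) (by rw [hU.card]; norm_num)
  have h2 := EPS.card_H_le h
  rw [hA] at h1 h2
  refine h1.trans ((Nat.mul_le_mul_left _ h2).trans ?_)
  norm_num [Nat.factorial]

/-- **`E₇(2)`, `U₃(3)³`** -/
theorem e7q2_u33 (hG : Nat.card G = 7997476042075799759100487262680802918400)
    {e : N ≃* (Fin 3 → T)} (h : EPS H N e) {F : Type*} [Field F] [Fintype F] (hF : Fintype.card F = 3 ^ 2)
    (i : T ≃* PSU 3 F 3) : False := by
  have h1 := u33_cube h hF i
  rw [hG] at h1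
  norm_num at h1

end Cfsg.Agent.H225.EX
end

private theorem dce_1640bf145fb0 : _root_.True := by
  try have : _root_.True := by simp only [_root_.Cfsg.Agent.H225.EX.dec.eq_1]
  try have : _root_.True := by simp only [_root_.Cfsg.Agent.H523.EPX.TK.chk.eq_1]
  exact _root_.True.intro
end

-- part: H523/EPX/KSeven
section
set_option linter.all false
open scoped Cfsg.Agent.FastGrp

/-!
# S5745, CrossK: `U₃(3) ^ k` in `F₄(2)` and `J₂ ^ k` in `F₄(4)`, `k ≥ 2` (helper523)

By `(Z)` with `r = 7` (`H938.EPK.zkill`): `7 |T| ≤ |C_G(x)|` for some `x` of order 7, but `|C_G(x)| ≤ 13608` in `F₄(2)` and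
`|C_G(x)| ≤ 4200000` in `F₄(4)` (hypothesis `hc`, helper938's `cent7`). The group `G` is arbitrary here.
-/

set_option autoImplicit false

namespace Cfsg.Agent.H523.EPX

open Cfsg Cfsg.Agent.H209.EPX

section

variable {G : Type*} [Group G] [Finite G] {H N : Subgroup G} {T : Type} [Group T] {k : ℕ} {e : N ≃* (Fin k → T)}

/-- **(Z)**, the form for `EPS` -/
theorem zkill_eps (_h : EPS H N e) (hk : 2 ≤ k) {r : ℕ} (hr : r.Prime) (hT : r ∣ Nat.card T) {c : ℕ}
    (hc : ∀ x : G, orderOf x = r → Nat.card (Subgroup.centralizer ({x} : Set G)) ≤ c) (hlt : c < r * Nat.card T) :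
    False :=
  Cfsg.Agent.H938.EPK.zkill e hk hr hT hc hlt

/-- `U₃(3) ^ k`, `k ≥ 2`, in `F₄(2)`: only `|T| = 6048` is used -/
theorem k_u33 (h : EPS H N e) (hk : 2 ≤ k) (hT : Nat.card T = 6048)
    (hc : ∀ x : G, orderOf x = 7 → Nat.card (Subgroup.centralizer ({x} : Set G)) ≤ 13608) : False :=
  zkill_eps h hk (r := 7) (by norm_num) (by rw [hT]; norm_num) hc (by rw [hT]; norm_num)

/-- `J₂ ^ k`, `k ≥ 2`, in `F₄(4)`: only `|T| = 604800` is used -/
theorem k_j2 (h : EPS H N e) (hk : 2 ≤ k) (hT : Nat.card T = 604800)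
    (hc : ∀ x : G, orderOf x = 7 → Nat.card (Subgroup.centralizer ({x} : Set G)) ≤ 4200000) : False :=
  zkill_eps h hk (r := 7) (by norm_num) (by rw [hT]; norm_num) hc (by rw [hT]; norm_num)

/-- `k_j2` with the name -/
theorem k_j2' (h : EPS H N e) (hk : 2 ≤ k) (hT : Spor.IsoJ2 T)
    (hc : ∀ x : G, orderOf x = 7 → Nat.card (Subgroup.centralizer ({x} : Set G)) ≤ 4200000) : False :=
  k_j2 h hk (Cfsg.Agent.NotCT.Orders.j2 hT) hc

/-- the Tits group, `k ≥ 2`, in `F₄(4)`: `13 |T| = 233625600`; only the order is used -/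
theorem k_tits (h : EPS H N e) (hk : 2 ≤ k) (hT : Nat.card T = 17971200)
    (hc : ∀ x : G, orderOf x = 13 → Nat.card (Subgroup.centralizer ({x} : Set G)) ≤ 200000000) : False :=
  zkill_eps h hk (r := 13) (by norm_num) (by rw [hT]; norm_num) hc (by rw [hT]; norm_num)

end

end Cfsg.Agent.H523.EPX
end

-- part: H938/EPK/SzSq
section
set_option linter.all false
open scoped Cfsg.Agent.FastGrp

/-!
# `Sz(q) ^ k`, `k ≥ 2`, is not contained in `E₆(q')`, `q'` odd (S5745, CrossK; helper938)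

`E = A × A`, `A` elementary abelian of order `8` with all involutions conjugate: the traces on the module of dimension
`27` are `3` or `-5`, so `27 + 7 a + 7 b + 49 c = 64 m` is impossible.
-/

set_option autoImplicit false

namespace Cfsg.Agent.H938.EPK

open Cfsg.Agent.H357.EP Cfsg.Lie

universe u v

theorem card_le_hom {T : Type*} [Group T] (h : InE6 T) {A : Type*} [Group A] [Finite A] (hA : ∀ x : A, x * x = 1)
    (f : A →* T) (hf : Function.Injective f) : Nat.card A ≤ 64 := by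
  have : Finite f.range := Finite.of_equiv _ (MonoidHom.ofInjective hf).toEquiv
  rw [Nat.card_congr (MonoidHom.ofInjective hf).toEquiv]
  refine h.card_le f.range ?_
  rintro _ ⟨x, rfl⟩
  rw [← map_mul, hA, map_one]

/-- the abstract form -/
theorem not_inE6_of {T : Type*} [Group T] {A : Type*} [Group A] [Finite A] (hA : ∀ x : A, x * x = 1)
    (h8 : Nat.card A = 8) (f : A →* T) (hf : Function.Injective f)
    (hc : ∀ a b : A, a ≠ 1 → b ≠ 1 → IsConj (f a) (f b)) : ¬ InE6 (T × T) := by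
  classical
  rintro ⟨F, i1, i2, ho, g, hg⟩
  have := Fintype.ofFinite A
  have hcA : Fintype.card A = 8 := by rw [← Nat.card_eq_fintype_card, h8]
  obtain ⟨β, h1, h2, h3, ⟨m, h4⟩, -⟩ := Cfsg.Agent.H357.EP.beta (E := A × A) ho (fun x => Prod.ext (hA x.1) (hA x.2))
    (g.comp (f.prodMap f)) (hg.comp (Function.Injective.prodMap hf hf))
  obtain ⟨a0, ha0⟩ : ∃ a : A, a ≠ 1 := by
    by_contra hcon
    push Not at hcon
    have : Subsingleton A := ⟨fun a b => by rw [hcon a, hcon b]⟩
    have h5 := Finite.card_le_one_iff_subsingleton.2 this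
    omega
  have conj : ∀ a b c d : A, IsConj (f a) (f c) → IsConj (f b) (f d) →
      β (a, b) = β (c, d) := by
    intro a b c d hac hbd
    refine h3 _ _ ?_
    obtain ⟨u, hu⟩ := isConj_iff.1 hac
    obtain ⟨v, hv⟩ := isConj_iff.1 hbd
    refine isConj_iff.2 ⟨g (u, v), ?_⟩
    change g (u, v) * g (f a, f b) * (g (u, v))⁻¹ = g (f c, f d)
    rw [← map_inv, ← map_mul, ← map_mul]
    congr 1
    exact Prod.ext hu hv
  have hs : ∑ x : A × A, β x = β 1 + 7 * β (a0, 1) + 7 * β (1, a0) + 49 * β (a0, a0) := by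
    have e1 : ∀ a : A, ∑ b : A, β (a, b) = β (a, 1) + 7 * β (a, a0) := by
      intro a
      rw [← Finset.add_sum_erase _ _ (Finset.mem_univ (1 : A))]
      congr 1
      rw [Finset.sum_congr rfl (g := fun _ => β (a, a0)) (fun b hb => conj _ _ _ _ (IsConj.refl _)
        (hc _ _ (Finset.ne_of_mem_erase hb) ha0)), Finset.sum_const, Finset.card_erase_of_mem (Finset.mem_univ _),
        Finset.card_univ, hcA]
      simp
    rw [Fintype.sum_prod_type]
    rw [Finset.sum_congr rfl fun a _ => e1 a]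
    rw [← Finset.add_sum_erase _ _ (Finset.mem_univ (1 : A))]
    have e2 : ∑ a ∈ Finset.univ.erase (1 : A), (β (a, 1) + 7 * β (a, a0)) = 7 * (β (a0, 1) + 7 * β (a0, a0)) := by
      rw [Finset.sum_congr rfl (g := fun _ => β (a0, 1) + 7 * β (a0, a0)) (fun a ha => by
        rw [conj a 1 a0 1 (hc _ _ (Finset.ne_of_mem_erase ha) ha0) (IsConj.refl _),
          conj a a0 a0 a0 (hc _ _ (Finset.ne_of_mem_erase ha) ha0) (IsConj.refl _)]),
        Finset.sum_const, Finset.card_erase_of_mem (Finset.mem_univ _), Finset.card_univ, hcA]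
      simp
    rw [e2]
    have e3 : β (1 : A × A) = β ((1 : A), (1 : A)) := rfl
    rw [e3]
    ring
  have hm : (Fintype.card (A × A) : ℤ) = 64 := by
    rw [Fintype.card_prod, hcA]; norm_num
  rw [hs, h1, hm] at h4
  have k1 := h2 (a0, 1) fun h => ha0 (Prod.ext_iff.1 h).1
  have k2 := h2 (1, a0) fun h => ha0 (Prod.ext_iff.1 h).2
  have k3 := h2 (a0, a0) fun h => ha0 (Prod.ext_iff.1 h).1
  omega

/-- the elementary abelian subgroup of order `q` of `Sz(q)` -/
def zhom {F : Type*} [Field F] {θ : F →+* F} {e : ℕ} (H : LieRecognition.SzMatrix.Good F θ e) :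
    Multiplicative F →* ↥(Lie.Sz F e) where
  toFun b := H.u 0 b.toAdd
  map_one' := H.u_zero
  map_mul' a b := by
    rw [H.u_mul]
    simp

theorem zhom_inj {F : Type*} [Field F] {θ : F →+* F} {e : ℕ} (H : LieRecognition.SzMatrix.Good F θ e) :
    Function.Injective (zhom H) := fun _ _ h => (H.u_inj h).2

/-- `Sz(q) × Sz(q)` is not contained in `E₆(q')`, `q'` odd -/
theorem not_inE6_sz_sq {T : Type*} [Group T] (hT : Lie.IsoSuzuki T) : ¬ InE6 (T × T) := by
  obtain ⟨F, i1, i2, m, hm, hF, ⟨e⟩⟩ := hT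
  have H := LieRecognition.SzMatrix.good hF
  set f : Multiplicative F →* T := e.symm.toMonoidHom.comp (zhom H) with hf
  have hfi : Function.Injective f := e.symm.injective.comp (zhom_inj H)
  have hA : ∀ x : Multiplicative F, x * x = 1 := fun x => Multiplicative.toAdd.injective (H.add_self x.toAdd)
  have hcard : Nat.card (Multiplicative F) = 2 ^ (2 * m + 1) := by
    rw [← hF, ← Nat.card_eq_fintype_card]; rfl
  by_cases h1 : m = 1
  · subst h1
    refine not_inE6_of hA (by rw [hcard]; norm_num) f hfi fun a b ha hb => ?_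
    have key : ∀ a : Multiplicative F, a ≠ 1 → IsConj (f a) (e.symm (H.u 0 1)) := by
      intro a ha
      have h2 := H147.Sz.isConj_invol H (g := zhom H a) (fun h => ha (zhom_inj H (h.trans (map_one _).symm)))
        (by rw [← map_mul, hA, map_one])
      obtain ⟨c, hc⟩ := isConj_iff.1 h2
      refine isConj_iff.2 ⟨e.symm c, ?_⟩
      rw [← hc, map_mul, map_mul, map_inv]
      rfl
    exact (key a ha).trans (key b hb).symm
  · intro h
    have h2 := card_le_hom h (A := Multiplicative F × Multiplicative F) (fun x => Prod.ext (hA x.1) (hA x.2))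
      (f.prodMap f) (Function.Injective.prodMap hfi hfi)
    rw [Nat.card_prod, hcard, ← pow_add] at h2
    have h3 : 2 ^ 10 ≤ 2 ^ (2 * m + 1 + (2 * m + 1)) := Nat.pow_le_pow_right (by norm_num) (by omega)
    omega

/-- `Sz(q) ^ k`, `k ≥ 2`, is not contained in `E₆(q')`, `q'` odd -/
theorem not_inE6_sz_pow {T : Type*} [Group T] (hT : Lie.IsoSuzuki T) {k : ℕ} (hk : 2 ≤ k) : ¬ InE6 (Fin k → T) := by
  intro h
  have h1 : InE6 (⊤ : Subgroup (Fin k → T)) := h.mono (Subgroup.subtype _) Subtype.val_injective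
  obtain ⟨f, hf, -⟩ := exists_hom2 (G := Fin k → T) (N := ⊤) (T := T) (k := k) Subgroup.topEquiv hk
  exact not_inE6_sz_sq hT (h.mono f hf)

end Cfsg.Agent.H938.EPK
end

-- part: H515/EPO/KTwoS
section
prune_inst 0x4d5203f640d0002000000859271003c46ee000192006b0801d9e20f460686ff638902af61fca01e121128a2240039004812100079c0100000200006004119008080aa72869348a10406000f80b887180c00000000000000000000000000041004000000000
set_option linter.all false
open scoped Cfsg.Agent.FastGrp

-- part: H515/EPO/KTwo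
section
/-!
# S5745, OWN characteristic: relative rank one, more than one factor (helper515)

`N ≅ Y ^ k`, `k ≥ 2`, relative rank one. A type may be `univ` in all the components but one.
-/

set_option autoImplicit false
set_option linter.unusedSectionVars false

namespace Cfsg.Agent.H515.EPO.KTwo

open Cfsg.Agent.H284 Cfsg.Agent.H209.EPX Cfsg.Agent.H737.EPO
open scoped Pointwise

/-! ### Automorphisms of `Y ^ k`, two factors -/

theorem perm2 {Y : Type*} [Group Y] [IsSimpleGroup Y] (hY : ∃ a b : Y, a * b ≠ b * a) {k : ℕ}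
    (α : (Fin k → Y) ≃* (Fin k → Y)) (i j : Fin k) :
    (∀ t, α (Pi.mulSingle i t) j = 1) ∨ ∃ φ : MulAut Y, ∀ t, α (Pi.mulSingle i t) = Pi.mulSingle j (φ t) := by
  classical
  let σ : (Fin k → Y) ≃* (Fin k → Y) :=
    { toFun := fun f l => f (Equiv.swap i j l)
      invFun := fun f l => f (Equiv.swap i j l)
      left_inv := fun f => by funext l; simp
      right_inv := fun f => by funext l; simp
      map_mul' := fun f g => rfl }
  have hσ : ∀ t : Y, σ (Pi.mulSingle j t) = Pi.mulSingle i t := by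
    intro t
    funext l
    show (Pi.mulSingle j t : Fin k → Y) (Equiv.swap i j l) = (Pi.mulSingle i t : Fin k → Y) l
    by_cases hl : l = i
    · subst hl
      rw [Equiv.swap_apply_left, Pi.mulSingle_eq_same, Pi.mulSingle_eq_same]
    · rw [Pi.mulSingle_eq_of_ne hl]
      apply Pi.mulSingle_eq_of_ne
      intro h1
      apply hl
      have h2 := congrArg (Equiv.swap i j) h1
      rwa [Equiv.swap_apply_self, Equiv.swap_apply_right] at h2
  rcases perm hY (α.trans σ) i with h1 | ⟨φ, h1⟩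
  · left
    intro t
    have h2 : α (Pi.mulSingle i t) (Equiv.swap i j i) = 1 := h1 t
    rwa [Equiv.swap_apply_left] at h2
  · right
    refine ⟨φ, fun t => ?_⟩
    have h2 : σ (α (Pi.mulSingle i t)) = Pi.mulSingle i (φ t) := h1 t
    rw [← hσ (φ t)] at h2
    exact σ.injective h2

section Prod

variable {G Y : Type*} [Group G] [Group Y] {N : Subgroup G} {k : ℕ} (e : N ≃* (Fin k → Y))

/-- the action of an element normalising `N` on the factors -/
theorem perm_sg2 [IsSimpleGroup Y] (hY : ∃ a b : Y, a * b ≠ b * a) {x : G} (hx : ∀ n : G, n ∈ N ↔ x * n * x⁻¹ ∈ N)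
    (i j : Fin k) : (∀ t, cp e (x * sg e i t * x⁻¹) j = 1) ∨
      ∃ φ : MulAut Y, ∀ t, x * sg e i t * x⁻¹ = sg e j (φ t) := by
  let c : N ≃* N :=
    { toFun := fun n => ⟨x * n * x⁻¹, (hx n).1 n.2⟩
      invFun := fun n => ⟨x⁻¹ * n * x, (hx _).2 (by
        have : x * (x⁻¹ * (n : G) * x) * x⁻¹ = n := by group
        rw [this]; exact n.2)⟩
      left_inv := fun n => Subtype.ext (by show x⁻¹ * (x * n * x⁻¹) * x = n; group)
      right_inv := fun n => Subtype.ext (by show x * (x⁻¹ * n * x) * x⁻¹ = n; group)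
      map_mul' := fun a b => Subtype.ext (by
        show x * (a * b) * x⁻¹ = (x * a * x⁻¹) * (x * b * x⁻¹)
        group) }
  have hc : ∀ n : N, (c n : G) = x * n * x⁻¹ := fun n => rfl
  rcases perm2 hY (e.symm.trans (c.trans e)) i j with h1 | ⟨φ, h1⟩
  · left
    intro t
    have h2 := h1 t
    have h3 : x * sg e i t * x⁻¹ ∈ N := (hx _).1 (sg_mem e i t)
    rw [cp_eq e h3]
    exact h2
  · right
    refine ⟨φ, fun t => ?_⟩
    have h2 : e (c (e.symm (Pi.mulSingle i t))) = Pi.mulSingle j (φ t) := h1 t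
    have h3 : c (e.symm (Pi.mulSingle i t)) = e.symm (Pi.mulSingle j (φ t)) := by
      rw [← h2, e.symm_apply_apply]
    have h4 := congrArg (fun n : N => (n : G)) h3
    exact h4

end Prod

/-! ### The point stabiliser moves the factors -/

section Main

variable {G Y : Type*} [Group G] [Finite G] [Group Y] [Finite Y] {H N M D W : Subgroup G} {k : ℕ}
  (e : N ≃* (Fin k → Y)) {p : ℕ} {I : Type*} {S : PSys Y p I}

variable [IsSimpleGroup Y] (hY : ∃ a b : Y, a * b ≠ b * a)

include hY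

theorem move (hN : MinN N H) (hM : MX H N M) (i j : Fin k) :
    ∃ m ∈ M, ∃ φ : MulAut Y, ∀ t, m * sg e i t * m⁻¹ = sg e j (φ t) := by
  by_contra hcon
  have h1 : ∀ m ∈ M, ∀ t, cp e (m * sg e i t * m⁻¹) j = 1 := by
    intro m hm
    rcases perm_sg2 e hY (x := m) (fun n => minN_iff hN (hM.le hm) n) i j with h2 | h2
    · exact h2
    · exact absurd ⟨m, hm, h2⟩ hcon
  have h2 : ∀ y ∈ H, ∀ t, cp e (y * sg e i t * y⁻¹) j = 1 := by
    intro y hy t
    obtain ⟨n, hn, m, hm, rfl⟩ := hM.fac hN hy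
    have h3 : m * sg e i t * m⁻¹ ∈ N := hN.nrm m (hM.le hm) _ (sg_mem e i t)
    have e1 : n * m * sg e i t * (n * m)⁻¹ = n * (m * sg e i t * m⁻¹) * n⁻¹ := by group
    rw [e1, cp_mul e (mul_mem hn h3) (inv_mem hn), cp_mul e hn h3, cp_inv e hn, h1 m hm t, mul_one, mul_inv_cancel]
  let L : Subgroup G :=
    { carrier := {x | x ∈ N ∧ ∀ y ∈ H, cp e (y * x * y⁻¹) j = 1}
      one_mem' := ⟨one_mem _, fun y _ => by
        have : y * 1 * y⁻¹ = 1 := by group
        rw [this, cp_one]⟩
      mul_mem' := by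
        rintro a b ⟨h1, h2⟩ ⟨h3, h4⟩
        refine ⟨mul_mem h1 h3, fun y hy => ?_⟩
        have : y * (a * b) * y⁻¹ = (y * a * y⁻¹) * (y * b * y⁻¹) := by group
        rw [this, cp_mul e (hN.nrm y hy a h1) (hN.nrm y hy b h3), h2 y hy, h4 y hy, mul_one]
      inv_mem' := by
        rintro a ⟨h1, h2⟩
        refine ⟨inv_mem h1, fun y hy => ?_⟩
        have : y * a⁻¹ * y⁻¹ = (y * a * y⁻¹)⁻¹ := by group
        rw [this, cp_inv e (hN.nrm y hy a h1), h2 y hy, inv_one] }
  have hL : NIn L H := by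
    refine ⟨fun x hx => hN.le hx.1, ?_⟩
    rintro g hg x ⟨h1, h2⟩
    refine ⟨hN.nrm g hg x h1, fun y hy => ?_⟩
    have : y * (g * x * g⁻¹) * y⁻¹ = (y * g) * x * (y * g)⁻¹ := by group
    rw [this]; exact h2 _ (mul_mem hy hg)
  obtain ⟨a, b, hab⟩ := hY
  rcases hN.min L (fun x hx => hx.1) hL with h3 | h3
  · apply hab
    have h4 : sg e i a = 1 := by
      have : sg e i a ∈ L := ⟨sg_mem e i a, fun y hy => h2 y hy a⟩
      rwa [h3, Subgroup.mem_bot] at this
    have h5 : a = 1 := by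
      have := cp_sg e i a
      rw [h4, cp_one] at this
      exact this.symm
    rw [h5, one_mul, mul_one]
  · apply hab
    have h4 : sg e j a ∈ L := by rw [h3]; exact sg_mem e j a
    have h5 := h4.2 1 (one_mem _)
    rw [one_mul, inv_one, mul_one, cp_sg] at h5
    rw [h5, one_mul, mul_one]

omit hY [IsSimpleGroup Y] in
/-- `p`-subgroups of `Y` -/
theorem sylY [Fact p.Prime] {K : Subgroup Y} (hK : IsPGroup p K) : ∃ g : Y, K ≤ cj g (S.V ∅) := by
  let Us : Sylow p Y :=
    { S.V ∅ with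
      isPGroup' := S.U_p
      is_maximal' := fun {Q} hQ hle => S.U_max Q hle hQ }
  obtain ⟨Q, hQ⟩ := hK.exists_le_sylow
  obtain ⟨g, hg⟩ := MulAction.exists_smul_eq Y Us Q
  refine ⟨g, fun x hx => ?_⟩
  have h1 : x ∈ (Q : Subgroup Y) := hQ hx
  rw [← hg] at h1
  rw [mem_cj]
  have h2 : x ∈ MulAut.conj g • (Us : Subgroup Y) := h1
  rw [Subgroup.mem_pointwise_smul_iff_inv_smul_mem] at h2
  have h3 : g⁻¹ * x * g ∈ (Us : Subgroup Y) := by
    have : (MulAut.conj g)⁻¹ • x = g⁻¹ * x * g := by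
      rw [← map_inv, MulAut.smul_def, MulAut.conj_apply, inv_inv]
    rwa [this] at h2
  exact h3

theorem fac_conj [Fact p.Prime] (hN : MinN N H) (hM : MX H N M) {J : Fin k → Set I} {i₁ : Fin k} (h1 : J i₁ = ∅)
    (hV : VV e S J ≤ M) (i : Fin k) : ∃ g : Y, cj g (S.V ∅) ≤ fac e M i := by
  obtain ⟨m, hm, φ, hφ⟩ := move e hY hN hM i₁ i
  have h2 : (S.V ∅).map φ.toMonoidHom ≤ fac e M i := by
    rintro _ ⟨t, ht, rfl⟩
    show sg e i (φ t) ∈ M
    rw [← hφ t]
    refine mul_mem (mul_mem hm (hV ((sg_mem_pk e).2 ?_))) (inv_mem hm)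
    rw [h1]
    exact ht
  obtain ⟨g, hg⟩ := sylY (S := S) (S.U_p.map φ.toMonoidHom)
  refine ⟨g, ?_⟩
  have h3 : (S.V ∅).map φ.toMonoidHom = cj g (S.V ∅) := by
    apply Subgroup.eq_of_le_of_card_ge hg
    rw [card_cj]
    exact (Subgroup.card_map_of_injective (K := S.V ∅) (f := φ.toMonoidHom) φ.injective).ge
  rw [← h3]
  exact h2

/-- the stabiliser of a vector over `V_J`, in relative rank one, `J i₁ = ∅` -/
theorem vec_stab2 [Fact p.Prime] [Nonempty I] (h : EP H) (hN : MinN N H)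
    (hrel : ∀ L : Fin k → Set I, Inv H e S L → (∀ i, L i ≠ Set.univ) → L = fun _ => ∅) {J : Fin k → Set I}
    {i₁ : Fin k} (hJ : J i₁ = ∅) (hVD : VV e S J ≤ D) (hDP : D ≤ PH H e S J) (v : VecB H (PH H e S J) D W p) {w : G}
    (hw : w ∈ W) (hwD : w ∉ D) : ∃ a ∈ PP e S J, (H ⊓ cj w H) ⊓ N = cj a (PP e S fun _ => ∅) := by
  have hM : MX H N (H ⊓ cj w H) := mx_of_two h hN ⟨w, v.notMem_H hw hwD, rfl⟩
  have hDH : D ≤ H := hDP.trans inf_le_left
  have hDw : cj w D = D := cj_eq_of_nm (v.WD w hw)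
  have hDM : D ≤ H ⊓ cj w H := by
    refine le_inf hDH ?_
    rw [← hDw]
    exact cj_mono hDH
  choose g hg using fun i => fac_conj e hY (S := S) hN hM hJ (hVD.trans hDM) i
  obtain ⟨L, n, hn, hL, hMN⟩ := KL e S hY hN hM (J := fun _ => ∅) (fun _ => Set.empty_ne_univ) (g := g) hg
  have hM' := hM.cj hN.nrm (inv_mem (hN.le hn))
  have hNn : cj n⁻¹ N = N := cj_eq_self (inv_mem hn)
  have hMN' : cj n⁻¹ (H ⊓ cj w H) ⊓ N = PP e S L := by
    have h1 : cj n⁻¹ (H ⊓ cj w H) ⊓ cj n⁻¹ N = PP e S L := by rw [← cj_inf, hMN, cj_inv_cj]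
    rwa [hNn] at h1
  obtain ⟨L', hL'1, hL'2, hL'3, -, -⟩ := std e S hY hN hM' (by
    refine (VV_le_PP' e S _ L).trans ?_
    rw [← hMN']
    exact inf_le_left)
  have hLL : L = L' := PP_inj e S (hMN'.symm.trans hL'2)
  have hL0 : L = fun _ => ∅ := by
    rw [hLL]
    exact hrel L' hL'3 hL'1
  rw [hL0] at hMN
  have hVJ : VV e S J ≤ cj n (PP e S fun _ => ∅) := by
    rw [← hMN]
    exact le_inf (hVD.trans hDM) (VV_le e S J)
  obtain ⟨a, ha, b, hb, rfl⟩ := PP_dec e S hn hVJ
  refine ⟨a, ha, ?_⟩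
  rw [hMN, cj_mul, cj_eq_self hb]

/-- **relative rank one**, more than one factor -/
theorem rel_one2 [Fact p.Prime] (hS : Rk S) (h : EP H) (hN : MinN N H)
    (hrel : ∀ L : Fin k → Set I, Inv H e S L → (∀ i, L i ≠ Set.univ) → L = fun _ => ∅) {i₀ i₁ : Fin k} {j₀ : I}
    (hi : i₁ ≠ i₀) (hDQ : DQ H e S (sgl i₀ j₀)) :
    p = 2 ∧ (S.V {j₀}).relIndex (S.V ∅) = 2 := by
  classical
  have : Nonempty I := ⟨j₀⟩
  obtain ⟨D, Q, hVD, hDP, hDp, hDn, hQp, hQn, hDQ', hQH, hQD⟩ := hDQ
  obtain ⟨W, -, hWD, v⟩ := exists_vecB (Fact.out : p.Prime) hDn hQp hQn hDQ' hQH hQD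
  have hPH : PH H e S (sgl i₀ j₀) ≤ H := inf_le_left
  set P := PH H e S (sgl i₀ j₀) with hPdef
  set A := PP e S (sgl i₀ j₀) with hAdef
  set B := PP e S (fun _ => ∅) with hBdef
  have hAP : A ≤ P := PP_le_PH e S hN.le _
  have hAN : A ≤ N := PP_le e S _
  have hBA : B ≤ A := (PP_le_iff e S).2 fun _ => Set.empty_subset _
  have hst : ∀ w ∈ W, w ∉ D → ∃ a ∈ A, (H ⊓ cj w H) ⊓ N = cj a B := fun w hw hwD =>
    vec_stab2 e hY h hN hrel (sgl_ne hi j₀) hVD hDP v hw hwD
  have hcjA : ∀ a ∈ A, cj a B ≤ A := by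
    intro a ha
    rw [← cj_eq_self ha]
    exact cj_mono hBA
  -- fixed vectors of chambers
  have hfix : ∀ a ∈ A, ∀ w : W, v.vec w ∈ v.fix hDn (cj a B) ↔ cj a B ≤ cj (w : G) H := by
    intro a ha w
    rw [v.vec_mem_fix hDn hPH, inf_eq_left.2 ((hcjA a ha).trans hAP)]
  have hstab : ∀ a ∈ A, ∀ w : W, (w : G) ∉ D → (v.vec w ∈ v.fix hDn (cj a B) ↔ (H ⊓ cj (w : G) H) ⊓ N = cj a B) := by
    intro a ha w hwD
    rw [hfix a ha w]
    constructor
    · intro h1
      obtain ⟨b, hb, hbw⟩ := hst w w.2 hwD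
      have h2 : cj a B ≤ cj b B := by
        rw [← hbw]
        exact le_inf (le_inf (((hcjA a ha).trans hAN).trans hN.le) h1) ((hcjA a ha).trans hAN)
      rw [hbw]
      symm
      apply Subgroup.eq_of_le_of_card_ge h2
      rw [card_cj, card_cj]
    · intro h1
      rw [← h1]
      exact inf_le_left.trans inf_le_right
  have hcong : ∀ a ∈ A, ∀ b ∈ A, a⁻¹ * b ∈ B → cj a B = cj b B := by
    intro a _ b _ h1
    have e1 : b = a * (a⁻¹ * b) := by group
    rw [e1, cj_mul, cj_eq_self h1]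
  have hinj : ∀ a ∈ A, ∀ b ∈ A, cj a B = cj b B → a⁻¹ * b ∈ B := by
    intro a ha b hb h1
    apply norm_PP e S (mul_mem (inv_mem (hAN ha)) (hAN hb))
    rw [cj_mul, ← hBdef, ← h1, cj_inv_cj]
  let V : (A ⧸ B.subgroupOf A) → Subgroup v.Vec := fun q => v.fix hDn (cj (q.out : G) B)
  have hmk : ∀ g : A, V (QuotientGroup.mk g) = v.fix hDn (cj (g : G) B) := by
    intro g
    show v.fix hDn (cj (((QuotientGroup.mk g : A ⧸ B.subgroupOf A).out : A) : G) B) = _
    have h2 : (QuotientGroup.mk (QuotientGroup.mk g : A ⧸ B.subgroupOf A).out : A ⧸ B.subgroupOf A) =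
        QuotientGroup.mk g := QuotientGroup.out_eq' _
    have h3 := QuotientGroup.eq.1 h2
    rw [hcong _ (Subtype.property _) _ g.2 h3]
  obtain ⟨a, ha, hidx⟩ := p_index (p := p) (VV_isPGroup e S _) (VV_le_VV e S (sgl i₀ j₀)) (by
    intro e1
    apply hS.ne j₀
    apply le_antisymm (S.V_le_U _)
    intro t ht
    have h1 : sg e i₀ t ∈ VV e S (sgl i₀ j₀) := by
      rw [e1]; exact (sg_mem_pk e).2 ht
    have h2 := (sg_mem_pk e).1 h1
    rwa [sgl_same] at h2)
  have hact : ∀ g : A, (g : G) ∈ P := fun g => hAP g.2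
  let ρ : A →* MulAut v.Vec := (v.act hDn).comp (Subgroup.inclusion hAP)
  have hρ : ∀ (g : A) (x : v.Vec), ρ g x = v.act hDn ⟨g, hAP g.2⟩ x := fun _ _ => rfl
  -- a vector
  obtain ⟨w₀, hw₀, hw₀D⟩ : ∃ w ∈ W, w ∉ D := by
    by_contra hcon
    push Not at hcon
    exact hWD (le_antisymm hcon v.DW)
  obtain ⟨a₀, ha₀, ha₀w⟩ := hst w₀ hw₀ hw₀D
  have hoe : ∀ (x y : A ⧸ B.subgroupOf A), ((x.out : A) : G)⁻¹ * (y.out : A) ∈ B → x = y := by
    intro x y h4
    have h5 : (QuotientGroup.mk x.out : A ⧸ B.subgroupOf A) = QuotientGroup.mk y.out := QuotientGroup.eq.2 h4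
    rwa [QuotientGroup.out_eq', QuotientGroup.out_eq'] at h5
  have hsm : ∀ (g : A) (x y : A ⧸ B.subgroupOf A), ((y.out : A) : G)⁻¹ * ((g : G) * (x.out : A)) ∈ B →
      g • x = y := by
    intro g x y h4
    have h5 : (QuotientGroup.mk y.out : A ⧸ B.subgroupOf A) = QuotientGroup.mk (g * x.out) := QuotientGroup.eq.2 h4
    rw [QuotientGroup.out_eq'] at h5
    have h6 : g • (QuotientGroup.mk x.out : A ⧸ B.subgroupOf A) = y := h5.symm
    rwa [QuotientGroup.out_eq'] at h6
  have key := Cfsg.Agent.H470.EPO.panel (p := p) (a := a) ρ (MulAction.toPermHom A (A ⧸ B.subgroupOf A)) V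
    (fun x => v.pow_eq_one x) ha (by
      have h1 := PP_index e hS i₀ j₀
      rw [hidx] at h1
      rw [add_comm, ← h1]
      rfl) ?_ ?_ ?_ ?_ ?_ ?_
  · obtain ⟨h1, h2, -, -⟩ := key
    refine ⟨h1, ?_⟩
    rw [← VV_index e i₀ j₀, hidx, h2, pow_one]
    exact h1
  · intro g q x hx
    have e1 : (MulAction.toPermHom A (A ⧸ B.subgroupOf A)) g q = QuotientGroup.mk (g * q.out) := by
      show g • q = _
      conv_lhs => rw [← q.out_eq']
      rfl
    rw [e1, hmk, hρ]
    have h1 := (v.act_mem_fix hDn (⟨g, hAP g.2⟩ : P)).2 hx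
    have h2 : cj ((⟨g, hAP g.2⟩ : P) : G) (cj (q.out : G) B) = cj ((g * q.out : A) : G) B := by
      rw [Subgroup.coe_mul, cj_mul]
    rw [h2] at h1
    exact h1
  · intro g q x hgq hx
    rw [hρ]
    apply hx
    show (g : G) ∈ cj (q.out : G) B
    have h2 : g • q = q := hgq
    have h3 : (QuotientGroup.mk (g * q.out) : A ⧸ B.subgroupOf A) = QuotientGroup.mk q.out := by
      have h5 : g • (QuotientGroup.mk q.out : A ⧸ B.subgroupOf A) = QuotientGroup.mk q.out := by
        rw [QuotientGroup.out_eq']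
        exact h2
      exact h5
    have h6 := QuotientGroup.eq.1 h3.symm
    have h4 : ((q.out : A) : G)⁻¹ * ((g * q.out : A) : G) ∈ B := h6
    rw [mem_cj]
    rw [Subgroup.coe_mul, ← mul_assoc] at h4
    exact h4
  · intro x
    obtain ⟨w, rfl⟩ := v.vec_surjective x
    by_cases hwD : (w : G) ∈ D
    · refine ⟨QuotientGroup.mk 1, ?_⟩
      rw [(v.vec_eq_one).2 hwD]
      exact one_mem _
    · obtain ⟨b, hb, hbw⟩ := hst w w.2 hwD
      refine ⟨QuotientGroup.mk ⟨b, hb⟩, ?_⟩
      rw [hmk]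
      exact (hstab b hb w hwD).2 hbw
  · intro q q' x hqq h1 h2
    obtain ⟨w, rfl⟩ := v.vec_surjective x
    by_contra h3
    have hwD := (v.vec_coe_ne_one).1 h3
    have h4 := (hstab _ q.out.2 w hwD).1 h1
    have h5 := (hstab _ q'.out.2 w hwD).1 h2
    exact hqq (hoe _ _ (hinj _ q.out.2 _ q'.out.2 (h4.symm.trans h5)))
  · intro q
    have hx : v.vec ⟨w₀, hw₀⟩ ∈ v.fix hDn (cj a₀ B) := (hstab a₀ ha₀ ⟨w₀, hw₀⟩ hw₀D).2 ha₀w
    have hg : (q.out : G) * a₀⁻¹ ∈ P := hAP (mul_mem q.out.2 (inv_mem ha₀))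
    refine ⟨v.act hDn ⟨(q.out : G) * a₀⁻¹, hg⟩ (v.vec ⟨w₀, hw₀⟩), ?_, ?_⟩
    · have h1 := (v.act_mem_fix hDn (⟨(q.out : G) * a₀⁻¹, hg⟩ : P)).2 hx
      have h2 : cj ((⟨(q.out : G) * a₀⁻¹, hg⟩ : P) : G) (cj a₀ B) = cj (q.out : G) B := by
        rw [← cj_mul, inv_mul_cancel_right]
      rw [h2] at h1
      exact h1
    · intro h1
      rw [map_eq_one_iff _ (MulEquiv.injective _)] at h1
      exact hw₀D ((v.vec_eq_one).1 h1)
  · intro q d d' hd hd'
    have h1 : (q.out : G)⁻¹ * (d.out : G) ∉ B := fun h4 => hd (hoe _ _ h4).symm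
    have h2 : (q.out : G)⁻¹ * (d'.out : G) ∉ B := fun h4 => hd' (hoe _ _ h4).symm
    obtain ⟨u, hu, hm⟩ := PP_trans e hS (A.mul_mem (A.inv_mem q.out.2) d.out.2) h1
      (A.mul_mem (A.inv_mem q.out.2) d'.out.2) h2
    have huA : u ∈ A := VV_le_PP' e S _ _ hu
    have huB : u ∈ B := VV_le_PP e S _ hu
    refine ⟨q.out * ⟨u, huA⟩ * q.out⁻¹, hsm _ _ _ ?_, hsm _ _ _ ?_⟩
    · show ((q.out : A) : G)⁻¹ * ((q.out : A) * u * ((q.out : A) : G)⁻¹ * (q.out : A)) ∈ B
      have e1 : ((q.out : A) : G)⁻¹ * ((q.out : A) * u * ((q.out : A) : G)⁻¹ * (q.out : A)) = u := by group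
      rw [e1]
      exact huB
    · show ((d'.out : A) : G)⁻¹ * ((q.out : A) * u * ((q.out : A) : G)⁻¹ * (d.out : A)) ∈ B
      have e1 : ((d'.out : A) : G)⁻¹ * ((q.out : A) * u * ((q.out : A) : G)⁻¹ * (d.out : A)) =
          (((q.out : A) : G)⁻¹ * (d'.out : A))⁻¹ * u * (((q.out : A) : G)⁻¹ * (d.out : A)) := by group
      rw [e1]
      exact hm

/-- **COUNT** of the vectors fixed by `V_{J'}`, `J' ⊆ J` -/
theorem card_fix2 [Fact p.Prime] [Nonempty I] (h : EP H) (hN : MinN N H)
    (hrel : ∀ L : Fin k → Set I, Inv H e S L → (∀ i, L i ≠ Set.univ) → L = fun _ => ∅) {J J' : Fin k → Set I}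
    {i₁ : Fin k} (hJ : J i₁ = ∅) (hJJ : ∀ i, J' i ⊆ J i) (hVD : VV e S J ≤ D) (hDP : D ≤ PH H e S J)
    (hDn : ∀ g ∈ PH H e S J, ∀ d ∈ D, g * d * g⁻¹ ∈ D) (v : VecB H (PH H e S J) D W p) :
    Nat.card (v.fix hDn (VV e S J')) = 1 + (PP e S fun _ => ∅).relIndex (PP e S J') *
      (Nat.card (v.fix hDn (PP e S fun _ => ∅)) - 1) := by
  classical
  set P := PH H e S J with hPdef
  set Z := PP e S J with hZdef
  set A := PP e S J' with hAdef
  set B := PP e S (fun _ => ∅) with hBdef
  have hPH : P ≤ H := inf_le_left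
  have hZP : Z ≤ P := PP_le_PH e S hN.le _
  have hAZ : A ≤ Z := (PP_le_iff e S).2 hJJ
  have hAN : A ≤ N := PP_le e S _
  have hBA : B ≤ A := (PP_le_iff e S).2 fun _ => Set.empty_subset _
  have hst : ∀ w ∈ W, w ∉ D → ∃ a ∈ Z, (H ⊓ cj w H) ⊓ N = cj a B := fun w hw hwD =>
    vec_stab2 e hY h hN hrel hJ hVD hDP v hw hwD
  have hcjA : ∀ a ∈ A, cj a B ≤ A := by
    intro a ha
    rw [← cj_eq_self ha]
    exact cj_mono hBA
  have hVA : ∀ a ∈ A, VV e S J' ≤ cj a B := by
    intro a ha
    have h1 : cj a (VV e S J') = VV e S J' := cj_eq_of_nm fun x hx => PP_nm e S ha hx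
    rw [← h1]
    exact cj_mono (VV_le_PP' e S _ _)
  have hVP : VV e S J' ≤ P := (VV_le_PP e S J').trans (hAZ.trans hZP)
  have hstab : ∀ a ∈ A, ∀ w : W, (w : G) ∉ D → v.vec w ∈ v.fix hDn (cj a B) → (H ⊓ cj (w : G) H) ⊓ N = cj a B := by
    intro a ha w hwD h1
    have h1' : cj a B ≤ cj (w : G) H := by
      have := (v.vec_mem_fix hDn hPH).1 h1
      rwa [inf_eq_left.2 (((hcjA a ha).trans hAZ).trans hZP)] at this
    obtain ⟨b, hb, hbw⟩ := hst w w.2 hwD
    have h2 : cj a B ≤ cj b B := by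
      rw [← hbw]
      exact le_inf (le_inf ((((hcjA a ha).trans hAN)).trans hN.le) h1') ((hcjA a ha).trans hAN)
    rw [hbw]
    symm
    apply Subgroup.eq_of_le_of_card_ge h2
    rw [card_cj, card_cj]
  have hinj : ∀ a ∈ A, ∀ b ∈ A, cj a B = cj b B → a⁻¹ * b ∈ B := by
    intro a ha b hb h1
    apply norm_PP e S (mul_mem (inv_mem (hAN ha)) (hAN hb))
    rw [cj_mul, ← hBdef, ← h1, cj_inv_cj]
  have hcd : ∀ X : Subgroup v.Vec, Nat.card X - 1 = Nat.card {x : v.Vec // x ∈ X ∧ x ≠ 1} := by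
    intro X
    have e1 : Nat.card X = Set.ncard (X : Set v.Vec) := rfl
    have e3 : Nat.card {x : v.Vec // x ∈ X ∧ x ≠ 1} = Set.ncard ((X : Set v.Vec) \ {1}) := rfl
    rw [e1, e3, Set.ncard_sdiff (Set.singleton_subset_iff.2 (one_mem X)) (Set.toFinite _), Set.ncard_singleton]
  have hpos : 0 < Nat.card (v.fix hDn (VV e S J')) := Nat.card_pos
  have key : Nat.card (v.fix hDn (VV e S J')) - 1 = B.relIndex A * (Nat.card (v.fix hDn B) - 1) := by
    rw [hcd, hcd, Subgroup.relIndex, Subgroup.index, ← Nat.card_prod]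
    symm
    have hmem : ∀ (a : A) (x : v.Vec), x ∈ v.fix hDn B →
        v.act hDn ⟨a, hZP (hAZ a.2)⟩ x ∈ v.fix hDn (cj (a : G) B) := fun a x hx =>
      (v.act_mem_fix hDn (⟨a, hZP (hAZ a.2)⟩ : P)).2 hx
    have hne : ∀ (a : A) (x : v.Vec), x ≠ 1 → v.act hDn ⟨a, hZP (hAZ a.2)⟩ x ≠ 1 := by
      intro a x hx e1
      exact hx ((v.act hDn ⟨a, hZP (hAZ a.2)⟩).injective (by rw [e1, map_one]))
    apply Nat.card_congr
    refine Equiv.ofBijective (fun y => ⟨v.act hDn ⟨y.1.out, hZP (hAZ y.1.out.2)⟩ y.2.1, ?_, ?_⟩) ⟨?_, ?_⟩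
    · exact v.fix_anti hDn (hVA _ y.1.out.2) (hmem y.1.out y.2.1 y.2.2.1)
    · exact hne _ _ y.2.2.2
    · rintro ⟨q, ⟨x, hx, hx1⟩⟩ ⟨q', ⟨x', hx', hx1'⟩⟩ he
      have e1 : v.act hDn ⟨q.out, hZP (hAZ q.out.2)⟩ x = v.act hDn ⟨q'.out, hZP (hAZ q'.out.2)⟩ x' :=
        Subtype.ext_iff.1 he
      have h1 : q = q' := by
        obtain ⟨w, hw⟩ := v.vec_surjective (v.act hDn ⟨q.out, hZP (hAZ q.out.2)⟩ x)
        have hwD : (w : G) ∉ D := by
          rw [← v.vec_coe_ne_one, hw]
          exact hne _ _ hx1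
        have h2 := hstab q.out q.out.2 w hwD (by rw [hw]; exact hmem _ _ hx)
        have h3 := hstab q'.out q'.out.2 w hwD (by rw [hw, e1]; exact hmem _ _ hx')
        have h4 := hinj _ q.out.2 _ q'.out.2 (h2.symm.trans h3)
        rw [← q.out_eq', ← q'.out_eq']
        exact QuotientGroup.eq.2 h4
      subst h1
      have h6 := (v.act hDn _).injective e1
      subst h6
      rfl
    · rintro ⟨x, hx, hx1⟩
      obtain ⟨w, rfl⟩ := v.vec_surjective x
      have hwD : (w : G) ∉ D := v.vec_coe_ne_one.1 hx1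
      obtain ⟨a, ha, haw⟩ := hst w w.2 hwD
      have h1 : VV e S J' ≤ cj a B := by
        rw [← haw]
        refine le_inf (le_inf (hVP.trans hPH) ?_) (VV_le e S _)
        have := (v.vec_mem_fix hDn hPH).1 hx
        rwa [inf_eq_left.2 hVP] at this
      obtain ⟨a', ha', b, hb, rfl⟩ := PP_dec e S (PP_le e S _ ha) h1
      have h2 : (H ⊓ cj (w : G) H) ⊓ N = cj a' B := by rw [haw, cj_mul, cj_eq_self hb]
      let q : A ⧸ B.subgroupOf A := QuotientGroup.mk (⟨a', ha'⟩ : A)
      have h3 : ((q.out : A) : G)⁻¹ * a' ∈ B := by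
        have h4 : (QuotientGroup.mk q.out : A ⧸ B.subgroupOf A) = QuotientGroup.mk (⟨a', ha'⟩ : A) :=
          QuotientGroup.out_eq' _
        have h5 := QuotientGroup.eq.1 h4
        exact h5
      have h4 : cj (q.out : G) B = cj a' B := by
        have e1 : a' = (q.out : G) * ((q.out : G)⁻¹ * a') := by group
        conv_rhs => rw [e1, cj_mul, cj_eq_self h3]
      have h5 : v.vec w ∈ v.fix hDn (cj (q.out : G) B) := by
        rw [v.vec_mem_fix hDn hPH, h4, ← h2]
        exact inf_le_left.trans (inf_le_left.trans inf_le_right)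
      refine ⟨⟨q, ⟨(v.act hDn ⟨q.out, hZP (hAZ q.out.2)⟩).symm (v.vec w), ?_, ?_⟩⟩, ?_⟩
      · apply (v.act_mem_fix (S := B) hDn (⟨q.out, hZP (hAZ q.out.2)⟩ : P)
          (x := (v.act hDn ⟨q.out, hZP (hAZ q.out.2)⟩).symm (v.vec w))).1
        rw [MulEquiv.apply_symm_apply]
        exact h5
      · intro e1
        apply hx1
        have e2 := congrArg (v.act hDn ⟨q.out, hZP (hAZ q.out.2)⟩) e1
        rwa [MulEquiv.apply_symm_apply, map_one] at e2
      · apply Subtype.ext
        exact MulEquiv.apply_symm_apply _ _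
  omega

omit hY [IsSimpleGroup Y] in
/-- the chambers of a type in one component -/
theorem PP_index_comp {i : Fin k} {J : Fin k → Set I} (hJ : ∀ i', i' ≠ i → J i' = ∅) :
    (PP e S fun _ => ∅).relIndex (PP e S J) = (S.P ∅).relIndex (S.P (J i)) := by
  let f : N →* Y := (Pi.evalMonoidHom (fun _ => Y) i).comp e.toMonoidHom
  have hf : ∀ x : N, f x = cp e (x : G) i := fun x => by rw [cp_eq e x.2]; rfl
  have h1 : ((PP e S J).subgroupOf N).map f = S.P (J i) := by
    apply le_antisymm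
    · rintro _ ⟨x, hx, rfl⟩
      rw [hf]
      exact ((mem_pk e).1 hx).2 i
    · intro t ht
      refine ⟨⟨sg e i t, sg_mem e i t⟩, (sg_mem_pk e).2 ht, ?_⟩
      rw [hf, cp_sg]
  have h2 := Subgroup.relIndex_comap (S.P ∅) f ((PP e S J).subgroupOf N)
  rw [h1] at h2
  rw [← h2]
  have h3 : ∀ A B : Subgroup G, B ≤ N → (A.subgroupOf N).relIndex (B.subgroupOf N) = A.relIndex B := by
    intro A B hB
    rw [Subgroup.relIndex_subgroupOf hB]
  rw [← h3 _ _ (PP_le e S _)]
  have h4 : ∀ A A' B : Subgroup N, A ⊓ B = A' ⊓ B → A.relIndex B = A'.relIndex B := by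
    intro A A' B h
    rw [← Subgroup.inf_relIndex_right A, h, Subgroup.inf_relIndex_right]
  apply h4
  ext x
  constructor
  · rintro ⟨h5, h6⟩
    refine ⟨?_, h6⟩
    show f x ∈ S.P ∅
    rw [hf]
    exact ((mem_pk e).1 h5).2 i
  · rintro ⟨h5, h6⟩
    have h5' : f x ∈ S.P ∅ := h5
    rw [hf] at h5'
    refine ⟨(mem_pk e).2 ⟨x.2, fun i' => ?_⟩, h6⟩
    by_cases hi' : i' = i
    · subst hi'
      exact h5'
    · have := ((mem_pk e).1 h6).2 i'
      rwa [hJ i' hi'] at this

/-- the whole component `i` -/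
def col (i : Fin k) : Fin k → Set I := fun i' => {_j | i' = i}

omit hY [IsSimpleGroup Y] [Finite G] [Finite Y] in
theorem col_same {i : Fin k} : (col i : Fin k → Set I) i = Set.univ := by
  ext x; simp [col]

omit hY [IsSimpleGroup Y] [Finite G] [Finite Y] in
theorem col_ne {i i' : Fin k} (h : i' ≠ i) : (col i : Fin k → Set I) i' = ∅ := by
  ext x; simp [col, h]

omit hY [IsSimpleGroup Y] in
include e in
/-- the chambers of a panel -/
theorem P_index (hS : Rk S) (i : Fin k) (j : I) :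
    (S.P ∅).relIndex (S.P {j}) = 1 + (S.V {j}).relIndex (S.V ∅) := by
  rw [← VV_index e i j, ← PP_index e hS i j, PP_index_comp e (i := i) (fun i' hi' => sgl_ne hi' j), sgl_same]

/-- **relative rank one, more than one factor**: `p = 2`, all the panels have three chambers, and the number of
chambers is a power of two minus one -/
theorem two_factors [Fact p.Prime] [Nonempty I] (hS : Rk S) (h : EP H) (hN : MinN N H)
    (hrel : ∀ L : Fin k → Set I, Inv H e S L → (∀ i, L i ≠ Set.univ) → L = fun _ => ∅) {i₀ i₁ : Fin k}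
    (hi : i₁ ≠ i₀) (hDQ : ∀ J : Fin k → Set I, VV e S J ≠ ⊥ → DQ H e S J) :
    p = 2 ∧ (∀ j : I, (S.V {j}).relIndex (S.V ∅) = 2) ∧ ∃ s, 1 + (S.P ∅).index = 2 ^ s := by
  classical
  have h1 : ∀ j : I, p = 2 ∧ (S.V {j}).relIndex (S.V ∅) = 2 := fun j =>
    rel_one2 e hY hS h hN hrel hi (hDQ _ (VV_ne_bot e (i := i₁) (by rw [sgl_ne hi]; exact Set.empty_ne_univ)))
  obtain ⟨j₀⟩ : Nonempty I := inferInstance
  have hp := (h1 j₀).1
  refine ⟨hp, fun j => (h1 j).2, ?_⟩
  set J : Fin k → Set I := col i₀ with hJdef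
  have hJ1 : J i₁ = ∅ := col_ne hi
  obtain ⟨D, Q, hVD, hDP, hDp, hDn, hQp, hQn, hDQ', hQH, hQD⟩ := hDQ J (VV_ne_bot e (i := i₁) (by
    rw [hJ1]; exact Set.empty_ne_univ))
  obtain ⟨W, -, hWD, v⟩ := exists_vecB (Fact.out : p.Prime) hDn hQp hQn hDQ' hQH hQD
  have hcount : ∀ J' : Fin k → Set I, (∀ i, J' i ⊆ J i) → Nat.card (v.fix hDn (VV e S J')) =
      1 + (PP e S fun _ => ∅).relIndex (PP e S J') * (Nat.card (v.fix hDn (PP e S fun _ => ∅)) - 1) := fun J' hJ' =>
    card_fix2 e hY h hN hrel hJ1 hJ' hVD hDP hDn v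
  have hpow : ∀ X : Subgroup v.Vec, ∃ s, Nat.card X = 2 ^ s := by
    intro X
    obtain ⟨s, hs⟩ := IsPGroup.iff_card.1 (v.isPGroup.to_subgroup X)
    exact ⟨s, by rw [hs, hp]⟩
  -- `c = 2`
  have hc : Nat.card (v.fix hDn (PP e S fun _ => ∅)) = 2 := by
    have h2 := hcount (sgl i₀ j₀) (sgl_le_iff.2 (by rw [hJdef, col_same]; trivial))
    rw [PP_index e hS i₀ j₀, VV_index, (h1 j₀).2] at h2
    obtain ⟨s, hs⟩ := hpow (v.fix hDn (VV e S (sgl i₀ j₀)))
    obtain ⟨a, ha⟩ := hpow (v.fix hDn (PP e S fun _ => ∅))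
    have hne : Nat.card (v.fix hDn (PP e S fun _ => ∅)) ≠ 1 := by
      intro h3
      -- then `V = 1`
      have h4 := hcount J (fun _ => le_rfl)
      rw [h3, Nat.sub_self, Nat.mul_zero, Nat.add_zero] at h4
      have h5 : v.fix hDn (VV e S J) = ⊥ := Subgroup.card_eq_one.1 h4
      apply hWD
      refine le_antisymm (fun w hw => ?_) v.DW
      rw [← v.vec_eq_one (w := ⟨w, hw⟩), ← Subgroup.mem_bot, ← h5, v.vec_mem_fix hDn (inf_le_left : PH H e S J ≤ H)]
      intro x hx
      show x ∈ cj w H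
      have h6 := v.WD w⁻¹ (inv_mem hw) x (hVD hx.1)
      rw [inv_inv] at h6
      rw [mem_cj]
      exact (hDP.trans inf_le_left) h6
    rw [hs, ha] at h2
    rw [ha] at hne ⊢
    match a, hne, h2 with
    | 0, hne, _ => exact absurd rfl hne
    | 1, _, _ => rfl
    | a + 2, _, h2 =>
      exfalso
      have h5 : 2 ^ (a + 2) = 4 * 2 ^ a := by rw [pow_add]; ring
      have h6 : 0 < 2 ^ a := by positivity
      match s, h2 with
      | 0, h2 => rw [pow_zero] at h2; omega
      | 1, h2 => rw [pow_one] at h2; omega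
      | s + 2, h2 =>
        have h7 : 2 ^ (s + 2) = 4 * 2 ^ s := by rw [pow_add]; ring
        omega
  have h2 := hcount J (fun _ => le_rfl)
  have hJ0 : J i₀ = Set.univ := col_same
  have hJi : ∀ i', i' ≠ i₀ → J i' = ∅ := fun i' hi' => col_ne hi'
  rw [hc, PP_index_comp e (i := i₀) hJi, hJ0, S.P_univ, Subgroup.relIndex_top_right] at h2
  obtain ⟨s, hs⟩ := hpow (v.fix hDn (VV e S J))
  exact ⟨s, by rw [← hs, h2]; omega⟩

/-- **more than one factor** -/
theorem k_eq_one [Fact p.Prime] [Nonempty I] {R : Subgroup G} (hS : Rk S) (h : EP H) (hN : MinN N H) (hk : 0 < k)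
    (hR : SylIn H R p) (hRN : R ⊓ N = VV e S fun _ => ∅) (hDQ : ∀ J : Fin k → Set I, VV e S J ≠ ⊥ → DQ H e S J)
    (hne : p = 2 → (∀ j : I, (S.V {j}).relIndex (S.V ∅) = 2) → ∀ s, 1 + (S.P ∅).index ≠ 2 ^ s) : k = 1 := by
  by_contra hk1
  by_cases hrel : ∀ L : Fin k → Set I, Inv H e S L → (∀ i, L i ≠ Set.univ) → L = fun _ => ∅
  · obtain ⟨h1, h2, s, h3⟩ := two_factors e hY hS h hN hrel (i₀ := ⟨0, hk⟩) (i₁ := ⟨1, by omega⟩)
      (by rw [Ne, Fin.mk.injEq]; omega) hDQ
    exact hne h1 h2 s h3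
  · push Not at hrel
    obtain ⟨L, hL, hL1, hL0⟩ := hrel
    obtain ⟨i₀, h0⟩ : ∃ i, L i ≠ ∅ := by
      by_contra hcon
      push Not at hcon
      exact hL0 (funext hcon)
    obtain ⟨-, h1, -⟩ := own_B e hY hS h hN hR hRN hDQ hL h0 (hL1 i₀)
    exact hk1 h1

end Main

end Cfsg.Agent.H515.EPO.KTwo
end

-- part: H515/EPO/KTwoS
section
/-!
# S5745, OWN characteristic: there is only one factor (helper515)

* `k_eq_one_S` : `EPS`-form, any parabolic system;
* `k_eq_one_R1` : `T` of rank one (`PSL₂`, `PSU₃`, `Sz`, `²G₂`): `k = 1`.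
-/

set_option autoImplicit false
set_option linter.unusedSectionVars false

namespace Cfsg.Agent.H515.EPO.KTwo

open Cfsg.Agent.H284 Cfsg.Agent.H209.EPX Cfsg.Agent.H737.EPO Cfsg.Agent.H470.EPO Cfsg.Agent.KFacts.RgdFilt

/-- a nonabelian simple group has no subgroup of index three -/
theorem index_ne_three {T : Type*} [Group T] [Finite T] [IsSimpleGroup T] (hT : ∃ a b : T, a * b ≠ b * a)
    (B : Subgroup T) : B.index ≠ 3 := by
  intro h3
  have hB : B ≠ ⊤ := by
    rintro rfl
    rw [Subgroup.index_top] at h3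
    omega
  have hcore : B.normalCore = ⊥ := by
    rcases (inferInstance : B.normalCore.Normal).eq_bot_or_eq_top with h1 | h1
    · exact h1
    · exact absurd (top_le_iff.1 (h1 ▸ B.normalCore_le)) hB
  have hinj : Function.Injective (MulAction.toPermHom T (T ⧸ B)) := by
    rw [← MonoidHom.ker_eq_bot_iff, ← Subgroup.normalCore_eq_ker]
    exact hcore
  have h4 : Nat.card T ∣ Nat.card (Equiv.Perm (T ⧸ B)) := Subgroup.card_dvd_of_injective _ hinj
  have h5 : Nat.card (Equiv.Perm (T ⧸ B)) = 6 := by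
    rw [Nat.card_perm]
    have : Nat.card (T ⧸ B) = 3 := h3
    rw [this]
    rfl
  rw [h5] at h4
  have h60 : Squarefree 6 := by
    rw [show 6 = 2 * 3 from rfl, Nat.squarefree_mul (by norm_num)]
    exact ⟨Nat.prime_two.squarefree, Nat.prime_three.squarefree⟩
  have h6 : Squarefree (Nat.card T) := Squarefree.squarefree_of_dvd h4 h60
  have h7 : IsZGroup T := IsZGroup.of_squarefree h6
  have h8 : commutator T < ⊤ := IsZGroup.commutator_lt T
  have h9 : commutator T = ⊥ := by
    rcases (inferInstance : (commutator T).Normal).eq_bot_or_eq_top with h1 | h1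
    · exact h1
    · exact absurd h1 h8.ne
  obtain ⟨a, b, hab⟩ := hT
  apply hab
  have h10 : a * b * a⁻¹ * b⁻¹ ∈ commutator T :=
    Subgroup.commutator_mem_commutator (Subgroup.mem_top a) (Subgroup.mem_top b)
  rw [h9, Subgroup.mem_bot] at h10
  have h11 := mul_inv_eq_one.1 h10
  exact mul_inv_eq_iff_eq_mul.1 h11

section

variable {G : Type*} [Group G] [Finite G] {H N : Subgroup G} {T : Type} [Group T] [Finite T] {k : ℕ}
  {e : N ≃* (Fin k → T)} (h : EPS H N e) {p : ℕ} [Fact p.Prime]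
  {Y : Type*} [Group Y] [Finite Y] [IsSimpleGroup Y] (hY : HasFilt p Y) (hYn : ∃ a b : Y, a * b ≠ b * a)
  {j : Y →* G} (hj : Function.Injective j) (hn : j.range.Normal) (hNj : N ≤ j.range)

include h hY hYn hj hn hNj

/-- **only one factor**, `EPS`-form -/
theorem k_eq_one_S {I : Type*} [Nonempty I] {S : PSys T p I} (hS : Rk S)
    (hne : p = 2 → (∀ j : I, (S.V {j}).relIndex (S.V ∅) = 2) → ∀ s, 1 + (S.P ∅).index ≠ 2 ^ s) : k = 1 := by
  have := h.simple
  obtain ⟨P, -, hP⟩ := exists_sylIn (p := p) (H := H) (K := ⊥) bot_le IsPGroup.of_bot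
  obtain ⟨e', hPN⟩ := exists_std S e h.nrm h.le hP
  exact k_eq_one e' h.nab hS h.ep h.toMinN h.pos hP hPN
    (fun J hJ => dq_of h hY hYn hj hn hNj _ e' J hJ) hne

/-- **only one factor**, `T` of rank one -/
theorem k_eq_one_R1 [IsSimpleGroup T] (D : R1 p T) : k = 1 := by
  apply k_eq_one_S h hY hYn hj hn hNj D.rk
  intro _ h1 s _
  have h2 := P_index e D.rk ⟨0, h.pos⟩ ()
  rw [h1 ()] at h2
  have h3 : (D.psys).P {()} = ⊤ := by
    rw [← (D.psys).P_univ]
    congr 1
    ext x
    simp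
  rw [h3, Subgroup.relIndex_top_right] at h2
  exact index_ne_three h.nab _ h2

end

end Cfsg.Agent.H515.EPO.KTwo
end

private theorem dce_02449e11c316 : _root_.True := by
  try have : _root_.True := by simp only [_root_.Cfsg.Agent.H515.EPO.KTwo.col.eq_1]
  exact _root_.True.intro
end

-- part: H470/EPO/OwnR1Fin
section
set_option linter.all false
open scoped Cfsg.Agent.FastGrp

-- part: H470/EPO/R1Data
section
/-!
# Rank one data from a parabolic system, and for `PSL₂`, `PSU₃` (all sizes) (helper470)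
-/

set_option autoImplicit false
set_option linter.unusedSectionVars false

namespace Cfsg.Agent.H470.EPO

open Cfsg.Agent.H284 Cfsg.Agent.H737.EPO

theorem R1.ofPSys {T : Type*} [Group T] [Finite T] [IsSimpleGroup T] (hT : ∃ a b : T, a * b ≠ b * a) {p : ℕ}
    [Fact p.Prime] {I : Type*} [Unique I] (S : PSys T p I) (hS : Rk S) : Nonempty (R1 p T) := by
  have h1 : ({default} : Set I) = Set.univ := by
    ext x
    simp [Unique.eq_default x]
  have hV : S.V Set.univ = ⊥ := by
    have hn : (S.V Set.univ).Normal := by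
      rw [← Subgroup.normalizer_eq_top_iff, eq_top_iff, ← S.P_univ]
      exact S.V_norm _
    rcases hn.eq_bot_or_eq_top with h2 | h2
    · exact h2
    · exfalso
      apply not_isPGroup (p := p) hT
      have h3 := S.V_p Set.univ
      rw [h2] at h3
      exact h3.of_equiv Subgroup.topEquiv
  have htop : ∀ g : T, g ∈ S.P {default} := fun g => by rw [h1, S.P_univ]; trivial
  have hPne : S.P ∅ ≠ ⊤ := S.P_ne_top Set.empty_ne_univ
  obtain ⟨g₀, hg₀⟩ : ∃ g₀, g₀ ∉ S.P ∅ := by
    by_contra hcon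
    push Not at hcon
    exact hPne (eq_top_iff.2 fun x _ => hcon x)
  have hUP : S.V ∅ ≤ S.P ∅ := S.V_le ∅
  obtain ⟨u, hu, hug⟩ := hS.trans (htop g₀⁻¹) (fun h => hg₀ (by have := inv_mem h; rwa [inv_inv] at this)) (htop g₀) hg₀
  have hwB : u⁻¹ * g₀ ∉ S.P ∅ := fun h => hg₀ (by
    have := (S.P ∅).mul_mem (hUP hu) h
    rwa [mul_inv_cancel_left] at this)
  refine ⟨⟨S.V ∅, S.P ∅, u⁻¹ * g₀, S.U_norm, S.U_p, S.U_max, hwB, ?_, fun g hg => ?_, ?_⟩⟩
  · have h2 := (S.P ∅).inv_mem hug
    have e1 : u⁻¹ * g₀ * (u⁻¹ * g₀) = u⁻¹ * (g₀⁻¹ * u * g₀⁻¹)⁻¹ := by group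
    rw [e1]
    exact (S.P ∅).mul_mem ((S.P ∅).inv_mem (hUP hu)) h2
  · obtain ⟨v, hv, h2⟩ := hS.trans (htop (u⁻¹ * g₀)) hwB (htop g) hg
    exact ⟨v, hv, (g⁻¹ * v * (u⁻¹ * g₀))⁻¹, (S.P ∅).inv_mem h2, by group⟩
  · rw [Subgroup.eq_bot_iff_forall]
    intro x hx
    obtain ⟨i, -, h2⟩ := hS.desc (htop (u⁻¹ * g₀)) hwB
    have h3 := h2 x hx.1 (mem_cj.1 hx.2)
    have h4 : ({i} : Set I) = Set.univ := by rw [← h1, Unique.eq_default i]
    rw [h4, hV] at h3
    exact h3

open Cfsg.Agent.ChevalleyStructure.CoxeterGeomTypes Cfsg.Agent.KFacts.RgdFilt Cfsg.Agent.H218.OWN in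
/-- rank one data from a filtered root group datum of rank one -/
theorem R1.ofFiltQ {T S : Type*} [Group T] [Group S] [Finite T] [IsSimpleGroup T] (hT : ∃ a b : T, a * b ≠ b * a)
    {p : ℕ} [Fact p.Prime] {M : CoxeterMatrix (Fin 1)} {q : Fin 1 → ℕ} (hQ : HasFiltQ p M q S) (e : T ≃* S) :
    Nonempty (R1 p T) := by
  have : Finite S := Finite.of_equiv T e.toEquiv
  have hs : IsSimpleGroup S := (MulEquiv.isSimpleGroup_congr e).1 inferInstance
  have hSn : ∃ a b : S, a * b ≠ b * a := by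
    obtain ⟨a, b, hab⟩ := hT
    exact ⟨e a, e b, fun h => hab (e.injective (by rw [map_mul, map_mul, h]))⟩
  obtain ⟨A, h, Tt, n, X, hW, R, hG, hX, hconn, hBT, -, -⟩ := HasFiltQ.pack hs (KFacts.RgdLieCharP.center_eq_bot hSn) hQ
  obtain ⟨D⟩ := R1.ofPSys hSn _ (rk_ofRGD R hBT hG hX hconn)
  exact ⟨D.ofEquiv e⟩

open Cfsg.Agent.H218.OWN in
theorem r1_data_psl {F : Type} [Field F] [Fintype F] {p : ℕ} [Fact p.Prime] [CharP F p] {T : Type} [Group T] [Finite T]
    [IsSimpleGroup T] (hT : ∃ a b : T, a * b ≠ b * a) (e : T ≃* Matrix.ProjectiveSpecialLinearGroup (Fin 2) F) :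
    Nonempty (R1 p T) := R1.ofFiltQ hT (fq_PSL (F := F) 1 (p := p)) e

open Cfsg.Agent.H218.OWN in
theorem r1_data_psu {F : Type} [Field F] [Fintype F] {q : ℕ} (hF : Fintype.card F = q ^ 2) {p : ℕ} [Fact p.Prime]
    [CharP F p] {T : Type} [Group T] [Finite T]
    [IsSimpleGroup T] (hT : ∃ a b : T, a * b ≠ b * a) (e : T ≃* PSU 3 F q) :
    Nonempty (R1 p T) := R1.ofFiltQ hT (fq_PSU_odd hF (m := 1) le_rfl (p := p)) e

end Cfsg.Agent.H470.EPO
end

-- part: H470/EPO/OwnR1Fin
section
/-!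
# `OwnR1 p G` from its pieces (helper470)
-/

set_option autoImplicit false
set_option linter.unusedSectionVars false

namespace Cfsg.Agent.H470.EPO

open Cfsg.Agent.H284 Cfsg.Agent.H737.EPO Cfsg.Agent.H209.EPX Cfsg.Agent.KFacts.RgdFilt Cfsg.Agent.H542.EPX

/-- the small groups of rank one which are not covered by `R1.Hyp` -/
def SmallR1 (p : ℕ) (T : Type) [Group T] : Prop :=
  (∃ (F : Type) (_ : Field F) (_ : Fintype F) (_ : CharP F p), (Fintype.card F = 4 ∨ Fintype.card F = 5 ∨
    Fintype.card F = 9) ∧ Nonempty (T ≃* Matrix.ProjectiveSpecialLinearGroup (Fin 2) F)) ∨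
  (∃ (F : Type) (_ : Field F) (_ : Fintype F) (_ : CharP F p) (q : ℕ), Fintype.card F = q ^ 2 ∧ (q = 3 ∨ q = 5) ∧
    Nonempty (T ≃* PSU 3 F q))

/-- the hypotheses on `T`, four families -/
structure R1All : Prop where
  psl : ∀ {p : ℕ} [Fact p.Prime] {F : Type} [Field F] [Fintype F] [CharP F p], 7 ≤ Fintype.card F →
    Fintype.card F ≠ 9 → ∀ {T : Type} [Group T], (T ≃* Matrix.ProjectiveSpecialLinearGroup (Fin 2) F) →
    ∃ D : R1 p T, D.Hyp
  psu : ∀ {p : ℕ} [Fact p.Prime] {F : Type} [Field F] [Fintype F] [CharP F p] {q : ℕ}, Fintype.card F = q ^ 2 →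
    4 ≤ q → q ≠ 5 → ∀ {T : Type} [Group T], (T ≃* PSU 3 F q) → ∃ D : R1 p T, D.Hyp
  sz : ∀ {T : Type} [Group T], Lie.IsoSuzuki T → ∃ D : R1 2 T, D.Hyp
  ree : ∀ {T : Type} [Group T], Lie.IsoRee T → ∃ D : R1 3 T, D.Hyp

/-- `RankOne p T` : small or `Hyp` -/
theorem rankOne_cases (h : R1All) {p : ℕ} [Fact p.Prime] {T : Type} [Group T] (hT : RankOne p T) :
    SmallR1 p T ∨ ∃ D : R1 p T, D.Hyp := by
  rcases hT with ⟨F, i1, i2, i3, h4, ⟨e⟩⟩ | ⟨F, i1, i2, i3, q, hF, h3, ⟨e⟩⟩ | ⟨hp, hT⟩ | ⟨hp, hT⟩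
  · by_cases hs : Fintype.card F = 4 ∨ Fintype.card F = 5 ∨ Fintype.card F = 9
    · exact Or.inl (Or.inl ⟨F, i1, i2, i3, hs, ⟨e⟩⟩)
    · right
      push Not at hs
      refine h.psl (F := F) ?_ hs.2.2 e
      -- `|F| ≠ 6`
      by_contra hcon
      have h6 : Fintype.card F = 6 := by omega
      obtain ⟨⟨n, hn⟩, hp, hc⟩ := FiniteField.card F p
      simp only [PNat.mk_coe] at hc
      rw [h6] at hc
      have h2 : 2 ∣ p ^ n := hc ▸ (by norm_num : 2 ∣ 6)
      have h3 : 3 ∣ p ^ n := hc ▸ (by norm_num : 3 ∣ 6)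
      have h2' := (Nat.prime_dvd_prime_iff_eq Nat.prime_two hp).1 (Nat.prime_two.dvd_of_dvd_pow h2)
      have h3' := (Nat.prime_dvd_prime_iff_eq Nat.prime_three hp).1 (Nat.prime_three.dvd_of_dvd_pow h3)
      omega
  · by_cases hs : q = 3 ∨ q = 5
    · exact Or.inl (Or.inr ⟨F, i1, i2, i3, q, hF, hs, ⟨e⟩⟩)
    · right
      push Not at hs
      exact h.psu hF (by omega) hs.2 e
  · subst hp
    exact Or.inr (h.sz hT)
  · subst hp
    exact Or.inr (h.ree hT)

/-- **`OwnR1 p G` from its pieces.** -/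
theorem ownR1_of (hR : R1All) {G : Type} [Group G] [Finite G] [IsSimpleGroup G] {p : ℕ} [Fact p.Prime]
    (hG : HasFilt p G)
    (hK2 : ∀ (H N : Subgroup G) (T : Type) [Group T] (k : ℕ) (e : N ≃* (Fin k → T)), EPS H N e → 2 ≤ k →
      RankOne p T → False)
    (hsm : ∀ (H N : Subgroup G) (T : Type) [Group T] (e : N ≃* (Fin 1 → T)), EPS H N e → SmallR1 p T → False) :
    OwnR1 p G := by
  intro H N T _ k e h hT
  have hpos := h.pos
  rcases (by omega : k = 1 ∨ 2 ≤ k) with rfl | hk
  · rcases rankOne_cases hR hT with h1 | ⟨D, hD⟩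
    · exact hsm H N T e h h1
    · exact own_r1_G h hG D hD
  · exact hK2 H N T k e h hk hT

/-- the data exist for all the groups of rank one -/
theorem r1_data (h : R1All) {p : ℕ} [Fact p.Prime] {T : Type} [Group T] [Finite T] [IsSimpleGroup T]
    (hab : ∃ a b : T, a * b ≠ b * a) (hT : RankOne p T) : Nonempty (R1 p T) := by
  rcases hT with ⟨F, i1, i2, i3, h4, ⟨e⟩⟩ | ⟨F, i1, i2, i3, q, hF, h3, ⟨e⟩⟩ | ⟨hp, hT⟩ | ⟨hp, hT⟩
  · exact r1_data_psl hab e
  · exact r1_data_psu hF hab e
  · subst hp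
    obtain ⟨D, -⟩ := h.sz hT
    exact ⟨D⟩
  · subst hp
    obtain ⟨D, -⟩ := h.ree hT
    exact ⟨D⟩

/-- **`OwnR1 p G`** from the four families and the small groups (`k ≥ 2` : helper515's `k_eq_one_R1`). -/
theorem ownR1_fin (hR : R1All) {G : Type} [Group G] [Finite G] [IsSimpleGroup G] {p : ℕ} [Fact p.Prime]
    (hG : HasFilt p G)
    (hsm : ∀ (H N : Subgroup G) (T : Type) [Group T] (e : N ≃* (Fin 1 → T)), EPS H N e → SmallR1 p T → False) :
    OwnR1 p G := by
  refine ownR1_of hR hG (fun H N T _ k e h hk hT => ?_) hsm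
  have hsimp := h.simple
  have hfin : Finite T := by
    have h1 : Finite (Fin k → T) := Finite.of_equiv N e.toEquiv
    exact Finite.of_surjective (fun f : Fin k → T => f ⟨0, h.pos⟩) fun t => ⟨fun _ => t, rfl⟩
  have hnab : ∃ a b : G, a * b ≠ b * a := by
    obtain ⟨a, b, hab⟩ := h.nab
    refine ⟨(e.symm (fun _ => a) : N), (e.symm (fun _ => b) : N), fun h3 => hab ?_⟩
    have h4 : e.symm (fun _ => a) * e.symm (fun _ => b) = e.symm (fun _ => b) * e.symm (fun _ => a) := Subtype.ext h3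
    rw [← map_mul, ← map_mul] at h4
    exact congrFun (e.symm.injective h4) ⟨0, h.pos⟩
  obtain ⟨D⟩ := r1_data hR h.nab hT
  have h1 := H515.EPO.KTwo.k_eq_one_R1 h hG hnab (j := MonoidHom.id G) Function.injective_id
    (by rw [MonoidHom.range_eq_top.2 (fun x => ⟨x, rfl⟩)]; infer_instance)
    (by rw [MonoidHom.range_eq_top.2 (fun x => ⟨x, rfl⟩)]; exact le_top) D
  omega

end Cfsg.Agent.H470.EPO
end
end

-- part: H987/R1/U3
section
prune_inst 0x4c4000a200800100000000500900000001000000000000800000000040200a04000008800000000021020000000040008110000208200000000000400000004011080000000000000000000000000000000000000000000000000000000000000200000000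
set_option linter.all false
open scoped Cfsg.Agent.FastGrp

-- part: H987/R1/Data
section
/-!
# The rank one data of `PSU(3,q)` (helper987, S5745 OwnR1)
-/

set_option autoImplicit false
set_option linter.unusedSectionVars false

namespace Cfsg.Agent.H987.R1

open Matrix Subgroup
open Cfsg.Agent Cfsg.Agent.UThreeGen.MatGroup
open Cfsg.Agent.HKS.EndU (tor tmat tor_val tor_mem act tor_emb ci ci_val wel_tor exists_tor tor_mem_center sne
  eq_of_emb_mul)
open Cfsg.Agent.H212.U3.Model (exists_a exists_equiv card_HG card_SUG card_borel index_borel card_range emb_mem)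
open Cfsg.Agent.H284 (cj mem_cj conj_mem_cj)

/-- the context -/
structure Ctx {F : Type*} [Field F] [Fintype F] (q : ℕ) (σ : F →+* F) [hσ : Fact (∀ x, σ (σ x) = x)] {T : Type*}
    [Group T] (π : SUG σ →* T) : Prop where
  q4 : 4 ≤ q
  hF : Fintype.card F = q ^ 2
  hs : ∀ x, σ x = x ^ q
  sur : Function.Surjective π
  ker : ∀ g, π g = 1 ↔ g ∈ Subgroup.center (SUG σ)

namespace Ctx

variable {F : Type*} [Field F] [Fintype F] {q : ℕ} {σ : F →+* F} [hσ : Fact (∀ x, σ (σ x) = x)] {T : Type*}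
  [Group T] {π : SUG σ →* T} (C : Ctx q σ π)

include C

theorem ex_a : ∃ x : HG σ, x.a ≠ 0 := by
  obtain ⟨x, hx⟩ := exists_a (σ := σ) C.hF C.hs 1
  exact ⟨x, by rw [hx]; exact one_ne_zero⟩

theorem cen_le : Subgroup.center (SUG σ) ≤ _root_.Cfsg.Agent.UThreeGen.MatGroup.borel σ := center_le_borel C.ex_a

theorem eq_mul {g h : SUG σ} (e : π g = π h) : ∃ z ∈ Subgroup.center (SUG σ), g = h * z := by
  refine ⟨h⁻¹ * g, ?_, by group⟩
  rw [← C.ker, map_mul, map_inv, e, inv_mul_cancel]

theorem mem_map {H : Subgroup (SUG σ)} (hH : Subgroup.center (SUG σ) ≤ H) {g : SUG σ} : π g ∈ H.map π ↔ g ∈ H := by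
  constructor
  · rintro ⟨h, hh, e⟩
    obtain ⟨z, hz, rfl⟩ := C.eq_mul e.symm
    exact H.mul_mem hh (hH hz)
  · exact fun h => Subgroup.mem_map_of_mem π h

theorem cen_tor {z : SUG σ} (hz : z ∈ Subgroup.center (SUG σ)) :
    ∃ l : Fˣ, z = tor σ l ∧ (l : F) ^ 2 = σ (l : F) := by
  have h1 := C.cen_le hz
  obtain ⟨l, hl⟩ := exists_tor h1 (by
    have := Subgroup.mem_center_iff.1 hz (wel σ)
    rw [mul_assoc, ← this, inv_mul_cancel_left]
    exact h1)
  refine ⟨l, hl, ?_⟩
  obtain ⟨x, hx⟩ := exists_a (σ := σ) C.hF C.hs 1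
  have h2 := Subgroup.mem_center_iff.1 hz (emb σ x)
  rw [hl, tor_emb] at h2
  have h3 := emb_injective (mul_right_cancel h2)
  have h4 := congrArg HG.a h3
  simp only [act, hx, mul_one] at h4
  rw [eq_comm, div_eq_one_iff_eq (sne l)] at h4
  exact h4

omit C in
theorem wel_ne : wel σ ∉ _root_.Cfsg.Agent.UThreeGen.MatGroup.borel σ := data_SUG.w_not_mem

theorem B_norm {u b : T} (hb : b ∈ (_root_.Cfsg.Agent.UThreeGen.MatGroup.borel σ).map π) (hu : u ∈ (emb σ).range.map π) :
    b * u * b⁻¹ ∈ (emb σ).range.map π := by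
  obtain ⟨g, hg, rfl⟩ := hb
  obtain ⟨s, hs, rfl⟩ := hu
  rw [← map_inv, ← map_mul, ← map_mul]
  exact Subgroup.mem_map_of_mem π (data_SUG.norm g hg s hs)

theorem U_le : (emb σ).range.map π ≤ (_root_.Cfsg.Agent.UThreeGen.MatGroup.borel σ).map π := Subgroup.map_mono data_SUG.le

theorem w_not : π (wel σ) ∉ (_root_.Cfsg.Agent.UThreeGen.MatGroup.borel σ).map π := by
  rw [C.mem_map C.cen_le]
  exact wel_ne

omit C in
theorem ww : π (wel σ) * π (wel σ) = 1 := by
  rw [← map_mul, wel_mul_wel, map_one]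

theorem tr (g : T) (hg : g ∉ (_root_.Cfsg.Agent.UThreeGen.MatGroup.borel σ).map π) :
    ∃ u ∈ (emb σ).range.map π, ∃ b ∈ (_root_.Cfsg.Agent.UThreeGen.MatGroup.borel σ).map π, g = u * π (wel σ) * b := by
  obtain ⟨g, rfl⟩ := C.sur g
  have h1 : g ∉ _root_.Cfsg.Agent.UThreeGen.MatGroup.borel σ := fun h => hg (Subgroup.mem_map_of_mem π h)
  obtain ⟨s, hs, h⟩ := data_SUG.bruhat g h1
  refine ⟨π s, Subgroup.mem_map_of_mem π hs, _, Subgroup.mem_map_of_mem π h, ?_⟩
  rw [← map_mul, ← map_mul, mul_inv_cancel_left]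

theorem emb_of_mem {u : T} (hu : u ∈ (emb σ).range.map π) (h : u ∈ cj (π (wel σ)) ((_root_.Cfsg.Agent.UThreeGen.MatGroup.borel σ).map π)) : u = 1 := by
  obtain ⟨s, hs, rfl⟩ := hu
  rw [mem_cj, ← map_inv, ← map_mul, ← map_mul, C.mem_map C.cen_le] at h
  rw [data_SUG.inter s hs h, map_one]

theorem U_ne : (emb σ).range.map π ≠ ⊥ := by
  intro h
  obtain ⟨x, hx⟩ := exists_a (σ := σ) C.hF C.hs 1
  have h1 : π (emb σ x) ∈ (emb σ).range.map π := Subgroup.mem_map_of_mem π ⟨x, rfl⟩
  rw [h, Subgroup.mem_bot, C.ker] at h1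
  have h2 := eq_one_of_mem_center h1
  rw [h2] at hx
  exact zero_ne_one hx

theorem normU : Subgroup.normalizer (((emb σ).range.map π : Subgroup T) : Set T) = (_root_.Cfsg.Agent.UThreeGen.MatGroup.borel σ).map π := by
  apply le_antisymm
  · intro g hg
    by_contra hgB
    obtain ⟨u, hu, b, hb, rfl⟩ := C.tr g hgB
    have hn : (_root_.Cfsg.Agent.UThreeGen.MatGroup.borel σ).map π ≤ Subgroup.normalizer (((emb σ).range.map π : Subgroup T) : Set T) := by
      intro b hb
      rw [Subgroup.mem_normalizer_iff]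
      intro n
      refine ⟨fun h => C.B_norm hb h, fun h => ?_⟩
      have h1 := C.B_norm (inv_mem hb) h
      have h2 : b⁻¹ * (b * n * b⁻¹) * b⁻¹⁻¹ = n := by group
      rwa [h2] at h1
    have hw : π (wel σ) ∈ Subgroup.normalizer (((emb σ).range.map π : Subgroup T) : Set T) := by
      have h1 := mul_mem (mul_mem (inv_mem (hn (C.U_le hu))) hg) (inv_mem (hn hb))
      have h2 : u⁻¹ * (u * π (wel σ) * b) * b⁻¹ = π (wel σ) := by group
      rwa [h2] at h1
    apply C.U_ne
    rw [eq_bot_iff]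
    intro x hx
    rw [Subgroup.mem_bot]
    apply C.emb_of_mem hx
    rw [mem_cj]
    have h1 := (Subgroup.mem_normalizer_iff.1 (inv_mem hw) x).1 hx
    rw [inv_inv] at h1
    exact C.U_le h1
  · intro b hb
    rw [Subgroup.mem_normalizer_iff]
    intro n
    refine ⟨fun h => C.B_norm hb h, fun h => ?_⟩
    have h1 := C.B_norm (inv_mem hb) h
    have h2 : b⁻¹ * (b * n * b⁻¹) * b⁻¹⁻¹ = n := by group
    rwa [h2] at h1

theorem pU {p : ℕ} [hp : Fact p.Prime] [CharP F p] : IsPGroup p ((emb σ).range.map π : Subgroup T) := by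
  have h1 : ∃ n, q = p ^ n := by
    obtain ⟨n, -, hn⟩ := FiniteField.card F p
    have h2 : q ∣ p ^ (n : ℕ) := by
      rw [← hn, C.hF]
      exact Dvd.intro_left (q ^ (2 - 1)) (by ring)
    obtain ⟨m, -, hm⟩ := (Nat.dvd_prime_pow hp.out).1 h2
    exact ⟨m, hm⟩
  obtain ⟨n, hn⟩ := h1
  have h3 : IsPGroup p (emb σ).range := by
    apply IsPGroup.of_card (n := n * 3)
    rw [card_range, card_HG C.hF C.hs, hn, ← pow_mul]
  exact h3.map π

theorem index_U : ((emb σ).range.map π : Subgroup T).index ∣ (q ^ 3 + 1) * (q ^ 2 - 1) := by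
  have h1 : ((emb σ).range.map π : Subgroup T).index ∣ (emb σ).range.index :=
    Subgroup.index_map_dvd _ C.sur
  have h2 := (emb σ).range.index_mul_card
  rw [card_SUG C.hF C.hs, card_range, card_HG C.hF C.hs] at h2
  have h3 : (emb σ).range.index = (q ^ 3 + 1) * (q ^ 2 - 1) := by
    have h4 : 0 < q ^ 3 := by have := C.q4; positivity
    apply Nat.eq_of_mul_eq_mul_right h4
    rw [h2]
    ring
  rwa [h3] at h1

theorem maxU {p : ℕ} [hp : Fact p.Prime] [CharP F p] (S : Subgroup T) (hS : (emb σ).range.map π ≤ S)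
    (hp' : IsPGroup p S) : S = (emb σ).range.map π := by
  have h4 := C.q4
  have hfT : Finite T := Finite.of_surjective π C.sur
  have hpq : p ∣ q := by
    have h1 : p ∣ Fintype.card F := by
      obtain ⟨n, -, hn⟩ := FiniteField.card F p
      rw [hn]
      exact dvd_pow_self p n.pos.ne'
    rw [C.hF] at h1
    exact hp.out.dvd_of_dvd_pow h1
  have hcop : ¬ p ∣ (q ^ 3 + 1) * (q ^ 2 - 1) := by
    intro h
    rcases (Nat.Prime.dvd_mul hp.out).1 h with h | h
    · exact hp.out.one_lt.ne' (Nat.dvd_one.1 ((Nat.dvd_add_right (dvd_pow hpq (by norm_num))).1 h))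
    · have h5 : p ∣ q ^ 2 := dvd_pow hpq (by norm_num)
      have h6 : 1 ≤ q ^ 2 := Nat.one_le_pow _ _ (by omega)
      have h7 := (Nat.dvd_sub h5 h)
      rw [Nat.sub_sub_self h6] at h7
      exact hp.out.one_lt.ne' (Nat.dvd_one.1 h7)
  have h1 : ((emb σ).range.map π).relIndex S ∣ ((emb σ).range.map π : Subgroup T).index :=
    Subgroup.relIndex_dvd_index_of_le hS
  have h2 : ((emb σ).range.map π).relIndex S ∣ Nat.card S := Subgroup.relIndex_dvd_card _ _
  obtain ⟨n, hn⟩ := IsPGroup.iff_card.1 hp'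
  rw [hn] at h2
  obtain ⟨m, -, hm⟩ := (Nat.dvd_prime_pow hp.out).1 h2
  have h3 : m = 0 := by
    by_contra h0
    apply hcop
    refine dvd_trans ?_ (h1.trans C.index_U)
    rw [hm]
    exact dvd_pow_self p h0
  rw [h3, pow_zero, Subgroup.relIndex_eq_one] at hm
  exact le_antisymm hm hS

/-- **the data** -/
def dat (p : ℕ) [Fact p.Prime] [CharP F p] : H470.EPO.R1 p T where
  U := (emb σ).range.map π
  B := (_root_.Cfsg.Agent.UThreeGen.MatGroup.borel σ).map π
  w := π (wel σ)
  nU := C.normU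
  pU := C.pU
  mU := C.maxU
  wB := C.w_not
  ww := by rw [ww]; exact one_mem _
  tr := C.tr
  ti := by
    rw [eq_bot_iff]
    rintro u ⟨h1, h2⟩
    rw [Subgroup.mem_bot]
    exact C.emb_of_mem h1 h2

variable (p : ℕ) [Fact p.Prime] [CharP F p]

theorem mem_T0 {t : T} : t ∈ (C.dat p).T0 ↔ ∃ l : Fˣ, t = π (tor σ l) := by
  constructor
  · rintro ⟨⟨b, hb, rfl⟩, h2⟩
    have h2 : π b ∈ cj (π (wel σ)) ((_root_.Cfsg.Agent.UThreeGen.MatGroup.borel σ).map π) := h2
    rw [mem_cj, ← map_inv, ← map_mul, ← map_mul, C.mem_map C.cen_le] at h2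
    obtain ⟨l, hl⟩ := exists_tor hb h2
    exact ⟨l, by rw [hl]⟩
  · rintro ⟨l, rfl⟩
    refine ⟨Subgroup.mem_map_of_mem π (tor_mem l), ?_⟩
    show π (tor σ l) ∈ cj (π (wel σ)) ((_root_.Cfsg.Agent.UThreeGen.MatGroup.borel σ).map π)
    rw [mem_cj, ← map_inv, ← map_mul, ← map_mul, C.mem_map C.cen_le, wel_inv, wel_tor]
    exact tor_mem _

end Ctx

end Cfsg.Agent.H987.R1
end

-- part: H987/R1/HypA
section
/-!
# The rank one data of `PSU(3,q)`: `[U, T0] = U`, `C(T0) = T0` (helper987, S5745 OwnR1)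
-/

set_option autoImplicit false
set_option linter.unusedSectionVars false

namespace Cfsg.Agent.H987.R1

open Matrix Subgroup
open Cfsg.Agent Cfsg.Agent.UThreeGen.MatGroup
open Cfsg.Agent.HKS.EndU (tor tmat tor_val tor_mem act tor_emb ci ci_val wel_tor exists_tor tor_mem_center sne
  eq_of_emb_mul)
open Cfsg.Agent.H212.U3.Model (exists_a exists_equiv card_HG card_SUG card_borel index_borel card_range emb_mem)
open Cfsg.Agent.H284 (cj mem_cj conj_mem_cj)

namespace Ctx

variable {F : Type*} [Field F] [Fintype F] {q : ℕ} {σ : F →+* F} [hσ : Fact (∀ x, σ (σ x) = x)] {T : Type*}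
  [Group T] {π : SUG σ →* T} (C : Ctx q σ π)

include C

/-- a generator of the multiplicative group -/
theorem gen : ∃ l : Fˣ, (∀ k : ℕ, l ^ k = 1 → q ^ 2 - 1 ∣ k) ∧ ∀ m : Fˣ, ∃ k : ℕ, m = l ^ k := by
  classical
  obtain ⟨l, hl⟩ := IsCyclic.exists_generator (α := Fˣ)
  refine ⟨l, fun k hk => ?_, fun m => ?_⟩
  · have h1 := orderOf_eq_card_of_forall_mem_zpowers hl
    rw [Nat.card_units, Nat.card_eq_fintype_card, C.hF] at h1
    rw [← h1]
    exact orderOf_dvd_of_pow_eq_one hk
  · have h1 := hl m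
    rw [← mem_powers_iff_mem_zpowers] at h1
    obtain ⟨k, hk⟩ := h1
    exact ⟨k, hk.symm⟩

theorem sig_units (l : Fˣ) : σ (l : F) = ((l ^ q : Fˣ) : F) := by
  rw [C.hs, Units.val_pow_eq_pow_val]

theorem pow_q (l : Fˣ) : l ^ (q ^ 2 - 1) = 1 := by
  rw [← C.hF]
  apply Units.ext
  rw [Units.val_pow_eq_pow_val, FiniteField.pow_card_sub_one_eq_one _ (Units.ne_zero l), Units.val_one]

/-- for a generator `l ^ 2 ≠ σ l` and `l * σ l ≠ 1` -/
theorem gen_ne {l : Fˣ} (hl : ∀ k : ℕ, l ^ k = 1 → q ^ 2 - 1 ∣ k) :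
    (l : F) ^ 2 / σ (l : F) ≠ 1 ∧ (l : F) * σ (l : F) ≠ 1 := by
  have h4 := C.q4
  have h16 : 4 * q ≤ q ^ 2 := by nlinarith
  constructor
  · rw [Ne, div_eq_one_iff_eq (sne l), C.sig_units, ← Units.val_pow_eq_pow_val, Units.val_inj]
    intro h
    have h1 : l ^ (q - 2) = 1 := by
      have h2 : l ^ q = l ^ (q - 2) * l ^ 2 := by
        rw [← pow_add]; congr 1; omega
      rw [h2] at h
      exact (right_eq_mul.1 h)
    have h3 := Nat.le_of_dvd (by omega) (hl _ h1)
    omega
  · rw [C.sig_units, ← Units.val_mul, ← Units.val_one, Ne, Units.val_inj, ← pow_succ']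
    intro h
    have h3 := Nat.le_of_dvd (by omega) (hl _ h)
    omega

theorem pi_emb_inj {x y : HG σ} (h : π (emb σ x) = π (emb σ y)) : x = y := by
  obtain ⟨z, hz, e⟩ := C.eq_mul h
  exact eq_of_emb_mul hz e

theorem conj_act (l : Fˣ) (x : HG σ) :
    π (tor σ l) * π (emb σ x) * (π (tor σ l))⁻¹ = π (emb σ (act l x)) := by
  rw [← map_mul, tor_emb, map_mul, mul_inv_cancel_right]

theorem fix_eq_one {x : HG σ} (h : ∀ l : Fˣ, act l x = x) : x = 1 := by
  obtain ⟨l, hl, -⟩ := C.gen
  obtain ⟨h1, h2⟩ := C.gen_ne hl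
  have h3 := h l
  have h4 := congrArg HG.a h3
  have h5 := congrArg HG.b h3
  simp only [act] at h4 h5
  ext
  · by_contra h6
    exact h1 (mul_right_cancel₀ h6 (h4.trans (one_mul _).symm))
  · by_contra h6
    exact h2 (mul_right_cancel₀ h6 (h5.trans (one_mul _).symm))

variable (p : ℕ) [Fact p.Prime] [CharP F p]

theorem comm (X : Subgroup T) (hX : X ≤ (C.dat p).U)
    (h : ∀ u ∈ (C.dat p).U, ∀ t ∈ (C.dat p).T0, u * t * u⁻¹ * t⁻¹ ∈ X) : X = (C.dat p).U := by
  apply le_antisymm hX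
  obtain ⟨l, hl, -⟩ := C.gen
  obtain ⟨h1, h2⟩ := C.gen_ne hl
  have key : ∀ x : HG σ, π (emb σ (x * act l x⁻¹)) ∈ X := by
    intro x
    have h3 := h (π (emb σ x)) (Subgroup.mem_map_of_mem π ⟨x, rfl⟩) (π (tor σ l)) ((C.mem_T0 p).2 ⟨l, rfl⟩)
    have h4 : π (emb σ x) * π (tor σ l) * (π (emb σ x))⁻¹ * (π (tor σ l))⁻¹ = π (emb σ (x * act l x⁻¹)) := by
      rw [map_mul (emb σ), map_mul π, ← C.conj_act, map_inv (emb σ), map_inv π]
      group
    rwa [h4] at h3
  have hA : ∀ a : F, ∃ y : HG σ, y.a = a ∧ π (emb σ y) ∈ X := by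
    intro a
    obtain ⟨x, hx⟩ := exists_a (σ := σ) C.hF C.hs (a / (1 - (l : F) ^ 2 / σ (l : F)))
    refine ⟨_, ?_, key x⟩
    have h5 : 1 - (l : F) ^ 2 / σ (l : F) ≠ 0 := sub_ne_zero.2 (Ne.symm h1)
    rw [mul_a]
    simp only [act, inv_a, hx]
    generalize (l : F) ^ 2 / σ (l : F) = μ at *
    field_simp
    ring
  have hZ : ∀ y : HG σ, y.a = 0 → π (emb σ y) ∈ X := by
    intro y hy
    set ν : F := (l : F) * σ (l : F) with hν
    have hν1 : 1 - ν ≠ 0 := sub_ne_zero.2 (Ne.symm h2)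
    have hσν : σ ν = ν := by rw [hν, map_mul, sig, mul_comm]
    have hyb : y.b + σ y.b = 0 := by have := y.h; rwa [hy, zero_mul] at this
    have hx : y.b / (1 - ν) + σ (y.b / (1 - ν)) = (0 : F) * σ 0 := by
      rw [map_div₀, map_sub, map_one, hσν, ← add_div, hyb, zero_div, zero_mul]
    have h3 := key ⟨0, y.b / (1 - ν), hx⟩
    have h4 : (⟨0, y.b / (1 - ν), hx⟩ : HG σ) * act l (⟨0, y.b / (1 - ν), hx⟩ : HG σ)⁻¹ = y := by
      ext
      · simp [act, hy]
      · rw [mul_b]
        simp only [act, inv_b, inv_a, zero_mul, add_zero]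
        have h5 : σ (y.b / (1 - ν)) = - (y.b / (1 - ν)) := by
          rw [map_div₀, map_sub, map_one, hσν]
          rw [← neg_div]
          congr 1
          linear_combination hyb
        rw [h5, ← hν]
        field_simp
        ring
    rwa [h4] at h3
  rintro _ ⟨_, ⟨x, rfl⟩, rfl⟩
  obtain ⟨y, hy, hyX⟩ := hA x.a
  have h3 : π (emb σ (y⁻¹ * x)) ∈ X := hZ _ (by rw [mul_a, inv_a, hy, neg_add_cancel])
  have h4 := X.mul_mem hyX h3
  rw [← map_mul, ← map_mul, mul_inv_cancel_left] at h4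
  exact h4

/-- an element of `U` which normalises `T0` is trivial -/
theorem U_norm {u : T} (hu : u ∈ (C.dat p).U) (h : ∀ t ∈ (C.dat p).T0, u⁻¹ * t * u ∈ (C.dat p).T0) : u = 1 := by
  obtain ⟨_, ⟨x, rfl⟩, rfl⟩ := hu
  have h1 : x = 1 := by
    apply C.fix_eq_one
    intro l
    have h2 := h _ ((C.mem_T0 p).2 ⟨l, rfl⟩)
    have h3 : (π (emb σ x))⁻¹ * π (tor σ l) * π (emb σ x) * (π (tor σ l))⁻¹ ∈ (C.dat p).U ⊓ cj (C.dat p).w (C.dat p).B := by
      refine ⟨?_, ?_⟩
      · have h4 : (π (emb σ x))⁻¹ * π (tor σ l) * π (emb σ x) * (π (tor σ l))⁻¹ = π (emb σ (x⁻¹ * act l x)) := by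
          rw [map_mul (emb σ), map_mul π, ← C.conj_act, map_inv (emb σ), map_inv π]
          group
        rw [h4]
        exact Subgroup.mem_map_of_mem π ⟨_, rfl⟩
      · have h4 : π (tor σ l) ∈ (C.dat p).T0 := (C.mem_T0 p).2 ⟨l, rfl⟩
        have h5 : (π (emb σ x))⁻¹ * π (tor σ l) * π (emb σ x) * (π (tor σ l))⁻¹ ∈ (C.dat p).T0 := mul_mem h2 (inv_mem h4)
        exact h5.2
    rw [(C.dat p).ti, Subgroup.mem_bot, mul_inv_eq_one, mul_assoc, inv_mul_eq_iff_eq_mul] at h3
    have h4 := C.conj_act l x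
    rw [h3, mul_inv_cancel_right] at h4
    exact (C.pi_emb_inj h4).symm
  rw [h1, map_one, map_one]

/-- the conjugates of `B` which contain `T0` -/
theorem two_fix {g : T} (hg : g ∉ (C.dat p).B) (h : (C.dat p).T0 ≤ cj g (C.dat p).B) :
    ∃ b ∈ (C.dat p).B, g = (C.dat p).w * b := by
  obtain ⟨u, hu, b, hb, rfl⟩ := (C.dat p).tr g hg
  have h1 : u = 1 := by
    apply C.U_norm p hu
    intro t ht
    refine ⟨?_, ?_⟩
    · exact (C.dat p).B.mul_mem ((C.dat p).B.mul_mem ((C.dat p).B.inv_mem ((C.dat p).U_le hu)) ht.1) ((C.dat p).U_le hu)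
    · have h2 := h ht
      rw [mem_cj] at h2
      show u⁻¹ * t * u ∈ cj (C.dat p).w (C.dat p).B
      rw [mem_cj]
      have h3 := mul_mem (mul_mem hb h2) (inv_mem hb)
      have h4 : b * ((u * (C.dat p).w * b)⁻¹ * t * (u * (C.dat p).w * b)) * b⁻¹ =
        (C.dat p).w⁻¹ * (u⁻¹ * t * u) * (C.dat p).w := by group
      rwa [h4] at h3
  exact ⟨b, hb, by rw [h1, one_mul]⟩

/-- `C(T0) = T0` -/
theorem cent {x : T} (h : ∀ t ∈ (C.dat p).T0, x * t = t * x) : x ∈ (C.dat p).T0 := by
  have hx : ∀ t ∈ (C.dat p).T0, x⁻¹ * t * x = t := by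
    intro t ht
    rw [mul_assoc, ← h t ht, inv_mul_cancel_left]
  by_cases hB : x ∈ (C.dat p).B
  · obtain ⟨u, hu, t, ht, rfl⟩ := (C.dat p).exists_UT hB
    have h1 : u = 1 := by
      apply C.U_norm p hu
      intro s hs
      have h2 := hx s hs
      have h3 : u⁻¹ * s * u = t * ((u * t)⁻¹ * s * (u * t)) * t⁻¹ := by group
      rw [h3, h2]
      exact mul_mem (mul_mem ht hs) (inv_mem ht)
    rw [h1, one_mul]
    exact ht
  · exfalso
    obtain ⟨b, hb, rfl⟩ := C.two_fix p hB (by
      intro t ht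
      rw [mem_cj, hx t ht]
      exact ht.1)
    obtain ⟨u, hu, t, ht, rfl⟩ := (C.dat p).exists_UT hb
    have hwT : ∀ s ∈ (C.dat p).T0, (C.dat p).w⁻¹ * s * (C.dat p).w ∈ (C.dat p).T0 := by
      intro s hs
      obtain ⟨l, rfl⟩ := (C.mem_T0 p).1 hs
      rw [C.mem_T0 p]
      refine ⟨ci σ l, ?_⟩
      show (π (wel σ))⁻¹ * π (tor σ l) * π (wel σ) = _
      rw [← map_inv, ← map_mul, ← map_mul, wel_inv, wel_tor]
    have hwT' : ∀ s ∈ (C.dat p).T0, (C.dat p).w * s * (C.dat p).w⁻¹ ∈ (C.dat p).T0 := by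
      intro s hs
      obtain ⟨l, rfl⟩ := (C.mem_T0 p).1 hs
      rw [C.mem_T0 p]
      refine ⟨ci σ l, ?_⟩
      show π (wel σ) * π (tor σ l) * (π (wel σ))⁻¹ = _
      rw [← map_inv, ← map_mul, ← map_mul, wel_inv, wel_tor]
    have h1 : u = 1 := by
      apply C.U_norm p hu
      intro s hs
      have h2 := hx _ (hwT' s hs)
      have h3 : u⁻¹ * s * u = t * (((C.dat p).w * (u * t))⁻¹ * ((C.dat p).w * s * (C.dat p).w⁻¹) *
        ((C.dat p).w * (u * t))) * t⁻¹ := by group
      rw [h3, h2]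
      exact mul_mem (mul_mem ht (hwT' s hs)) (inv_mem ht)
    subst h1
    obtain ⟨l, hl, -⟩ := C.gen
    have h5 := hx _ ((C.mem_T0 p).2 ⟨l, rfl⟩)
    obtain ⟨m, rfl⟩ := (C.mem_T0 p).1 ht
    have h6 : π (tor σ l) = π (tor σ (ci σ l)) := by
      have h7 : (π (wel σ) * (1 * π (tor σ m)))⁻¹ * π (tor σ l) * (π (wel σ) * (1 * π (tor σ m))) =
          (π (tor σ m))⁻¹ * (π (wel σ) * π (tor σ l) * π (wel σ)) * π (tor σ m) := by
        have h8 : (π (wel σ))⁻¹ = π (wel σ) := by rw [← map_inv, wel_inv]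
        rw [one_mul, _root_.mul_inv_rev, h8]
        group
      have h9 : π (tor σ l) = (π (tor σ m))⁻¹ * (π (wel σ) * π (tor σ l) * π (wel σ)) * π (tor σ m) := by
        rw [← h7]; exact h5.symm
      rw [h9, ← map_mul, ← map_mul, wel_tor, ← map_inv, ← map_mul, ← map_mul, ← map_inv, ← map_mul, ← map_mul,
        mul_comm m⁻¹, inv_mul_cancel_right]
    obtain ⟨z, hz, h7⟩ := C.eq_mul h6
    obtain ⟨c, rfl, hc⟩ := C.cen_tor hz
    rw [← map_mul] at h7
    have hinj : ∀ l m : Fˣ, tor σ l = tor σ m → l = m := by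
      intro l m h
      apply Units.ext
      have h8 := congrArg (fun g : SUG σ => g.1.1 0 0) h
      simpa only [tor_val, tmat, _root_.Fin.isValue, _root_.Matrix.of_apply, _root_.Matrix.cons_val', _root_.Matrix.cons_val_zero, _root_.Matrix.cons_val_fin_one] using h8
    have h8 := hinj _ _ h7
    have hsl := sne (σ := σ) l
    have h9 : (c : F) = (l : F) * σ (l : F) := by
      have h10 := congrArg (fun u : Fˣ => (u : F)) h8
      simp only [Units.val_mul, ci_val] at h10
      rw [inv_mul_eq_div, eq_div_iff hsl] at h10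
      exact h10.symm
    have h10 : σ (c : F) = c := by
      rw [h9, map_mul, sig, mul_comm]
    rw [h10, sq] at hc
    have h11 : (c : F) = 1 := mul_left_cancel₀ (Units.ne_zero c) (hc.trans (mul_one _).symm)
    exact (C.gen_ne hl).2 (h9.symm.trans h11)

end Ctx

end Cfsg.Agent.H987.R1
end

-- part: H987/R1/HypB
section
/-!
# The rank one data of `PSU(3,q)`: automorphisms of the unipotent group (helper987, S5745 OwnR1)
-/

set_option autoImplicit false
set_option linter.unusedSectionVars false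

namespace Cfsg.Agent.H987.R1

open Matrix Subgroup
open Cfsg.Agent Cfsg.Agent.UThreeGen.MatGroup
open Cfsg.Agent.HKS.EndU (tor tmat tor_val tor_mem act tor_emb ci ci_val wel_tor exists_tor tor_mem_center sne
  eq_of_emb_mul comm_of_a)
open Cfsg.Agent.H212.U3.Model (exists_a exists_equiv card_HG card_SUG card_borel index_borel card_range emb_mem)
open Cfsg.Agent.H284 (cj mem_cj conj_mem_cj)

theorem eq_one_of_pow_two {F : Type*} [Field F] [CharP F 2] {c : F} {m : ℕ} (h : c ^ 2 ^ m = 1) : c = 1 := by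
  induction m with
  | zero => simpa using h
  | succ m ih =>
    apply ih
    rw [pow_succ, pow_mul] at h
    have h0 : (c ^ 2 ^ m - 1) * (c ^ 2 ^ m + 1) = 0 := by linear_combination h
    rcases mul_eq_zero.1 h0 with h1 | h1
    · exact sub_eq_zero.1 h1
    · exact CharTwo.add_eq_zero.1 h1

namespace Ctx

variable {F : Type*} [Field F] [Fintype F] {q : ℕ} {σ : F →+* F} [hσ : Fact (∀ x, σ (σ x) = x)] {T : Type*}
  [Group T] {π : SUG σ →* T} (C : Ctx q σ π)

include C

theorem ex_norm {c : F} (hc : σ c = c) : ∃ v : F, v * σ v = c :=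
  UThreeGen.Recog.exists_norm (σ := σ) (by have := C.q4; omega) C.hs (by rw [Nat.card_eq_fintype_card, C.hF]) hc

theorem ex_norm_units {c : F} (hc : σ c = c) (h0 : c ≠ 0) : ∃ v : Fˣ, (v : F) * σ (v : F) = c := by
  obtain ⟨v, hv⟩ := C.ex_norm hc
  have : v ≠ 0 := by
    rintro rfl
    rw [zero_mul] at hv
    exact h0 hv.symm
  exact ⟨Units.mk0 v this, hv⟩

theorem ex_not_fixed : ∃ c : F, σ c ≠ c := by
  obtain ⟨c, hc⟩ := LieClassical.HermBasic.exists_not_fixed (F := F) (q := q) C.hF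
  rw [← C.hs] at hc
  exact ⟨c, hc⟩

theorem a_zero {x : HG σ} (h : ∀ y : HG σ, x * y = y * x) : x.a = 0 := by
  obtain ⟨y, hy⟩ := exists_a (σ := σ) C.hF C.hs 1
  have h1 := congrArg HG.b (h y)
  rw [mul_b, mul_b, hy, map_one, mul_one, one_mul] at h1
  have h2 : x.a = σ x.a := by linear_combination h1
  obtain ⟨c, hc⟩ := C.ex_not_fixed
  obtain ⟨z, hz⟩ := exists_a (σ := σ) C.hF C.hs c
  have h3 := congrArg HG.b (h z)
  rw [mul_b, mul_b, hz] at h3
  have h4 : x.a * (σ c - c) = 0 := by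
    linear_combination h3 - c * h2
  exact (mul_eq_zero.1 h4).resolve_right (sub_ne_zero.2 hc)

theorem map_zero_a (ψ : HG σ ≃* HG σ) {x : HG σ} (hx : x.a = 0) : (ψ x).a = 0 := by
  apply C.a_zero
  intro y
  obtain ⟨y, rfl⟩ := ψ.surjective y
  rw [← map_mul, ← map_mul, comm_of_a hx y]

/-- elements with the same first coordinate have images with the same first coordinate -/
theorem map_a_congr (ψ : HG σ ≃* HG σ) {x y : HG σ} (h : x.a = y.a) : (ψ x).a = (ψ y).a := by
  have h1 : (x⁻¹ * y).a = 0 := by rw [mul_a, inv_a, h, neg_add_cancel]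
  have h2 := C.map_zero_a ψ h1
  rw [map_mul, map_inv, mul_a, inv_a] at h2
  linear_combination -h2

theorem linear_a (ψ : HG σ ≃* HG σ) (h : ∀ (l : Fˣ) (x : HG σ), ψ (act l x) = act l (ψ x)) :
    ∃ c : F, ∀ x : HG σ, (ψ x).a = x.a * c := by
  obtain ⟨x1, hx1⟩ := exists_a (σ := σ) C.hF C.hs 1
  refine ⟨(ψ x1).a, ?_⟩
  obtain ⟨l, hl, -⟩ := C.gen
  have h4 := C.q4
  set μ : F := (l : F) ^ 2 / σ (l : F) with hμ
  have hfix : ∀ (α : F), σ α = α → ∀ x : HG σ, x.a = α → (ψ x).a = α * (ψ x1).a := by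
    intro α hα x hx
    by_cases h0 : α = 0
    · rw [C.map_zero_a ψ (hx.trans h0), h0, zero_mul]
    · have h1 : (act (Units.mk0 α h0) x1 : HG σ).a = α := by
        simp only [act, hx1, Units.val_mk0, hα, mul_one]
        field_simp
      rw [C.map_a_congr ψ (hx.trans h1.symm), h]
      simp only [act, Units.val_mk0, hα]
      field_simp
  have hμ1 : σ μ ≠ μ := by
    rw [hμ, map_div₀, map_pow, sig]
    intro h1
    have hl0 : (l : F) ≠ 0 := l.ne_zero
    have hs0 : σ (l : F) ≠ 0 := sne l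
    rw [div_eq_div_iff hl0 hs0, ← pow_succ, ← pow_succ, C.sig_units, ← Units.val_pow_eq_pow_val,
      ← Units.val_pow_eq_pow_val, Units.val_inj, ← pow_mul] at h1
    have h2 : l ^ ((q - 1) * 3) = 1 := by
      have h3 : l ^ (q * (2 + 1)) = l ^ ((q - 1) * 3) * l ^ 3 := by
        rw [← pow_add]; congr 1; omega
      rw [h3] at h1
      exact mul_eq_right.1 h1
    have h3 := hl _ h2
    have h5 : (q - 1) * (q + 1) = q ^ 2 - 1 := by
      obtain ⟨k, rfl⟩ : ∃ k, q = k + 1 := ⟨q - 1, by omega⟩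
      have : (k + 1) ^ 2 = k * (k + 2) + 1 := by ring
      rw [this]
      simp only [_root_.add_tsub_cancel_right]
    rw [← h5] at h3
    have h6 := Nat.le_of_dvd (by norm_num) (Nat.dvd_of_mul_dvd_mul_left (by omega) h3)
    omega
  intro x
  have hμ2 : μ - σ μ ≠ 0 := sub_ne_zero.2 (Ne.symm hμ1)
  have hμ3 : σ μ - μ ≠ 0 := sub_ne_zero.2 hμ1
  set β : F := (x.a - σ x.a) / (μ - σ μ) with hβ
  have hβ1 : σ β = β := by
    rw [hβ, map_div₀, map_sub, map_sub, sig, sig, div_eq_div_iff hμ3 hμ2]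
    ring
  have hβ2 : β * (μ - σ μ) = x.a - σ x.a := by rw [hβ]; field_simp
  have hα1 : σ (x.a - μ * β) = x.a - μ * β := by
    rw [map_sub, map_mul, hβ1]
    linear_combination hβ2
  obtain ⟨y, hy⟩ := exists_a (σ := σ) C.hF C.hs (x.a - μ * β)
  obtain ⟨z, hz⟩ := exists_a (σ := σ) C.hF C.hs β
  have h1 := hfix _ hα1 y hy
  have h2 := hfix _ hβ1 z hz
  have h3 : x.a = (y * act l z : HG σ).a := by
    rw [mul_a, hy]
    simp only [act, hz, ← hμ]
    ring
  rw [C.map_a_congr ψ h3, map_mul, mul_a, h, h1]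
  simp only [act, ← hμ, h2]
  ring

/-- in characteristic two, a `2`-automorphism which commutes with the torus is trivial -/
theorem p2_aux [CharP F 2] (ψ : MulAut (HG σ)) (h : ∀ (l : Fˣ) (x : HG σ), ψ (act l x) = act l (ψ x)) {m : ℕ}
    (hm : ψ ^ 2 ^ m = 1) : ψ = 1 := by
  have h4 := C.q4
  -- the centre
  have hz1 : (1 : F) + σ 1 = 0 * σ 0 := by
    rw [map_one, zero_mul, CharTwo.add_self_eq_zero]
  set z1 : HG σ := ⟨0, 1, hz1⟩ with hz1'
  have hcen : ∀ x : HG σ, x.a = 0 → (ψ x).b = x.b * (ψ z1).b := by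
    intro x hx
    by_cases h0 : x.b = 0
    · have : x = 1 := HG.ext hx h0
      rw [this, map_one, one_b, zero_mul]
    · have h1 : σ x.b = x.b := by
        have h2 := x.h
        rw [hx, zero_mul, CharTwo.add_eq_zero] at h2
        exact h2.symm
      obtain ⟨v, hv⟩ := C.ex_norm_units h1 h0
      have h2 : x = act v z1 := by
        ext
        · simp [act, z1, hx]
        · simp [act, z1, hv]
      rw [h2, h]
      simp [act, z1, hv]
  have hz1a : (ψ z1).a = 0 := C.map_zero_a ψ rfl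
  have hpowz : ∀ k : ℕ, ((ψ ^ k) z1).a = 0 ∧ ((ψ ^ k) z1).b = (ψ z1).b ^ k := by
    intro k
    induction k with
    | zero => exact ⟨rfl, by simp [z1]⟩
    | succ k ih =>
      rw [pow_succ', MulAut.mul_apply]
      exact ⟨C.map_zero_a ψ ih.1, by rw [hcen _ ih.1, ih.2, pow_succ]⟩
  have hc1 : (ψ z1).b = 1 := by
    apply eq_one_of_pow_two (m := m)
    rw [← (hpowz _).2, hm]
    rfl
  have hcen' : ∀ x : HG σ, x.a = 0 → ψ x = x := by
    intro x hx
    ext
    · rw [C.map_zero_a ψ hx, hx]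
    · rw [hcen x hx, hc1, mul_one]
  -- the quotient
  obtain ⟨c, hc⟩ := C.linear_a ψ h
  have hpow : ∀ (k : ℕ) (x : HG σ), ((ψ ^ k) x).a = x.a * c ^ k := by
    intro k
    induction k with
    | zero => intro x; simp
    | succ k ih =>
      intro x
      rw [pow_succ', MulAut.mul_apply, hc, ih, pow_succ]
      ring
  have hc2 : c = 1 := by
    apply eq_one_of_pow_two (m := m)
    obtain ⟨x1, hx1⟩ := exists_a (σ := σ) C.hF C.hs 1
    have h1 := hpow (2 ^ m) x1
    rw [hm, hx1, one_mul] at h1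
    rw [← h1]
    exact hx1
  have ha : ∀ x : HG σ, (ψ x).a = x.a := fun x => by rw [hc, hc2, mul_one]
  -- the displacement
  obtain ⟨l0, hl0, -⟩ := C.gen
  set l : Fˣ := l0 ^ (q - 1) with hl
  have h5 : (q - 1) * (q + 1) = q ^ 2 - 1 := by
    obtain ⟨k, rfl⟩ : ∃ k, q = k + 1 := ⟨q - 1, by omega⟩
    have : (k + 1) ^ 2 = k * (k + 2) + 1 := by ring
    rw [this]
    simp only [_root_.add_tsub_cancel_right]
  have hN : (l : F) * σ (l : F) = 1 := by
    rw [C.sig_units, ← Units.val_mul, ← pow_succ', hl, ← pow_mul, h5, C.pow_q, Units.val_one]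
  have hl3 : (l : F) ^ 3 ≠ 1 := by
    rw [← Units.val_pow_eq_pow_val, ← Units.val_one, Ne, Units.val_inj, hl, ← pow_mul]
    intro h6
    have h7 := hl0 _ h6
    rw [← h5] at h7
    have h6 := Nat.le_of_dvd (by norm_num) (Nat.dvd_of_mul_dvd_mul_left (by omega) h7)
    omega
  have hμ : (l : F) ^ 2 / σ (l : F) = (l : F) ^ 3 := by
    rw [div_eq_iff (sne l)]
    linear_combination (-(l : F) ^ 2) * hN
  -- `D x = x⁻¹ * ψ x`
  have hDa : ∀ x : HG σ, (x⁻¹ * ψ x).a = 0 := by
    intro x; rw [mul_a, inv_a, ha, neg_add_cancel]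
  have hDl : ∀ x : HG σ, (act l x)⁻¹ * ψ (act l x) = x⁻¹ * ψ x := by
    intro x
    have h6 : act l (x⁻¹ * ψ x) = x⁻¹ * ψ x := by
      ext
      · simp only [act, hDa x, mul_zero]
      · simp only [act, hN, one_mul]
    have h7 : act l (x⁻¹ * ψ x) = (act l x)⁻¹ * act l (ψ x) := by
      apply emb_injective (σ := σ)
      have h8 : ∀ y : HG σ, emb σ (act l y) = tor σ l * emb σ y * (tor σ l)⁻¹ := by
        intro y; rw [tor_emb, mul_inv_cancel_right]
      rw [h8, map_mul, map_mul, map_inv, map_inv, h8, h8]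
      group
    rw [h, ← h7, h6]
  have hDD : ∀ x y : HG σ, (x * y)⁻¹ * ψ (x * y) = (x⁻¹ * ψ x) * (y⁻¹ * ψ y) := by
    intro x y
    have h6 := comm_of_a (hDa x) (y⁻¹)
    rw [map_mul, _root_.mul_inv_rev]
    calc y⁻¹ * x⁻¹ * (ψ x * ψ y) = (y⁻¹ * (x⁻¹ * ψ x)) * ψ y := by group
      _ = ((x⁻¹ * ψ x) * y⁻¹) * ψ y := by rw [h6]
      _ = _ := by group
  have hD1 : ∀ x : HG σ, x.a = 0 → x⁻¹ * ψ x = 1 := by
    intro x hx
    rw [hcen' x hx, inv_mul_cancel]
  ext1 x
  rw [MulAut.one_apply]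
  have hl31 : (l : F) ^ 3 - 1 ≠ 0 := sub_ne_zero.2 hl3
  obtain ⟨y, hy⟩ := exists_a (σ := σ) C.hF C.hs (x.a / ((l : F) ^ 3 - 1))
  have h6 : ((act l y) * y⁻¹ : HG σ)⁻¹ * ψ ((act l y) * y⁻¹) = 1 := by
    rw [hDD, hDl, ← hDD, mul_inv_cancel, map_one, inv_one, one_mul]
  have h7 : (((act l y) * y⁻¹ : HG σ)⁻¹ * x).a = 0 := by
    rw [mul_a, inv_a, mul_a, inv_a, hy]
    simp only [act, hy, hμ]
    generalize (l : F) ^ 3 = k at *
    field_simp
    ring
  have h8 : x⁻¹ * ψ x = 1 := by
    have h9 := hDD ((act l y) * y⁻¹) (((act l y) * y⁻¹)⁻¹ * x)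
    rw [mul_inv_cancel_left, h6, hD1 _ h7, one_mul] at h9
    exact h9
  rwa [inv_mul_eq_one, eq_comm] at h8

end Ctx

end Cfsg.Agent.H987.R1
end

-- part: H987/R1/HypC
section
/-!
# The rank one data of `PSU(3,q)`: automorphisms which centralise the torus (helper987, S5745 OwnR1)
-/

set_option autoImplicit false
set_option linter.unusedSectionVars false

namespace Cfsg.Agent.H987.R1

open Matrix Subgroup
open Cfsg.Agent Cfsg.Agent.UThreeGen.MatGroup
open Cfsg.Agent.HKS.EndU (tor tmat tor_val tor_mem act tor_emb ci ci_val wel_tor exists_tor tor_mem_center sne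
  eq_of_emb_mul comm_of_a)
open Cfsg.Agent.H212.U3.Model (exists_a exists_equiv card_HG card_SUG card_borel index_borel card_range emb_mem)
open Cfsg.Agent.H284 (cj mem_cj conj_mem_cj)

namespace Ctx

variable {F : Type*} [Field F] [Fintype F] {q : ℕ} {σ : F →+* F} [hσ : Fact (∀ x, σ (σ x) = x)] {T : Type*}
  [Group T] {π : SUG σ →* T} (C : Ctx q σ π)

include C

theorem act_ci (l : Fˣ) (x : HG σ) : (act (ci σ l) x : HG σ).b = ((l : F) * σ (l : F))⁻¹ * x.b := by
  have h1 : (l : F) ≠ 0 := l.ne_zero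
  have h2 := sne (σ := σ) l
  simp only [act, ci_val, map_inv₀, sig]
  field_simp

/-- no automorphism of the unipotent group inverts the torus, `q ≥ 7` -/
theorem inv_aux_seven (h7 : 7 ≤ q) (ψ : HG σ ≃* HG σ)
    (h : ∀ (l : Fˣ) (x : HG σ), ψ (act l x) = act (ci σ l) (ψ x)) : False := by
  obtain ⟨c, hc⟩ := C.ex_not_fixed
  have hb : (c - σ c) + σ (c - σ c) = 0 * σ 0 := by
    rw [map_sub, sig, zero_mul]; ring
  set z0 : HG σ := ⟨0, c - σ c, hb⟩ with hz0
  have hb0 : c - σ c ≠ 0 := sub_ne_zero.2 (Ne.symm hc)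
  obtain ⟨l, hl, -⟩ := C.gen
  set ν : F := (l : F) * σ (l : F) with hν
  have hl0 : (l : F) ≠ 0 := l.ne_zero
  have hs0 := sne (σ := σ) l
  have hν0 : ν ≠ 0 := mul_ne_zero hl0 hs0
  have hνσ : σ ν = ν := by rw [hν, map_mul, sig, mul_comm]
  have hνl : ν = ((l ^ (q + 1) : Fˣ) : F) := by
    rw [hν, C.sig_units, ← Units.val_mul, ← pow_succ']
  have h5 : (q + 1) * (q - 1) = q ^ 2 - 1 := by
    obtain ⟨k, rfl⟩ : ∃ k, q = k + 1 := ⟨q - 1, by omega⟩
    have : (k + 1) ^ 2 = (k + 2) * k + 1 := by ring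
    rw [this]
    simp only [_root_.add_tsub_cancel_right]
  have hνm : ∀ m : ℕ, ν ^ m = 1 → q - 1 ∣ m := by
    intro m hm
    rw [hνl, ← Units.val_pow_eq_pow_val, Units.val_eq_one, ← pow_mul] at hm
    have h1 := hl _ hm
    rw [← h5] at h1
    exact Nat.dvd_of_mul_dvd_mul_left (by omega) h1
  have hν1 : 1 + ν ≠ 0 := by
    intro h1
    have h2 := Nat.le_of_dvd (by norm_num) (hνm 2 (by linear_combination (ν - 1) * h1))
    omega
  obtain ⟨v, hv⟩ := C.ex_norm_units (c := 1 + ν) (by rw [map_add, map_one, hνσ]) hν1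
  have h1 : act v z0 = z0 * act l z0 := by
    ext
    · simp [act, z0]
    · simp only [act, z0, mul_b, zero_mul, add_zero, hv, ← hν]
      ring
  have h2 := congrArg ψ h1
  rw [map_mul, h, h] at h2
  have ha : (ψ z0).a = 0 := C.map_zero_a ψ rfl
  have h3 := congrArg HG.b h2
  rw [mul_b, C.act_ci, C.act_ci, ha, zero_mul, add_zero, hv, ← hν] at h3
  have hB : (ψ z0).b ≠ 0 := by
    apply b_ne_zero
    intro h6
    rw [map_eq_one_iff ψ ψ.injective] at h6
    have := congrArg HG.b h6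
    exact hb0 this
  have h4 : (1 + ν)⁻¹ = 1 + ν⁻¹ := by
    apply mul_right_cancel₀ hB
    rw [h3]
    ring
  have h6 : ν ^ 2 + ν + 1 = 0 := by
    field_simp at h4
    linear_combination -h4
  have h8 := Nat.le_of_dvd (by norm_num) (hνm 3 (by linear_combination (ν - 1) * h6))
  omega

/-- no automorphism of the unipotent group inverts the torus, `q = 4` -/
theorem inv_aux_four (h4 : q = 4) (ψ : HG σ ≃* HG σ)
    (h : ∀ (l : Fˣ) (x : HG σ), ψ (act l x) = act (ci σ l) (ψ x)) : False := by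
  subst h4
  have hF := C.hF
  have h2 : CharP F 2 := by
    have hp := CharP.exists F
    obtain ⟨p, hp⟩ := hp
    obtain ⟨n, hpp, hn⟩ := FiniteField.card F p
    have h3 : p ∣ 4 ^ 2 := by
      rw [← hF, hn]
      exact dvd_pow_self p n.pos.ne'
    have h4 : p ∣ 2 := by
      have h5 : p ∣ 2 ^ 4 := h3
      exact hpp.dvd_of_dvd_pow h5
    rwa [(Nat.prime_dvd_prime_iff_eq hpp Nat.prime_two).1 h4] at hp
  obtain ⟨x1, hx1⟩ := exists_a (σ := σ) C.hF C.hs 1
  have h15 : ∀ l : Fˣ, l ^ 15 = 1 := fun l => C.pow_q l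
  have hA : (ψ x1).a ≠ 0 := by
    intro h3
    have h4 := C.map_zero_a ψ.symm h3
    rw [MulEquiv.symm_apply_apply, hx1] at h4
    exact one_ne_zero h4
  have key : ∀ (m : Fˣ) (x : HG σ), x.a = m → (ψ x).a = ((m ^ 11 : Fˣ) : F) * (ψ x1).a := by
    intro m x hx
    have h3 : (act (m ^ 7) x1 : HG σ).a = m := by
      simp only [act, hx1, mul_one]
      rw [div_eq_iff (sne _), C.sig_units, ← Units.val_pow_eq_pow_val, ← Units.val_mul, Units.val_inj, ← pow_mul,
        ← pow_mul, ← pow_succ', show 7 * 4 + 1 = 7 * 2 + 15 by norm_num, pow_add, h15, mul_one]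
    rw [C.map_a_congr ψ (hx.trans h3.symm), h]
    simp only [act]
    congr 1
    have h4 : ci σ (m ^ 7) = m ^ 2 := by
      apply Units.ext
      rw [ci_val, C.sig_units, ← Units.val_inv_eq_inv_val, Units.val_inj, ← pow_mul, inv_eq_iff_mul_eq_one,
        ← pow_add, h15 m |> fun h5 => show m ^ (7 * 4 + 2) = 1 by
          rw [show 7 * 4 + 2 = 15 * 2 by norm_num, pow_mul, h5, one_pow]]
    rw [h4, div_eq_iff (sne _), C.sig_units, ← Units.val_pow_eq_pow_val, ← Units.val_mul, Units.val_inj, ← pow_mul,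
      ← pow_mul, ← pow_add, show 11 + 2 * 4 = 2 * 2 + 15 by norm_num, pow_add, h15, mul_one]
  obtain ⟨l, hl, -⟩ := C.gen
  have hl3 : ∀ m : ℕ, (l : F) ^ m = 1 → 15 ∣ m := by
    intro m hm
    rw [← Units.val_pow_eq_pow_val, ← Units.val_one, Units.val_inj] at hm
    exact hl m hm
  obtain ⟨x, hx⟩ := exists_a (σ := σ) C.hF C.hs (l : F)
  have hl1 : (l : F) + 1 ≠ 0 := by
    intro h3
    have h4 : (l : F) ^ 1 = 1 := by rw [pow_one]; exact CharTwo.add_eq_zero.1 h3
    have := hl3 _ h4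
    omega
  have e1 := key l x hx
  have e2 := key (Units.mk0 _ hl1) (x * x1) (by rw [mul_a, hx, hx1, Units.val_mk0])
  rw [map_mul, mul_a, e1] at e2
  have e3 : (l : F) ^ 11 + 1 = ((l : F) + 1) ^ 11 := by
    apply mul_right_cancel₀ hA
    rw [Units.val_pow_eq_pow_val, Units.val_pow_eq_pow_val, Units.val_mk0] at e2
    linear_combination e2
  have e4 : ((l : F) ^ 11 + 1) * ((l : F) + 1) ^ 4 = 1 := by
    rw [e3, ← pow_add]
    have := h15 (Units.mk0 _ hl1)
    have h6 := congrArg (fun u : Fˣ => (u : F)) this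
    simpa using h6
  have e5 : ((l : F) + 1) ^ 4 = (l : F) ^ 4 + 1 := by
    have h6 : ∀ y : F, (y + 1) ^ 2 = y ^ 2 + 1 := by
      intro y
      have h8 : (2 : F) = 0 := CharTwo.two_eq_zero
      linear_combination y * h8
    rw [show (4 : ℕ) = 2 * 2 by norm_num, pow_mul, h6, h6, ← pow_mul]
  have e6 : (l : F) ^ 15 = 1 := by
    rw [← Units.val_pow_eq_pow_val, h15, Units.val_one]
  rw [e5] at e4
  have e7 : (l : F) ^ 11 + (l : F) ^ 4 + 1 = 0 := by
    linear_combination e4 - e6
  have e8 : (l : F) ^ 12 = 1 := by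
    have hl0 : (l : F) ≠ 0 := l.ne_zero
    have h8 : (2 : F) = 0 := CharTwo.two_eq_zero
    -- `l ^ 8 + l ^ 4 + 1 = 0`
    have e9 : (l : F) ^ 8 + (l : F) ^ 4 + 1 = 0 := by
      linear_combination (l : F) ^ 4 * e7 - e6
    linear_combination ((l : F) ^ 4 - 1) * e9
  have := hl3 _ e8
  omega

theorem inv_aux (h4 : q = 4 ∨ 7 ≤ q) (ψ : HG σ ≃* HG σ)
    (h : ∀ (l : Fˣ) (x : HG σ), ψ (act l x) = act (ci σ l) (ψ x)) : False := by
  rcases h4 with h4 | h4
  · exact C.inv_aux_four h4 ψ h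
  · exact C.inv_aux_seven h4 ψ h

end Ctx

end Cfsg.Agent.H987.R1
end

-- part: H987/R1/HypD
section
/-!
# The rank one data of `PSU(3,q)`: the fields `p2`, `inv`, and the group `Z` (helper987, S5745 OwnR1)
-/

set_option autoImplicit false
set_option linter.unusedSectionVars false

namespace Cfsg.Agent.H987.R1

open Matrix Subgroup
open Cfsg.Agent Cfsg.Agent.UThreeGen.MatGroup
open Cfsg.Agent.HKS.EndU (tor tmat tor_val tor_mem act tor_emb ci ci_val wel_tor exists_tor tor_mem_center sne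
  eq_of_emb_mul comm_of_a)
open Cfsg.Agent.H212.U3.Model (exists_a exists_equiv card_HG card_SUG card_borel index_borel card_range emb_mem)
open Cfsg.Agent.H284 (cj mem_cj conj_mem_cj)

namespace Ctx

variable {F : Type*} [Field F] [Fintype F] {q : ℕ} {σ : F →+* F} [hσ : Fact (∀ x, σ (σ x) = x)] {T : Type*}
  [Group T] {π : SUG σ →* T} (C : Ctx q σ π)

variable (p : ℕ) [Fact p.Prime] [CharP F p]

/-- the unipotent group -/
noncomputable def eU : HG σ ≃* (C.dat p).U :=
  MulEquiv.ofBijective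
    ((π.comp (emb σ)).codRestrict (C.dat p).U fun x => Subgroup.mem_map_of_mem π ⟨x, rfl⟩)
    ⟨fun x y h => C.pi_emb_inj (congrArg Subtype.val h), by
      rintro ⟨_, _, ⟨x, rfl⟩, rfl⟩
      exact ⟨x, rfl⟩⟩

theorem eU_val (x : HG σ) : ((C.eU p x : (C.dat p).U) : T) = π (emb σ x) := rfl

theorem eU_symm (u : (C.dat p).U) : π (emb σ ((C.eU p).symm u)) = (u : T) := by
  rw [← C.eU_val p, MulEquiv.apply_symm_apply]

theorem p2 (h2 : p = 2) (φ : MulAut (C.dat p).U) (h : ∀ t ∈ (C.dat p).T0, ∀ u v : (C.dat p).U,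
    (v : T) = t * u * t⁻¹ → ((φ v : (C.dat p).U) : T) = t * (φ u : (C.dat p).U) * t⁻¹) (m : ℕ)
    (hm : φ ^ 2 ^ m = 1) : φ = 1 := by
  subst h2
  have h1 : MulAut.congr (C.eU 2).symm φ = 1 := by
    apply C.p2_aux (m := m)
    · intro l x
      have h3 := h (π (tor σ l)) ((C.mem_T0 2).2 ⟨l, rfl⟩) (C.eU 2 x) (C.eU 2 (act l x)) (C.conj_act l x).symm
      apply C.pi_emb_inj
      rw [← C.conj_act]
      show π (emb σ ((C.eU 2).symm (φ ((C.eU 2).symm.symm (act l x))))) =
        π (tor σ l) * π (emb σ ((C.eU 2).symm (φ ((C.eU 2).symm.symm x)))) * (π (tor σ l))⁻¹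
      rw [C.eU_symm, C.eU_symm]
      exact h3
    · rw [← map_pow, hm, map_one]
  rwa [map_eq_one_iff _ (MulAut.congr (C.eU 2).symm).injective] at h1

theorem norm_conj {g b : T} : b ∈ cj g (C.dat p).B ↔ ∀ n, n ∈ cj g (C.dat p).U ↔ b * n * b⁻¹ ∈ cj g (C.dat p).U := by
  rw [mem_cj, ← (C.dat p).nU, Subgroup.mem_normalizer_iff]
  constructor
  · intro h n
    rw [mem_cj, mem_cj, h]
    have : g⁻¹ * b * g * (g⁻¹ * n * g) * (g⁻¹ * b * g)⁻¹ = g⁻¹ * (b * n * b⁻¹) * g := by group
    rw [this]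
  · intro h n
    have h1 := h (g * n * g⁻¹)
    rw [mem_cj, mem_cj] at h1
    have e1 : g⁻¹ * (g * n * g⁻¹) * g = n := by group
    have e2 : g⁻¹ * (b * (g * n * g⁻¹) * b⁻¹) * g = g⁻¹ * b * g * n * (g⁻¹ * b * g)⁻¹ := by group
    rw [e1, e2] at h1
    exact h1

theorem inv (h4 : q = 4 ∨ 7 ≤ q) (φ : MulAut T) (h : ∀ t ∈ (C.dat p).T0, φ t = t) (b : T)
    (hb : b ∈ (C.dat p).B) : φ b ∈ (C.dat p).B := by
  have hfT : Finite T := Finite.of_surjective π C.sur
  -- the Sylow subgroup
  let P : Sylow p T := { (C.dat p).U with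
    isPGroup' := (C.dat p).pU
    is_maximal' := fun {S} hS hle => (C.dat p).mU S hle hS }
  obtain ⟨g, hg⟩ := MulAction.exists_smul_eq T P (φ • P)
  have hU : (C.dat p).U.map φ.toMonoidHom = cj g (C.dat p).U := by
    have h1 := congrArg (fun Q : Sylow p T => (Q : Subgroup T)) hg
    exact h1.symm
  have hUm : ∀ x, φ x ∈ cj g (C.dat p).U ↔ x ∈ (C.dat p).U := by
    intro x
    rw [← hU]
    constructor
    · rintro ⟨y, hy, e⟩
      have : y = x := φ.injective e
      rwa [this] at hy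
    · exact fun hx => ⟨x, hx, rfl⟩
  have hBm : ∀ x, φ x ∈ cj g (C.dat p).B ↔ x ∈ (C.dat p).B := by
    intro x
    rw [C.norm_conj p, ← (C.dat p).nU, Subgroup.mem_normalizer_iff]
    constructor
    · intro h1 n
      have h2 := h1 (φ n)
      rw [← map_inv, ← map_mul, ← map_mul, hUm, hUm] at h2
      exact h2
    · intro h1 n
      obtain ⟨n, rfl⟩ := φ.surjective n
      rw [← map_inv, ← map_mul, ← map_mul, hUm, hUm]
      exact h1 n
  by_cases hgB : g ∈ (C.dat p).B
  · have h1 := (hBm b).2 hb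
    rw [mem_cj] at h1
    have h2 := mul_mem (mul_mem hgB h1) (inv_mem hgB)
    have h3 : g * (g⁻¹ * φ b * g) * g⁻¹ = φ b := by group
    rwa [h3] at h2
  · exfalso
    obtain ⟨c, hc, rfl⟩ := C.two_fix p hgB (by
      intro t ht
      have h1 : φ t ∈ cj g (C.dat p).B := (hBm t).2 ht.1
      rwa [h t ht] at h1)
    have hcU : cj ((C.dat p).w * c) (C.dat p).U = cj (C.dat p).w (C.dat p).U := by
      ext x
      rw [mem_cj, mem_cj]
      constructor
      · intro h1
        have h2 := (C.dat p).conj_U hc h1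
        have h3 : c * (((C.dat p).w * c)⁻¹ * x * ((C.dat p).w * c)) * c⁻¹ = (C.dat p).w⁻¹ * x * (C.dat p).w := by group
        rwa [h3] at h2
      · intro h1
        have h2 := (C.dat p).conj_U (inv_mem hc) h1
        have h3 : c⁻¹ * ((C.dat p).w⁻¹ * x * (C.dat p).w) * c⁻¹⁻¹ = ((C.dat p).w * c)⁻¹ * x * ((C.dat p).w * c) := by
          group
        rwa [h3] at h2
    rw [hcU] at hU hUm
    set θ : MulAut T := (MulAut.conj (C.dat p).w)⁻¹ * φ with hθ
    have hθv : ∀ x, θ x = (C.dat p).w⁻¹ * φ x * (C.dat p).w := by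
      intro x
      rw [hθ, MulAut.mul_apply, MulAut.conj_inv_apply]
    have hθU : (C.dat p).U.map θ.toMonoidHom = (C.dat p).U := by
      ext x
      constructor
      · rintro ⟨y, hy, rfl⟩
        show θ y ∈ _
        rw [hθv, ← mem_cj]
        exact (hUm y).2 hy
      · intro hx
        obtain ⟨y, rfl⟩ := θ.surjective x
        rw [hθv, ← mem_cj, hUm] at hx
        exact ⟨y, hx, rfl⟩
    let ρ : (C.dat p).U ≃* (C.dat p).U := (θ.subgroupMap (C.dat p).U).trans (MulEquiv.subgroupCongr hθU)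
    have hρ : ∀ u : (C.dat p).U, ((ρ u : (C.dat p).U) : T) = (C.dat p).w⁻¹ * φ u * (C.dat p).w := fun u => hθv u
    apply C.inv_aux h4 (((C.eU p).trans ρ).trans (C.eU p).symm)
    intro l x
    apply C.pi_emb_inj
    rw [← C.conj_act]
    show π (emb σ ((C.eU p).symm (ρ (C.eU p (act l x))))) =
      π (tor σ (ci σ l)) * π (emb σ ((C.eU p).symm (ρ (C.eU p x)))) * (π (tor σ (ci σ l)))⁻¹
    rw [C.eU_symm, C.eU_symm, hρ, hρ, C.eU_val, C.eU_val, ← C.conj_act, map_mul φ, map_mul φ, map_inv φ,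
      h _ ((C.mem_T0 p).2 ⟨l, rfl⟩)]
    have h8 : (C.dat p).w⁻¹ * π (tor σ l) * (C.dat p).w = π (tor σ (ci σ l)) := by
      show (π (wel σ))⁻¹ * π (tor σ l) * π (wel σ) = _
      rw [← map_inv, ← map_mul, ← map_mul, wel_inv, wel_tor]
    rw [← h8]
    group

/-- the group of homologies -/
def Z : Subgroup T where
  carrier := {t | t ∈ (C.dat p).T0 ∧ t ^ (q + 1) = 1}
  mul_mem' := by
    rintro a b ⟨ha, ha'⟩ ⟨hb, hb'⟩
    refine ⟨mul_mem ha hb, ?_⟩
    have : Commute a b := by
      obtain ⟨l, rfl⟩ := (C.mem_T0 p).1 ha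
      obtain ⟨m, rfl⟩ := (C.mem_T0 p).1 hb
      show π (tor σ l) * π (tor σ m) = π (tor σ m) * π (tor σ l)
      rw [← map_mul, ← map_mul, ← map_mul, ← map_mul, mul_comm]
    rw [this.mul_pow, ha', hb', one_mul]
  one_mem' := ⟨one_mem _, one_pow _⟩
  inv_mem' := by
    rintro a ⟨ha, ha'⟩
    exact ⟨inv_mem ha, by rw [inv_pow, ha', inv_one]⟩

theorem tor_inj {l m : Fˣ} (h : tor σ l = tor σ m) : l = m := by
  apply Units.ext
  have h8 := congrArg (fun g : SUG σ => g.1.1 0 0) h
  simpa [tor_val, tmat] using h8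

theorem norm_of_Z {l : Fˣ} (h : π (tor σ l) ∈ C.Z p) : (l : F) * σ (l : F) = 1 := by
  have h1 := h.2
  rw [← map_pow, ← map_pow, C.ker] at h1
  obtain ⟨c, hc, hc2⟩ := C.cen_tor h1
  have h2 : l ^ (q + 1) = c := Ctx.tor_inj hc
  have h3 : (c : F) = (l : F) * σ (l : F) := by
    rw [← h2, C.sig_units, ← Units.val_mul, ← pow_succ']
  have h4 : σ (c : F) = c := by rw [h3, map_mul, sig, mul_comm]
  rw [h4, sq] at hc2
  rw [← h3]
  exact mul_left_cancel₀ (Units.ne_zero c) (hc2.trans (mul_one _).symm)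

theorem Z_ne_bot : C.Z p ≠ ⊥ := by
  intro h
  have h4 := C.q4
  obtain ⟨l0, hl0, -⟩ := C.gen
  have h5 : (q - 1) * (q + 1) = q ^ 2 - 1 := by
    obtain ⟨k, rfl⟩ : ∃ k, q = k + 1 := ⟨q - 1, by omega⟩
    have : (k + 1) ^ 2 = k * (k + 2) + 1 := by ring
    rw [this]
    simp only [_root_.add_tsub_cancel_right]
  have h1 : π (tor σ (l0 ^ (q - 1))) ∈ C.Z p := by
    refine ⟨(C.mem_T0 p).2 ⟨_, rfl⟩, ?_⟩
    rw [← map_pow, ← map_pow, ← pow_mul, h5, C.pow_q, map_one, map_one]
  rw [h, Subgroup.mem_bot, C.ker] at h1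
  obtain ⟨c, hc, hc2⟩ := C.cen_tor h1
  have h2 := Ctx.tor_inj hc
  have h3 : (c : F) * σ (c : F) = 1 := by
    rw [C.sig_units, ← Units.val_mul, ← pow_succ', ← h2, ← pow_mul, h5, C.pow_q, Units.val_one]
  rw [← hc2] at h3
  have h6 : c ^ 3 = 1 := by
    apply Units.ext
    rw [Units.val_pow_eq_pow_val, Units.val_one, ← h3]
    ring
  rw [← h2, ← pow_mul] at h6
  have h7 := hl0 _ h6
  rw [← h5] at h7
  have h8 := Nat.le_of_dvd (by norm_num) (Nat.dvd_of_mul_dvd_mul_left (by omega) h7)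
  omega

theorem Z_ne_top : C.Z p ≠ ⊤ := by
  intro h
  apply (C.dat p).wB
  have h1 : (C.dat p).w ∈ C.Z p := by rw [h]; trivial
  exact h1.1.1

theorem Z_T0 (φ : MulAut T) (hφ : ∀ x ∈ (C.dat p).T0, φ x ∈ (C.dat p).T0) (z : T) (hz : z ∈ C.Z p) :
    φ z ∈ C.Z p := ⟨hφ z hz.1, by rw [← map_pow, hz.2, map_one]⟩

/-- overgroups of `T0` which centralise `Z` -/
theorem Z_inv {K : Subgroup T} (hK : (C.dat p).T0 ≤ K) (hZ : ∀ z ∈ C.Z p, ∀ k ∈ K, z * k = k * z)
    (φ : MulAut T) (hφ : ∀ x ∈ K, φ x ∈ K) (z : T) (hz : z ∈ C.Z p) : φ z ∈ C.Z p := by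
  have hfT : Finite T := Finite.of_surjective π C.sur
  refine ⟨?_, by rw [← map_pow, hz.2, map_one]⟩
  have hsur : ∀ x ∈ K, ∃ y ∈ K, φ y = x := by
    have h1 : K.map φ.toMonoidHom = K := by
      apply Subgroup.eq_of_le_of_card_ge
      · rintro _ ⟨x, hx, rfl⟩
        exact hφ x hx
      · exact (Nat.card_congr (K.equivMapOfInjective φ.toMonoidHom φ.injective).toEquiv).le
    intro x hx
    rw [← h1] at hx
    obtain ⟨y, hy, e⟩ := hx
    exact ⟨y, hy, e⟩
  apply C.cent p
  intro t ht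
  obtain ⟨y, hy, rfl⟩ := hsur t (hK ht)
  rw [← map_mul, ← map_mul, hZ z hz y hy]

end Ctx

end Cfsg.Agent.H987.R1
end

-- part: H987/R1/Reg
section
/-!
# A regular element of `SU(3,q)` in a basis of eigenvectors (helper987, S5745 OwnR1)

`Reg q l b g` : `g` has the eigenvalues `l, l ^ (q - 1), l ^ (- q)` on the basis `b`, `l` of order `q ^ 2 - 1`.
-/

set_option autoImplicit false

namespace Cfsg.Agent.H987.R1

open Matrix Module

variable {F : Type*} [Field F]

/-- the eigenvalues -/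
def tt (q : ℕ) (l : Fˣ) : Fin 3 → Fˣ := ![l, l ^ (q - 1), (l ^ q)⁻¹]

/-- a regular element -/
structure Reg (q : ℕ) (l : Fˣ) (b : Basis (Fin 3) F (Fin 3 → F)) (g : GL (Fin 3) F) : Prop where
  hq : q = 4 ∨ 7 ≤ q
  ord : ∀ k : ℕ, l ^ k = 1 → q ^ 2 - 1 ∣ k
  eig : ∀ i, (g : Matrix (Fin 3) (Fin 3) F) *ᵥ b i = ((tt q l i : Fˣ) : F) • b i

section arith

variable {q : ℕ} {l : Fˣ}

theorem dvd_of_zero_one (hq : 4 ≤ q) (hl : ∀ k : ℕ, l ^ k = 1 → q ^ 2 - 1 ∣ k) {m : ℕ}
    (h : tt q l 1 ^ m = tt q l 0 ^ m) : q ^ 2 - 1 ∣ 3 * m := by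
  obtain ⟨r, rfl⟩ : ∃ r, q = r + 2 := ⟨q - 2, by omega⟩
  have h1 : (l ^ (r + 1)) ^ m = l ^ m := h
  have h2 : l ^ (r * m) = 1 := by
    rw [← pow_mul, add_mul, one_mul, pow_add] at h1
    exact mul_eq_right.1 h1
  have h3 := hl _ h2
  have e : (r + 2) ^ 2 - 1 = r ^ 2 + 4 * r + 3 := by
    have : (r + 2) ^ 2 = r ^ 2 + 4 * r + 3 + 1 := by ring
    omega
  rw [e] at h3 ⊢
  have h4 : r ^ 2 + 4 * r + 3 ∣ (r * m) * (r + 4) + 3 * m := ⟨m, by ring⟩
  exact (Nat.dvd_add_right (h3.mul_right _)).1 h4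

theorem dvd_of_one_two (hq : 4 ≤ q) (hl : ∀ k : ℕ, l ^ k = 1 → q ^ 2 - 1 ∣ k) {m : ℕ}
    (h : tt q l 1 ^ m = tt q l 2 ^ m) : q ^ 2 - 1 ∣ 3 * m := by
  obtain ⟨r, rfl⟩ : ∃ r, q = r + 1 := ⟨q - 1, by omega⟩
  have h1 : (l ^ r) ^ m = ((l ^ (r + 1))⁻¹) ^ m := h
  have h2 : l ^ ((2 * r + 1) * m) = 1 := by
    have e : (2 * r + 1) * m = r * m + (r + 1) * m := by ring
    rw [e, pow_add, pow_mul, pow_mul, h1, ← mul_pow, inv_mul_cancel, one_pow]
  have h3 := hl _ h2
  have e : (r + 1) ^ 2 - 1 = r ^ 2 + 2 * r := by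
    have : (r + 1) ^ 2 = r ^ 2 + 2 * r + 1 := by ring
    omega
  rw [e] at h3 ⊢
  have h4 : r ^ 2 + 2 * r ∣ (r ^ 2 + 2 * r) * (4 * m) + 3 * m := by
    have : (r ^ 2 + 2 * r) * (4 * m) + 3 * m = (2 * r + 1) * m * (2 * r + 3) := by ring
    rw [this]
    exact h3.mul_right _
  exact (Nat.dvd_add_right (dvd_mul_right _ _)).1 h4

theorem dvd_of_zero_two (hq : 4 ≤ q) (hl : ∀ k : ℕ, l ^ k = 1 → q ^ 2 - 1 ∣ k) {m : ℕ}
    (h : tt q l 0 ^ m = tt q l 2 ^ m) : q - 1 ∣ m := by
  obtain ⟨r, rfl⟩ : ∃ r, q = r + 1 := ⟨q - 1, by omega⟩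
  have h1 : l ^ m = ((l ^ (r + 1))⁻¹) ^ m := h
  have h2 : l ^ ((r + 2) * m) = 1 := by
    have e : (r + 2) * m = m + (r + 1) * m := by ring
    rw [e, pow_add, pow_mul, h1, ← mul_pow, inv_mul_cancel, one_pow]
  have h3 := hl _ h2
  have e : (r + 1) ^ 2 - 1 = (r + 2) * r := by
    have : (r + 1) ^ 2 = (r + 2) * r + 1 := by ring
    omega
  rw [e] at h3
  exact Nat.dvd_of_mul_dvd_mul_left (by omega) h3

theorem not_dvd (hq : q = 4 ∨ 7 ≤ q) {m : ℕ} (h : m = 1 ∨ m = 2 ∨ m = 3 ∨ m = 6) : ¬ q ^ 2 - 1 ∣ 3 * m := by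
  intro h1
  rcases hq with rfl | hq
  · have h2 : 15 ∣ 3 * m := h1
    omega
  · have h2 := Nat.le_of_dvd (by omega) h1
    have : 49 ≤ q ^ 2 := by nlinarith only [hq]
    omega

end arith

namespace Reg

variable {q : ℕ} {l : Fˣ} {b : Basis (Fin 3) F (Fin 3 → F)} {g : GL (Fin 3) F} (R : Reg q l b g)

include R

theorem four_le : 4 ≤ q := by rcases R.hq with h | h <;> omega

theorem eig_pow (m : ℕ) (i : Fin 3) :
    ((g ^ m : GL (Fin 3) F) : Matrix (Fin 3) (Fin 3) F) *ᵥ b i = ((tt q l i : Fˣ) : F) ^ m • b i := by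
  induction m with
  | zero => simp
  | succ m ih =>
    rw [pow_succ', Units.val_mul, ← mulVec_mulVec, ih, mulVec_smul, R.eig, smul_smul, pow_succ]

theorem repr_pow (m : ℕ) (w : Fin 3 → F) (i : Fin 3) :
    b.repr (((g ^ m : GL (Fin 3) F) : Matrix (Fin 3) (Fin 3) F) *ᵥ w) i =
      ((tt q l i : Fˣ) : F) ^ m * b.repr w i := by
  have h1 : ((g ^ m : GL (Fin 3) F) : Matrix (Fin 3) (Fin 3) F) *ᵥ w =
      ∑ j, b.repr w j • (((tt q l j : Fˣ) : F) ^ m • b j) := by
    conv_lhs => rw [← b.sum_repr w]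
    rw [← Matrix.mulVecLin_apply, map_sum]
    refine Finset.sum_congr rfl fun j _ => ?_
    rw [map_smul, Matrix.mulVecLin_apply, R.eig_pow]
  rw [h1, map_sum, Finsupp.finsetSum_apply, Finset.sum_eq_single i]
  · rw [map_smul, map_smul, Finsupp.smul_apply, Finsupp.smul_apply, b.repr_self, Finsupp.single_eq_same]
    simp [mul_comm]
  · intro j _ hj
    rw [map_smul, map_smul, Finsupp.smul_apply, Finsupp.smul_apply, b.repr_self, Finsupp.single_eq_of_ne hj.symm]
    simp
  · intro h; exact absurd (Finset.mem_univ _) h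

/-- coordinates of an eigenvector -/
theorem coord {m : ℕ} {w : Fin 3 → F} {c : F}
    (h : ((g ^ m : GL (Fin 3) F) : Matrix (Fin 3) (Fin 3) F) *ᵥ w = c • w) (i : Fin 3) :
    b.repr w i = 0 ∨ ((tt q l i : Fˣ) : F) ^ m = c := by
  have h1 := R.repr_pow m w i
  rw [h, map_smul, Finsupp.smul_apply, smul_eq_mul] at h1
  by_cases h2 : b.repr w i = 0
  · exact Or.inl h2
  · exact Or.inr (mul_right_cancel₀ h2 h1).symm

omit R in
/-- a vector with one coordinate -/
theorem eq_smul {w : Fin 3 → F} {i : Fin 3} (h : ∀ j, j ≠ i → b.repr w j = 0) : w = b.repr w i • b i := by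
  conv_lhs => rw [← b.sum_repr w]
  rw [Finset.sum_eq_single i]
  · intro j _ hj
    rw [h j hj, zero_smul]
  · intro h; exact absurd (Finset.mem_univ _) h

theorem ne_one {m : ℕ} (hm : ¬ q ^ 2 - 1 ∣ 3 * m) {i : Fin 3} (hi : i ≠ 1) :
    ((tt q l i : Fˣ) : F) ^ m ≠ ((tt q l 1 : Fˣ) : F) ^ m := by
  intro h
  apply hm
  have h1 : tt q l 1 ^ m = tt q l i ^ m := by
    apply Units.ext
    rw [Units.val_pow_eq_pow_val, Units.val_pow_eq_pow_val, h]
  fin_cases i
  · exact dvd_of_zero_one R.four_le R.ord h1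
  · exact absurd rfl hi
  · exact dvd_of_one_two R.four_le R.ord h1

theorem ne_zero_two {m : ℕ} (hm : ¬ q - 1 ∣ m) :
    ((tt q l 0 : Fˣ) : F) ^ m ≠ ((tt q l 2 : Fˣ) : F) ^ m := by
  intro h
  apply hm
  apply dvd_of_zero_two R.four_le R.ord
  apply Units.ext
  rw [Units.val_pow_eq_pow_val, Units.val_pow_eq_pow_val, h]

/-- the powers `1` and `2` have distinct eigenvalues -/
theorem inj_pow {m : ℕ} (hm : m = 1 ∨ m = 2) {i j : Fin 3} (h : ((tt q l i : Fˣ) : F) ^ m = ((tt q l j : Fˣ) : F) ^ m) :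
    i = j := by
  have h4 := R.four_le
  have h1 : ¬ q ^ 2 - 1 ∣ 3 * m := not_dvd R.hq (by omega)
  have h2 : ¬ q - 1 ∣ m := by
    intro h5
    have := Nat.le_of_dvd (by omega) h5
    omega
  have h3 := R.ne_zero_two h2
  by_contra hij
  by_cases hi : i = 1
  · subst hi
    exact R.ne_one h1 (Ne.symm hij) h.symm
  by_cases hj : j = 1
  · subst hj
    exact R.ne_one h1 hi h
  fin_cases i <;> fin_cases j <;> simp_all only [_root_.Fin.isValue, _root_.ne_eq, _root_.Fin.zero_eta, _root_.zero_ne_one, _root_.not_false_eq_true, _root_.not_true_eq_false, _root_.Fin.mk_one, _root_.Fin.reduceFinMk, _root_.Fin.reduceEq]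

/-- an eigenvector of `g` or `g ^ 2` lies on a line of the basis -/
theorem exists_line {m : ℕ} (hm : m = 1 ∨ m = 2) {w : Fin 3 → F} (hw : w ≠ 0) {c : F}
    (h : ((g ^ m : GL (Fin 3) F) : Matrix (Fin 3) (Fin 3) F) *ᵥ w = c • w) :
    ∃ i, ∃ a : F, a ≠ 0 ∧ w = a • b i := by
  obtain ⟨i, hi⟩ : ∃ i, b.repr w i ≠ 0 := by
    by_contra hn
    push Not at hn
    apply hw
    rw [← b.sum_repr w]
    exact Finset.sum_eq_zero fun i _ => by rw [hn i, zero_smul]
  refine ⟨i, b.repr w i, hi, eq_smul fun j hj => ?_⟩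
  rcases R.coord h j with h1 | h1
  · exact h1
  · rcases R.coord h i with h2 | h2
    · exact absurd h2 hi
    · exact absurd (R.inj_pow hm (h1.trans h2.symm)) hj

/-- a matrix which commutes with `g ^ m` fixes `⟨b 1⟩` -/
theorem fix_one {m : ℕ} (hm : ¬ q ^ 2 - 1 ∣ 3 * m) {x : Matrix (Fin 3) (Fin 3) F}
    (h : x * ((g ^ m : GL (Fin 3) F) : Matrix (Fin 3) (Fin 3) F) = ((g ^ m : GL (Fin 3) F) : Matrix (Fin 3) (Fin 3) F) * x) :
    ∃ c : F, x *ᵥ b 1 = c • b 1 := by
  refine ⟨b.repr (x *ᵥ b 1) 1, eq_smul fun j hj => ?_⟩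
  have h1 : ((g ^ m : GL (Fin 3) F) : Matrix (Fin 3) (Fin 3) F) *ᵥ (x *ᵥ b 1) =
      (((tt q l 1 : Fˣ) : F) ^ m) • (x *ᵥ b 1) := by
    rw [mulVec_mulVec, ← h, ← mulVec_mulVec, R.eig_pow, mulVec_smul]
  rcases R.coord h1 j with h2 | h2
  · exact h2
  · exact absurd h2 (R.ne_one hm hj)

end Reg

end Cfsg.Agent.H987.R1
end

-- part: H987/R1/Geo
section
/-!
# Geometric maximal subgroups of `SU(3,q)` which contain a regular element of order `q ^ 2 - 1` (helper987, S5745 OwnR1)
-/

set_option autoImplicit false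

namespace Cfsg.Agent.H987.R1

open Matrix Module Cfsg Cfsg.Geo

variable {F : Type*} [Field F]

/-- `h` fixes the line `⟨w⟩` -/
def Fix (h : GL (Fin 3) F) (w : Fin 3 → F) : Prop := ∃ c : F, (h : Matrix (Fin 3) (Fin 3) F) *ᵥ w = c • w

namespace Reg

variable {q : ℕ} {l : Fˣ} {b : Basis (Fin 3) F (Fin 3 → F)} {g : GL (Fin 3) F} (R : Reg q l b g)

include R

theorem inj {i j : Fin 3} (h : ((tt q l i : Fˣ) : F) = ((tt q l j : Fˣ) : F)) : i = j :=
  R.inj_pow (m := 1) (Or.inl rfl) (by rw [pow_one, pow_one, h])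

omit R in
theorem third (i : Fin 3) : ∃ j k : Fin 3, j ≠ i ∧ k ≠ i ∧ ∀ m, m ≠ i → m = j ∨ m = k := by
  revert i; decide

theorem repr_one (w : Fin 3 → F) (i : Fin 3) :
    b.repr ((g : Matrix (Fin 3) (Fin 3) F) *ᵥ w) i = ((tt q l i : Fˣ) : F) * b.repr w i := by
  have := R.repr_pow 1 w i
  rwa [pow_one, pow_one] at this

/-- the projections onto the eigenspaces -/
theorem proj {W : Submodule F (Fin 3 → F)} (hW : ∀ w ∈ W, (g : Matrix (Fin 3) (Fin 3) F) *ᵥ w ∈ W)
    {w : Fin 3 → F} (hw : w ∈ W) {i : Fin 3} (hi : b.repr w i ≠ 0) : b i ∈ W := by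
  obtain ⟨j, k, hj, hk, hjk⟩ := third i
  set y : Fin 3 → F := (g : Matrix (Fin 3) (Fin 3) F) *ᵥ ((g : Matrix (Fin 3) (Fin 3) F) *ᵥ w) -
    (((tt q l j : Fˣ) : F) + (tt q l k : Fˣ)) • ((g : Matrix (Fin 3) (Fin 3) F) *ᵥ w) +
    (((tt q l j : Fˣ) : F) * (tt q l k : Fˣ)) • w with hy
  have h1 : y ∈ W := W.add_mem (W.sub_mem (hW _ (hW _ hw)) (W.smul_mem _ (hW _ hw))) (W.smul_mem _ hw)
  have h2 : ∀ m, b.repr y m = (((tt q l m : Fˣ) : F) - (tt q l j : Fˣ)) * (((tt q l m : Fˣ) : F) - (tt q l k : Fˣ)) *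
      b.repr w m := by
    intro m
    rw [hy, map_add, map_sub, Finsupp.add_apply, Finsupp.sub_apply, R.repr_one, R.repr_one, map_smul, map_smul,
      Finsupp.smul_apply, Finsupp.smul_apply, R.repr_one, smul_eq_mul, smul_eq_mul]
    ring
  have h3 : y = b.repr y i • b i := by
    apply eq_smul
    intro m hm
    rw [h2]
    rcases hjk m hm with rfl | rfl
    · rw [sub_self, zero_mul, zero_mul]
    · rw [sub_self, mul_zero, zero_mul]
  have h4 : b.repr y i ≠ 0 := by
    rw [h2]
    refine mul_ne_zero (mul_ne_zero (sub_ne_zero.2 fun h => hj (R.inj h).symm)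
      (sub_ne_zero.2 fun h => hk (R.inj h).symm)) hi
  rw [h3] at h1
  have h5 := W.smul_mem (b.repr y i)⁻¹ h1
  rwa [smul_smul, inv_mul_cancel₀ h4, one_smul] at h5

theorem exists_mem {W : Submodule F (Fin 3 → F)} (hW : ∀ w ∈ W, (g : Matrix (Fin 3) (Fin 3) F) *ᵥ w ∈ W)
    (h : W ≠ ⊥) : ∃ i, b i ∈ W := by
  obtain ⟨w, hw, hw0⟩ := Submodule.exists_mem_ne_zero_of_ne_bot h
  obtain ⟨i, hi⟩ : ∃ i, b.repr w i ≠ 0 := by
    by_contra hn
    push Not at hn
    apply hw0
    rw [← b.sum_repr w]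
    exact Finset.sum_eq_zero fun i _ => by rw [hn i, zero_smul]
  exact ⟨i, R.proj hW hw hi⟩

omit R in
theorem stab {W : Submodule F (Fin 3 → F)} {h : GL (Fin 3) F} (hh : h ∈ subspaceStabilizer W) {w : Fin 3 → F}
    (hw : w ∈ W) : (h : Matrix (Fin 3) (Fin 3) F) *ᵥ w ∈ W := (hh w).1 hw

/-- totally singular subspaces -/
theorem case_one {W : Submodule F (Fin 3 → F)} (hW : W ≠ ⊥) (hs : IsTotallySingularFor (hermForm 3 F q) W)
    (h11 : hermForm 3 F q (b 1) (b 1) ≠ 0) (h02 : hermForm 3 F q (b 0) (b 2) ≠ 0)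
    (hg : g ∈ subspaceStabilizer W) : ∃ i, ∀ h ∈ subspaceStabilizer W, Fix h (b i) := by
  have hW' : ∀ w ∈ W, (g : Matrix (Fin 3) (Fin 3) F) *ᵥ w ∈ W := fun w hw => stab hg hw
  obtain ⟨i, hi⟩ := R.exists_mem hW' hW
  have h1 : b 1 ∉ W := fun h => h11 (hs _ h _ h)
  have h2 : ¬ (b 0 ∈ W ∧ b 2 ∈ W) := fun h => h02 (hs _ h.1 _ h.2)
  refine ⟨i, fun h hh => ⟨b.repr ((h : Matrix (Fin 3) (Fin 3) F) *ᵥ b i) i, eq_smul fun j hj => ?_⟩⟩
  by_contra h3
  have h4 := R.proj hW' (stab hh hi) h3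
  fin_cases i <;> fin_cases j <;> simp_all only [_root_.ne_eq, _root_.Fin.isValue, _root_.not_and, _root_.Fin.zero_eta, _root_.not_true_eq_false, _root_.Fin.mk_one, _root_.Fin.reduceFinMk, _root_.Fin.reduceEq, _root_.not_false_eq_true, _root_.imp_false]

/-- nondegenerate points -/
theorem case_two {W : Submodule F (Fin 3 → F)} (hW : W ≠ ⊥) (hs : 2 * finrank F W < 3)
    (hg : g ∈ subspaceStabilizer W) : ∃ i, ∀ h ∈ subspaceStabilizer W, Fix h (b i) := by
  have hW' : ∀ w ∈ W, (g : Matrix (Fin 3) (Fin 3) F) *ᵥ w ∈ W := fun w hw => stab hg hw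
  obtain ⟨i, hi⟩ := R.exists_mem hW' hW
  obtain ⟨v, hv⟩ := finrank_le_one_iff.1 (show finrank F W ≤ 1 by omega)
  obtain ⟨c, hc⟩ := hv ⟨b i, hi⟩
  have hc' : c • (v : Fin 3 → F) = b i := congrArg Subtype.val hc
  have hc0 : c ≠ 0 := by
    rintro rfl
    rw [zero_smul] at hc'
    exact b.ne_zero i hc'.symm
  refine ⟨i, fun h hh => ?_⟩
  obtain ⟨d, hd⟩ := hv ⟨_, stab hh hi⟩
  have hd' : d • (v : Fin 3 → F) = (h : Matrix (Fin 3) (Fin 3) F) *ᵥ b i := congrArg Subtype.val hd
  refine ⟨d * c⁻¹, ?_⟩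
  rw [← hd', ← hc', smul_smul, mul_assoc, inv_mul_cancel₀ hc0, mul_one]

omit R in
theorem perm_fix (σ : Equiv.Perm (Fin 3)) (k : Fin 3) (h : σ k = k) : σ ^ 2 = 1 := by
  revert σ k; decide +kernel

omit R in
theorem perm_free (σ : Equiv.Perm (Fin 3)) (h : ∀ k, σ k ≠ k) : σ ^ 3 = 1 := by
  revert σ; decide +kernel

omit R in
theorem map_pow {D : Fin 3 → Submodule F (Fin 3 → F)} {σ : Equiv.Perm (Fin 3)}
    (h : ∀ i, (D i).map (Matrix.toLin' (g : Matrix (Fin 3) (Fin 3) F)) = D (σ i)) (m : ℕ) (i : Fin 3) :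
    (D i).map (Matrix.toLin' ((g ^ m : GL (Fin 3) F) : Matrix (Fin 3) (Fin 3) F)) = D ((σ ^ m) i) := by
  induction m generalizing i with
  | zero => simp
  | succ m ih =>
    rw [pow_succ', Units.val_mul, Matrix.toLin'_mul, Submodule.map_comp, ih, h, pow_succ', Equiv.Perm.mul_apply]

/-- orthogonal decompositions -/
theorem case_three {D : Fin 3 → Submodule F (Fin 3 → F)}
    (hD : IsNondegenerateMDecomposition (hermForm 3 F q) 1 D)
    (h00 : hermForm 3 F q (b 0) (b 0) = 0) (h22 : hermForm 3 F q (b 2) (b 2) = 0)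
    (hg : g ∈ decompositionStabilizer D) : False := by
  obtain ⟨σ, hσ⟩ := hg
  have hw : ∀ i, ∃ w : Fin 3 → F, w ∈ D i ∧ w ≠ 0 ∧ ∀ x ∈ D i, ∃ c : F, x = c • w := by
    intro i
    obtain ⟨v, hv0, hv⟩ := finrank_eq_one_iff'.1 (hD.decomp.finrank_eq i)
    refine ⟨v, v.2, fun h => hv0 (Subtype.ext h), fun x hx => ?_⟩
    obtain ⟨c, hc⟩ := hv ⟨x, hx⟩
    exact ⟨c, (congrArg Subtype.val hc).symm⟩
  choose w hw1 hw2 hw3 using hw
  have hdis : ∀ i j, i ≠ j → ∀ x ∈ D i, x ∈ D j → x = 0 := by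
    intro i j hij x hx hx'
    have h1 := hD.decomp.indep.pairwiseDisjoint hij
    exact Submodule.disjoint_def.1 h1 x hx hx'
  have heig : ∀ m, σ ^ m = 1 → ∀ i, ∃ c : F, ((g ^ m : GL (Fin 3) F) : Matrix (Fin 3) (Fin 3) F) *ᵥ w i = c • w i := by
    intro m hm i
    have h1 := map_pow hσ m i
    rw [hm] at h1
    apply hw3 i
    have h2 : Matrix.toLin' ((g ^ m : GL (Fin 3) F) : Matrix (Fin 3) (Fin 3) F) (w i) ∈
      (D i).map (Matrix.toLin' ((g ^ m : GL (Fin 3) F) : Matrix (Fin 3) (Fin 3) F)) := Submodule.mem_map_of_mem (hw1 i)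
    rw [h1] at h2
    rwa [Matrix.toLin'_apply] at h2
  by_cases hfix : ∃ k, σ k = k
  · obtain ⟨k, hk⟩ := hfix
    have h2 := perm_fix σ k hk
    have h3 : ∀ i, ∃ a : F, a ≠ 0 ∧ w i = a • b 1 := by
      intro i
      obtain ⟨c, hc⟩ := heig 2 h2 i
      obtain ⟨j, a, ha, haj⟩ := R.exists_line (Or.inr rfl) (hw2 i) hc
      have hj : hermForm 3 F q (b j) (b j) ≠ 0 := by
        obtain ⟨⟨x, hx, hx'⟩, -⟩ := hD.nondegenerate i (w i) (hw1 i) (hw2 i)
        intro h4
        apply hx'
        obtain ⟨d, rfl⟩ := hw3 i x hx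
        rw [haj]
        have : hermForm 3 F q (d • a • b j) (a • b j) = d * a * a ^ q * hermForm 3 F q (b j) (b j) := by
          simp only [hermForm, Finset.mul_sum, Pi.smul_apply, smul_eq_mul, mul_pow]
          refine Finset.sum_congr rfl fun k _ => ?_
          ring
        rw [this, h4, mul_zero]
      have hj1 : j = 1 := by
        fin_cases j
        · exact absurd h00 hj
        · rfl
        · exact absurd h22 hj
      subst hj1
      exact ⟨a, ha, haj⟩
    obtain ⟨a, ha, h4⟩ := h3 0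
    obtain ⟨c, hc, h5⟩ := h3 1
    apply hw2 0
    apply hdis 0 1 (by decide) _ (hw1 0)
    have h6 : w 0 = (a * c⁻¹) • w 1 := by
      rw [h4, h5, smul_smul, mul_assoc, inv_mul_cancel₀ hc, mul_one]
    rw [h6]
    exact (D 1).smul_mem _ (hw1 1)
  · push Not at hfix
    have h2 := perm_free σ hfix
    have h18 : ¬ q ^ 2 - 1 ∣ 3 * 3 := not_dvd R.hq (by omega)
    have h3 : ∀ i, b.repr (w i) 1 = 0 := by
      intro i
      by_contra h4
      obtain ⟨c, hc⟩ := heig 3 h2 i
      have h5 := (R.coord hc 1).resolve_left h4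
      have h6 : w i = b.repr (w i) 1 • b 1 := by
        apply eq_smul
        intro j hj
        rcases R.coord hc j with h7 | h7
        · exact h7
        · exact absurd (h7.trans h5.symm) (R.ne_one h18 hj)
      apply hw2 i
      apply hdis i (σ i) (fun h => hfix i h.symm) _ (hw1 i)
      have h8 : Matrix.toLin' (g : Matrix (Fin 3) (Fin 3) F) (w i) ∈ D (σ i) := by
        rw [← hσ i]
        exact Submodule.mem_map_of_mem (hw1 i)
      have h9 : Matrix.toLin' (g : Matrix (Fin 3) (Fin 3) F) (w i) = ((tt q l 1 : Fˣ) : F) • w i := by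
        rw [Matrix.toLin'_apply]
        conv_lhs => rw [h6]
        rw [mulVec_smul, R.eig, smul_comm, ← h6]
      rw [h9] at h8
      have h10 := (D (σ i)).smul_mem (((tt q l 1 : Fˣ) : F))⁻¹ h8
      rwa [smul_smul, inv_mul_cancel₀ (Units.ne_zero _), one_smul] at h10
    have h4 : (⊤ : Submodule F (Fin 3 → F)) ≤ LinearMap.ker (b.coord 1) := by
      rw [← hD.decomp.iSup_eq_top]
      apply iSup_le
      intro i x hx
      obtain ⟨c, rfl⟩ := hw3 i x hx
      rw [LinearMap.mem_ker, map_smul, b.coord_apply, h3, smul_zero]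
    have h5 : b 1 ∈ LinearMap.ker (b.coord 1) := h4 Submodule.mem_top
    rw [LinearMap.mem_ker, b.coord_apply, b.repr_self, Finsupp.single_eq_same] at h5
    exact one_ne_zero h5

end Reg

end Cfsg.Agent.H987.R1
end

-- part: H987/R1/GeoB
section
/-!
# Geometric maximal subgroups of `SU(3,q)` which contain a regular element, second part (helper987, S5745 OwnR1)
-/

set_option autoImplicit false

namespace Cfsg.Agent.H987.R1

open Matrix Module Cfsg Cfsg.Geo

variable {F : Type*} [Field F]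

namespace Reg

variable {q : ℕ} {l : Fˣ} {b : Basis (Fin 3) F (Fin 3 → F)} {g : GL (Fin 3) F} (R : Reg q l b g)

include R

/-- normalisers of cubic fields -/
theorem case_four {K : Subalgebra F (Matrix (Fin 3) (Fin 3) F)} (hK : IsFieldSubalgebra 3 K)
    (hg : g ∈ subalgebraNormalizer K) : False := by
  have hinj : ∀ x ∈ K, x *ᵥ b 1 = 0 → x = 0 := by
    intro x hx h
    by_contra hx0
    obtain ⟨y, hy, hxy⟩ := hK.inv x hx hx0
    apply b.ne_zero 1
    have h1 : (y * x) *ᵥ b 1 = 0 := by rw [← mulVec_mulVec, h, mulVec_zero]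
    rwa [hK.comm y hy x hx, hxy, one_mulVec] at h1
  -- evaluation at `b 1`
  let ev : K →ₗ[F] (Fin 3 → F) :=
    { toFun := fun x => (x : Matrix (Fin 3) (Fin 3) F) *ᵥ b 1
      map_add' := fun x y => by
        rw [Subalgebra.coe_add, add_mulVec]
      map_smul' := fun c x => by
        rw [Subalgebra.coe_smul, smul_mulVec, RingHom.id_apply] }
  have hev : Function.Injective ev := by
    rw [injective_iff_map_eq_zero]
    intro x hx
    exact Subtype.ext (hinj x x.2 hx)
  have hfd : FiniteDimensional F K := FiniteDimensional.of_finrank_pos (by rw [hK.finrank_eq]; norm_num)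
  have hsur : Function.Surjective ev := by
    apply (LinearMap.injective_iff_surjective_of_finrank_eq_finrank _).1 hev
    rw [hK.finrank_eq]
    simp
  obtain ⟨⟨x, hxK⟩, hx⟩ := hsur (b 0)
  have hx : x *ᵥ b 1 = b 0 := hx
  have hgg : ((g⁻¹ : GL (Fin 3) F) : Matrix (Fin 3) (Fin 3) F) * (g : Matrix (Fin 3) (Fin 3) F) = 1 := by
    rw [← Units.val_mul, inv_mul_cancel, Units.val_one]
  have hg1 : ((g⁻¹ : GL (Fin 3) F) : Matrix (Fin 3) (Fin 3) F) *ᵥ b 1 = (((tt q l 1 : Fˣ) : F))⁻¹ • b 1 := by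
    have h1 : ((g⁻¹ : GL (Fin 3) F) : Matrix (Fin 3) (Fin 3) F) *ᵥ ((g : Matrix (Fin 3) (Fin 3) F) *ᵥ b 1) = b 1 := by
      rw [mulVec_mulVec, hgg, one_mulVec]
    rw [R.eig, mulVec_smul] at h1
    have h2 := congrArg (fun v => (((tt q l 1 : Fˣ) : F))⁻¹ • v) h1
    simp only [smul_smul] at h2
    rwa [inv_mul_cancel₀ (Units.ne_zero _), one_smul] at h2
  have hy : (g : Matrix (Fin 3) (Fin 3) F) * x * ((g⁻¹ : GL (Fin 3) F) : Matrix (Fin 3) (Fin 3) F)
      = ((((tt q l 1 : Fˣ) : F))⁻¹ * ((tt q l 0 : Fˣ) : F)) • x := by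
    have h1 := (hg x).1 hxK
    rw [← sub_eq_zero]
    apply hinj _ (K.sub_mem h1 (K.smul_mem hxK _))
    rw [sub_mulVec, ← mulVec_mulVec, ← mulVec_mulVec, hg1, mulVec_smul, mulVec_smul, hx, R.eig, smul_mulVec, hx,
      smul_smul, sub_self]
  set c : F := (((tt q l 1 : Fˣ) : F))⁻¹ * ((tt q l 0 : Fˣ) : F) with hc
  have hyy : (g : Matrix (Fin 3) (Fin 3) F) * (x * x) = (c * c) • (x * x) * (g : Matrix (Fin 3) (Fin 3) F) := by
    have h1 : (g : Matrix (Fin 3) (Fin 3) F) * x = c • x * (g : Matrix (Fin 3) (Fin 3) F) := by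
      rw [← hy, Matrix.mul_assoc, hgg, Matrix.mul_one]
    rw [← Matrix.mul_assoc, h1, Matrix.smul_mul, Matrix.smul_mul, Matrix.mul_assoc, h1, Matrix.smul_mul,
      Matrix.mul_smul, smul_smul, Matrix.smul_mul, Matrix.mul_assoc]
  have h1 : ((g ^ 1 : GL (Fin 3) F) : Matrix (Fin 3) (Fin 3) F) *ᵥ ((x * x) *ᵥ b 1) =
      (c * c * ((tt q l 1 : Fˣ) : F)) • ((x * x) *ᵥ b 1) := by
    rw [pow_one, mulVec_mulVec, hyy, ← mulVec_mulVec, R.eig, mulVec_smul, smul_mulVec, smul_smul, mul_comm (c * c)]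
  have hne : (x * x) *ᵥ b 1 ≠ 0 := by
    intro h
    have h2 := hinj _ (K.mul_mem hxK hxK) h
    have hx0 : x ≠ 0 := by
      intro h3
      rw [h3, zero_mulVec] at hx
      exact b.ne_zero 0 hx.symm
    obtain ⟨y, hy, hxy⟩ := hK.inv x hxK hx0
    apply hx0
    calc x = (x * x) * y := by rw [Matrix.mul_assoc, hxy, Matrix.mul_one]
      _ = 0 := by rw [h2, Matrix.zero_mul]
  obtain ⟨i, a, ha, hia⟩ := R.exists_line (Or.inl rfl) hne h1
  have h2 := R.coord h1 i
  rw [hia, map_smul, Finsupp.smul_apply, b.repr_self, Finsupp.single_eq_same, smul_eq_mul, mul_one] at h2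
  have h3 := h2.resolve_left ha
  rw [pow_one, hc] at h3
  have ht1 : ((tt q l 1 : Fˣ) : F) ≠ 0 := Units.ne_zero _
  have h4 : ((tt q l i : Fˣ) : F) * ((tt q l 1 : Fˣ) : F) = ((tt q l 0 : Fˣ) : F) ^ 2 := by
    rw [h3]
    field_simp
  fin_cases i
  · have h5 : ((tt q l 1 : Fˣ) : F) = ((tt q l 0 : Fˣ) : F) := by
      have h6 : ((tt q l 0 : Fˣ) : F) * ((tt q l 1 : Fˣ) : F) = ((tt q l 0 : Fˣ) : F) ^ 2 := h4
      rw [sq] at h6
      exact mul_left_cancel₀ (Units.ne_zero _) h6
    exact absurd (R.inj h5) (by decide)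
  · have h5 : ((tt q l 1 : Fˣ) : F) ^ 2 = ((tt q l 0 : Fˣ) : F) ^ 2 := by
      rw [← h4, sq]
      rfl
    exact absurd (R.inj_pow (Or.inr rfl) h5) (by decide)
  · have h5 : tt q l 2 * tt q l 1 = tt q l 0 ^ 2 := by
      apply Units.ext
      rw [Units.val_mul, Units.val_pow_eq_pow_val]
      exact h4
    have h6 : (l ^ q)⁻¹ * l ^ (q - 1) = l ^ 2 := h5
    have h7 := R.four_le
    have h8 : l ^ 3 = 1 := by
      have h9 : l ^ q = l * l ^ (q - 1) := by
        rw [← pow_succ']; congr 1; omega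
      rw [h9, _root_.mul_inv_rev, mul_comm (l ^ (q - 1))⁻¹, mul_assoc, inv_mul_cancel, mul_one] at h6
      rw [pow_succ, ← h6, inv_mul_cancel]
    have h10 := Nat.le_of_dvd (by norm_num) (R.ord 3 h8)
    have : 16 ≤ q ^ 2 := by nlinarith only [h7]
    omega

/-- the Frobenius argument -/
theorem no_frob {s r : ℕ} (hl : l ^ (q ^ 2 - 1) = 1) (hs : s ^ r = q ^ 2)
    (hr : (r.Prime ∧ Odd r) ∨ r = 2) {c : F}
    (h : ∀ i, ∃ j, ((tt q l j : Fˣ) : F) = c * ((tt q l i : Fˣ) : F) ^ s)
    (hin : ∀ i j, ((tt q l i : Fˣ) : F) ^ s = ((tt q l j : Fˣ) : F) ^ s → i = j) : False := by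
  have h4 := R.four_le
  have h16 : 16 ≤ q ^ 2 := by nlinarith only [h4]
  have hs2 : 2 ≤ s := by
    by_contra hlt
    have : s = 0 ∨ s = 1 := by omega
    rcases this with rfl | rfl
    · rcases Nat.eq_zero_or_pos r with h0 | h0
      · rw [h0, pow_zero] at hs; omega
      · rw [zero_pow h0.ne'] at hs; omega
    · rw [one_pow] at hs; omega
  choose π hπ using h
  have hc : c ≠ 0 := by
    rintro rfl
    have := hπ 0
    rw [zero_mul] at this
    exact Units.ne_zero _ this
  have hπi : ∀ i j, π i = π j → i = j := by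
    intro i j hij
    apply hin
    have h1 := hπ i
    rw [hij, hπ j] at h1
    exact (mul_left_cancel₀ hc h1).symm
  have hqm : (q - 1) * (q + 1) = q ^ 2 - 1 := by
    obtain ⟨k, rfl⟩ : ∃ k, q = k + 1 := ⟨q - 1, by omega⟩
    have : (k + 1) ^ 2 = k * (k + 2) + 1 := by ring
    rw [this]
    simp only [_root_.add_tsub_cancel_right]
  -- ratio of order `q - 1`
  have hrat : ((tt q l 0 : Fˣ) : F) ^ (q - 1) = ((tt q l 2 : Fˣ) : F) ^ (q - 1) := by
    rw [← Units.val_pow_eq_pow_val, ← Units.val_pow_eq_pow_val]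
    congr 1
    show l ^ (q - 1) = ((l ^ q)⁻¹) ^ (q - 1)
    have h1 : l ^ (q - 1) * (l ^ q) ^ (q - 1) = 1 := by
      rw [← pow_mul, ← pow_add, show q - 1 + q * (q - 1) = (q - 1) * (q + 1) by ring, hqm, hl]
    rw [inv_pow]
    exact eq_inv_of_mul_eq_one_left h1
  have hrat' : ((tt q l (π 0) : Fˣ) : F) ^ (q - 1) = ((tt q l (π 2) : Fˣ) : F) ^ (q - 1) := by
    rw [hπ 0, hπ 2, mul_pow, mul_pow, ← pow_mul, ← pow_mul, mul_comm s, pow_mul, pow_mul, hrat]
  have hq1 : ¬ q ^ 2 - 1 ∣ 3 * (q - 1) := by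
    intro h5
    rw [← hqm, mul_comm 3] at h5
    have h6 := Nat.dvd_of_mul_dvd_mul_left (by omega) h5
    have := Nat.le_of_dvd (by norm_num) h6
    omega
  have h0 : π 0 ≠ 1 := by
    intro h5
    have h6 : π 2 ≠ 1 := fun h7 => absurd (hπi 0 2 (h5.trans h7.symm)) (by decide)
    rw [h5] at hrat'
    exact R.ne_one hq1 h6 hrat'.symm
  have h2 : π 2 ≠ 1 := by
    intro h5
    rw [h5] at hrat'
    exact R.ne_one hq1 h0 hrat'
  have h02 : π 0 ≠ π 2 := fun h5 => absurd (hπi 0 2 h5) (by decide)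
  have h01 : π 0 ≠ π 1 := fun h5 => absurd (hπi 0 1 h5) (by decide)
  have h12 : π 1 ≠ π 2 := fun h5 => absurd (hπi 1 2 h5) (by decide)
  have h1 : π 1 = 1 := by
    revert h0 h2 h02 h01 h12
    generalize π 0 = x; generalize π 1 = y; generalize π 2 = z
    revert x y z; decide
  have e1 := hπ 1
  rw [h1] at e1
  have hcase : (π 0 = 0) ∨ (π 0 = 2 ∧ π 2 = 0) := by
    revert h0 h2 h02
    generalize π 0 = x; generalize π 2 = z
    revert x z; decide
  -- cancellation
  have key : ∀ (m : ℕ) (d : F), d ≠ 0 → 1 ≤ m → ((tt q l 0 : Fˣ) : F) = d * ((tt q l 0 : Fˣ) : F) ^ m →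
      ((tt q l 1 : Fˣ) : F) = d * ((tt q l 1 : Fˣ) : F) ^ m → q ^ 2 - 1 ∣ 3 * (m - 1) := by
    intro m d hd hm h5 h6
    apply dvd_of_zero_one h4 R.ord
    apply Units.ext
    rw [Units.val_pow_eq_pow_val, Units.val_pow_eq_pow_val]
    obtain ⟨k, rfl⟩ : ∃ k, m = k + 1 := ⟨m - 1, by omega⟩
    rw [pow_succ, ← mul_assoc] at h5 h6
    have h7 := mul_right_cancel₀ (Units.ne_zero _) ((one_mul _).trans h5)
    have h8 := mul_right_cancel₀ (Units.ne_zero _) ((one_mul _).trans h6)
    exact mul_left_cancel₀ hd (h8.symm.trans h7)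
  have hr3 : (r.Prime ∧ Odd r) → s ^ 3 ≤ q ^ 2 := by
    rintro ⟨h5, h6⟩
    rw [← hs]
    apply Nat.pow_le_pow_right (by omega)
    have := h5.two_le
    obtain ⟨k, hk⟩ := h6
    omega
  have hsq : r = 2 → s = q := by
    rintro rfl
    exact Nat.pow_left_injective (n := 2) (by norm_num) hs
  rcases hcase with h5 | ⟨h5, h6⟩
  · have e0 := hπ 0
    rw [h5] at e0
    have h7 := key s c hc (by omega) e0 e1
    rcases hr with hr | hr
    · have h8 := hr3 hr
      have h9 := Nat.le_of_dvd (by omega) h7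
      have h10 : 4 * s ≤ s ^ 3 := by nlinarith only [hs2, _root_.mul_self_nonneg (↑s : ℤ), _root_.Nat.cast_nonneg (α := ℤ) (s)]
      (clear * - hs2 h8 h9 h10; omega)
    · rw [hsq hr] at h7
      exact hq1 h7
  · have e0 := hπ 0
    have e2 := hπ 2
    rw [h5] at e0
    rw [h6] at e2
    rcases hr with hr | hr
    · have f0 : ((tt q l 0 : Fˣ) : F) = (c * c ^ s) * ((tt q l 0 : Fˣ) : F) ^ (s * s) := by
        conv_lhs => rw [e2, e0]
        rw [mul_pow, ← pow_mul]
        ring
      have f1 : ((tt q l 1 : Fˣ) : F) = (c * c ^ s) * ((tt q l 1 : Fˣ) : F) ^ (s * s) := by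
        conv_lhs => rw [e1, e1]
        rw [mul_pow, ← pow_mul]
        ring
      have h7 := key (s * s) _ (mul_ne_zero hc (pow_ne_zero _ hc)) (by nlinarith only [hs2]) f0 f1
      have h8 := hr3 hr
      have h9 := Nat.le_of_dvd (by have : 4 ≤ s * s := Nat.mul_le_mul hs2 hs2; omega) h7
      have h10 : s < 3 := by
        by_contra h11
        push Not at h11
        have h12 : s ^ 3 = s * (s * s) := by ring
        have h13 : 3 * (s * s) ≤ s * (s * s) := Nat.mul_le_mul_right _ h11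
        have h14 : 9 ≤ s * s := Nat.mul_le_mul h11 h11
        (clear * - h8 h9 h12 h13 h14; omega)
      have h11 : s = 2 := by omega
      subst h11
      (clear * - h16 h9; omega)
    · have hsq' := hsq hr
      subst hsq'
      have f1 : tt s l 2 * tt s l 1 ^ s = tt s l 1 * tt s l 0 ^ s := by
        apply Units.ext
        rw [Units.val_mul, Units.val_mul, Units.val_pow_eq_pow_val, Units.val_pow_eq_pow_val]
        apply mul_left_cancel₀ hc
        calc c * (((tt s l 2 : Fˣ) : F) * ((tt s l 1 : Fˣ) : F) ^ s)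
            = ((tt s l 2 : Fˣ) : F) * (c * ((tt s l 1 : Fˣ) : F) ^ s) := by ring
          _ = ((tt s l 1 : Fˣ) : F) * ((tt s l 2 : Fˣ) : F) := by rw [← e1]; ring
          _ = ((tt s l 1 : Fˣ) : F) * (c * ((tt s l 0 : Fˣ) : F) ^ s) := by rw [← e0]
          _ = _ := by ring
      have f2 : (l ^ s)⁻¹ * (l ^ (s - 1)) ^ s = l ^ (s - 1) * l ^ s := f1
      have f3 : l ^ (4 * s - 2) = 1 := by
        have f4 : (l ^ (s - 1)) ^ s = l ^ s * (l ^ (s - 1) * l ^ s) := by
          rw [← f2, mul_inv_cancel_left]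
        have f5 : l ^ (s ^ 2 - 1) = (l ^ (s - 1)) ^ s * l ^ (s - 1) := by
          rw [← pow_mul, ← pow_add, ← hqm]
          congr 1
        rw [hl, f4, ← pow_add, ← pow_add, ← pow_add] at f5
        rw [show 4 * s - 2 = s + (s - 1 + s) + (s - 1) by omega, ← f5]
      have f6 := Nat.le_of_dvd (by omega) (R.ord _ f3)
      have f7 : 4 * s ≤ s ^ 2 := by nlinarith only [h4]
      omega

/-- eigenvalues under the Frobenius map -/
theorem frob_step (φ : F →+* F) {A P P' : Matrix (Fin 3) (Fin 3) F} {c : F} (hc : c ≠ 0)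
    (hAe : ∀ i j, φ (A i j) = A i j) (hPgP : (g : Matrix (Fin 3) (Fin 3) F) * P = c • (P * A))
    (hP1 : P * P' = 1) (hP2 : P' * P = 1) (i : Fin 3) :
    ∃ j, ((tt q l j : Fˣ) : F) = (c * φ c⁻¹) * φ ((tt q l i : Fˣ) : F) := by
  have hcP : ∀ v : Fin 3 → F, (g : Matrix (Fin 3) (Fin 3) F) *ᵥ (P *ᵥ v) = c • (P *ᵥ (A *ᵥ v)) := by
    intro v
    rw [mulVec_mulVec, hPgP, smul_mulVec, mulVec_mulVec]
  have hPin : ∀ v w : Fin 3 → F, P *ᵥ v = P *ᵥ w → v = w := by
    intro v w h
    have h1 := congrArg (fun u => P' *ᵥ u) h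
    simpa only [mulVec_mulVec, hP2, one_mulVec] using h1
  -- the eigenvectors of `A`
  obtain ⟨w, hPw⟩ : ∃ w : Fin 3 → F, P *ᵥ w = b i := ⟨P' *ᵥ b i, by rw [mulVec_mulVec, hP1, one_mulVec]⟩
  have hw : A *ᵥ w = (c⁻¹ * ((tt q l i : Fˣ) : F)) • w := by
    apply hPin
    have h1 := hcP w
    rw [hPw, R.eig] at h1
    rw [mulVec_smul, hPw, mul_smul, h1, smul_smul, inv_mul_cancel₀ hc, one_smul]
  have hwφ : A *ᵥ (fun k => φ (w k)) = φ (c⁻¹ * ((tt q l i : Fˣ) : F)) • (fun k => φ (w k)) := by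
    funext k
    have h1 := congrArg φ (congrFun hw k)
    rw [Pi.smul_apply, smul_eq_mul, map_mul φ _ (w k)] at h1
    rw [Pi.smul_apply, smul_eq_mul, ← h1]
    simp only [mulVec, dotProduct, map_sum, map_mul, hAe]
  have h1 : ((g ^ 1 : GL (Fin 3) F) : Matrix (Fin 3) (Fin 3) F) *ᵥ (P *ᵥ fun k => φ (w k)) =
      (c * φ (c⁻¹ * ((tt q l i : Fˣ) : F))) • (P *ᵥ fun k => φ (w k)) := by
    rw [pow_one, hcP, hwφ, mulVec_smul, smul_smul]
  have hne : P *ᵥ (fun k => φ (w k)) ≠ 0 := by
    intro h2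
    have h3 : (fun k => φ (w k)) = (0 : Fin 3 → F) := hPin _ _ (by rw [h2, mulVec_zero])
    apply b.ne_zero i
    have h4 : w = 0 := by
      funext k
      have h5 := congrFun h3 k
      exact (map_eq_zero φ).1 h5
    rw [← hPw, h4, mulVec_zero]
  obtain ⟨j, a, ha, hj⟩ := R.exists_line (Or.inl rfl) hne h1
  refine ⟨j, ?_⟩
  have h2 := R.coord h1 j
  rw [hj, map_smul, Finsupp.smul_apply, b.repr_self, Finsupp.single_eq_same, smul_eq_mul, mul_one] at h2
  have h3 := h2.resolve_left ha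
  rw [pow_one] at h3
  rw [h3, map_mul, mul_assoc]

/-- subfield groups -/
theorem case_five [Fintype F] (hF : Fintype.card F = q ^ 2) {F₀ : Subfield F} {r : ℕ}
    (hr : (r.Prime ∧ Odd r) ∨ r = 2) (hc : Fintype.card F = Nat.card F₀ ^ r) {P : GL (Fin 3) F}
    (hg : g ∈ subfieldSubgroup F₀ P) : False := by
  have hl : l ^ (q ^ 2 - 1) = 1 := by
    rw [← hF]
    apply Units.ext
    rw [Units.val_pow_eq_pow_val, FiniteField.pow_card_sub_one_eq_one _ (Units.ne_zero l), Units.val_one]
  obtain ⟨y, hy, hyg⟩ := Subgroup.mem_map.1 hg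
  obtain ⟨a, ha, z, hz, rfl⟩ := (Subgroup.mem_sup_of_normal_right (t := scalars (Fin 3) F)).1 hy
  obtain ⟨g0, hg0⟩ := MonoidHom.mem_range.1 ha
  obtain ⟨c, hzc⟩ := (mem_scalars_iff z).1 hz
  obtain ⟨φ, hφ, hφ0⟩ : ∃ φ : F →+* F, (∀ x, φ x = x ^ Nat.card F₀) ∧ ∀ x : F₀, φ (x : F) = x := by
    classical
    have : Fintype F₀ := Fintype.ofFinite F₀
    refine ⟨(FiniteField.frobeniusAlgHom F₀ F : F →ₐ[F₀] F).toRingHom, fun x => ?_, fun x => ?_⟩
    · rw [Nat.card_eq_fintype_card]
      exact congrFun (FiniteField.coe_frobeniusAlgHom F₀ F) x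
    · exact (FiniteField.frobeniusAlgHom F₀ F : F →ₐ[F₀] F).commutes x
  have hP1 : (P : Matrix (Fin 3) (Fin 3) F) * ((P⁻¹ : GL (Fin 3) F) : Matrix (Fin 3) (Fin 3) F) = 1 := by
    rw [← Units.val_mul, mul_inv_cancel, Units.val_one]
  have hP2 : ((P⁻¹ : GL (Fin 3) F) : Matrix (Fin 3) (Fin 3) F) * (P : Matrix (Fin 3) (Fin 3) F) = 1 := by
    rw [← Units.val_mul, inv_mul_cancel, Units.val_one]
  have hAe : ∀ i j, φ ((a : Matrix (Fin 3) (Fin 3) F) i j) = (a : Matrix (Fin 3) (Fin 3) F) i j := by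
    intro i j
    rw [← hg0]
    exact hφ0 _
  have hPgP : (g : Matrix (Fin 3) (Fin 3) F) * (P : Matrix (Fin 3) (Fin 3) F) =
      (c : F) • ((P : Matrix (Fin 3) (Fin 3) F) * (a : Matrix (Fin 3) (Fin 3) F)) := by
    have h1 : P * (a * z) * P⁻¹ = g := hyg
    rw [← h1, ← Units.val_mul, inv_mul_cancel_right, Units.val_mul, Units.val_mul, hzc, Matrix.mul_smul,
      Matrix.mul_smul, Matrix.mul_one]
  apply R.no_frob hl (by rw [← hF, hc] : Nat.card F₀ ^ r = q ^ 2) hr (c := (c : F) * φ ((c : F)⁻¹))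
  · intro i
    obtain ⟨j, hj⟩ := R.frob_step φ (Units.ne_zero c) hAe hPgP hP1 hP2 i
    exact ⟨j, by rw [hj, hφ ((tt q l i : Fˣ) : F)]⟩
  · intro i j h
    rw [← hφ, ← hφ] at h
    exact R.inj (φ.injective h)

/-- normalisers of groups of order 27 -/
theorem case_seven (hq : 11 ≤ q) {A : Subgroup (GL (Fin 3) F)} (hirr : ActsAbsolutelyIrreducibly (matrixSet A))
    (hA : Nat.card A = 27) (hg : g ∈ subgroupNormalizer A) : False := by
  classical
  have hfin : Finite A := Nat.finite_of_card_ne_zero (by rw [hA]; norm_num)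
  have hfix : ∀ x ∈ A, ∃ c : F, (x : Matrix (Fin 3) (Fin 3) F) *ᵥ b 1 = c • b 1 := by
    intro x hx
    have hn : ∀ k : ℕ, g ^ k * x * (g ^ k)⁻¹ ∈ A := by
      intro k
      exact (Subgroup.mem_normalizer_iff.1 (Subgroup.pow_mem _ hg k) x).1 hx
    let f : Fin 28 → A := fun k => ⟨_, hn k⟩
    obtain ⟨i, j, hij, h⟩ : ∃ i j, i < j ∧ f i = f j := by
      have h1 : ¬ Function.Injective f := by
        intro h2
        have h3 := Nat.card_le_card_of_injective f h2
        rw [hA, Nat.card_fin] at h3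
        omega
      simp only [Function.Injective, not_forall] at h1
      obtain ⟨i, j, h2, h3⟩ := h1
      rcases lt_or_gt_of_ne h3 with h4 | h4
      · exact ⟨i, j, h4, h2⟩
      · exact ⟨j, i, h4, h2.symm⟩
    have h1 : g ^ (i : ℕ) * x * (g ^ (i : ℕ))⁻¹ = g ^ (j : ℕ) * x * (g ^ (j : ℕ))⁻¹ := congrArg Subtype.val h
    have hij' : (i : ℕ) < j := hij
    have hj := j.2
    obtain ⟨m, hm⟩ : ∃ m, (j : ℕ) = i + m := ⟨j - i, by omega⟩
    have h2 : x * g ^ m = g ^ m * x := by
      rw [hm, pow_add] at h1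
      have h3 : g ^ (i : ℕ) * x * (g ^ (i : ℕ))⁻¹ = g ^ (i : ℕ) * (g ^ m * x * (g ^ m)⁻¹) * (g ^ (i : ℕ))⁻¹ := by
        rw [h1]; group
      have h4 := mul_left_cancel (mul_right_cancel h3)
      rw [eq_mul_inv_iff_mul_eq] at h4
      exact h4
    apply R.fix_one (m := m)
    · intro h3
      have h4 := Nat.le_of_dvd (by omega) h3
      have h5 : 121 ≤ q ^ 2 := by nlinarith only [hq]
      omega
    · rw [← Units.val_mul, h2, Units.val_mul]
  have h1 := hirr.1 (Submodule.span F {b 1}) (by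
    rintro _ ⟨x, hx, rfl⟩
    rw [Submodule.map_span, Submodule.span_le, Set.image_singleton, Set.singleton_subset_iff, Matrix.toLin'_apply]
    obtain ⟨c, hc⟩ := hfix x hx
    rw [hc]
    exact Submodule.smul_mem _ _ (Submodule.mem_span_singleton_self _))
  rcases h1 with h1 | h1
  · rw [Submodule.span_singleton_eq_bot] at h1
    exact b.ne_zero 1 h1
  · have h2 : b 0 ∈ Submodule.span F {b 1} := by rw [h1]; trivial
    obtain ⟨c, hc⟩ := Submodule.mem_span_singleton.1 h2
    have h3 := congrArg (fun v => b.repr v 0) hc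
    simp only [b.repr_self, _root_.Fin.isValue, _root_.map_smul, _root_.Finsupp.smul_single, _root_.smul_eq_mul, _root_.mul_one, _root_.ne_eq, _root_.zero_ne_one, _root_.not_false_eq_true, _root_.Finsupp.single_eq_of_ne, _root_.Finsupp.single_eq_same] at h3

end Reg

end Cfsg.Agent.H987.R1
end

-- part: H987/R1/GeoC
section
/-!
# Proper subgroups of `SU(3,q)` which contain a regular element fix a line of its basis (helper987, S5745 OwnR1)
-/

set_option autoImplicit false

namespace Cfsg.Agent.H987.R1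

open Matrix Module Cfsg Cfsg.Geo

variable {F : Type*} [Field F] [Fintype F]

namespace Reg

variable {q : ℕ} {l : Fˣ} {b : Basis (Fin 3) F (Fin 3 → F)} {g : GL (Fin 3) F} (R : Reg q l b g)

include R

theorem fix_line (hF : Fintype.card F = q ^ 2)
    (h00 : hermForm 3 F q (b 0) (b 0) = 0) (h22 : hermForm 3 F q (b 2) (b 2) = 0)
    (h11 : hermForm 3 F q (b 1) (b 1) ≠ 0) (h02 : hermForm 3 F q (b 0) (b 2) ≠ 0)
    {H : Subgroup (GL (Fin 3) F)} (hH : IsMaximalIn (GU 3 F q ⊓ specialLinear (Fin 3) F) H) (hg : g ∈ H)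
    (hres : ¬ InUnitaryResidualClass H) : ∃ i, ∀ h ∈ H, Fix h (b i) := by
  have h4 := R.four_le
  rcases Cfsg.Agent.H907.SU3.su3_cases q hF (by omega) H hH with ⟨W, hW, hs, rfl⟩ | ⟨W, hW, -, hs, rfl⟩ |
    ⟨-, D, hD, rfl⟩ | ⟨-, -, K, hK, -, rfl⟩ | ⟨F₀, r, P, hr, hr', hc, -, rfl⟩ | ⟨-, -, F₀, P, hc, -, rfl⟩ |
    ⟨p, A, -, hqp, -, hp, -, hirr, -, hA, -, rfl⟩ | h
  · obtain ⟨i, hi⟩ := R.case_one hW hs h11 h02 hg.1
    exact ⟨i, fun h hh => hi h hh.1⟩
  · obtain ⟨i, hi⟩ := R.case_two hW hs hg.1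
    exact ⟨i, fun h hh => hi h hh.1⟩
  · exact (R.case_three hD h00 h22 hg.1).elim
  · exact (R.case_four hK hg.1).elim
  · exact (R.case_five hF (Or.inl ⟨hr, hr'⟩) hc hg.1).elim
  · exact (R.case_five hF (Or.inr rfl) hc hg.1).elim
  · exact (R.case_seven (by omega) hirr hA hg.1).elim
  · exact absurd h hres

theorem fix_line_of_lt (hF : Fintype.card F = q ^ 2)
    (h00 : hermForm 3 F q (b 0) (b 0) = 0) (h22 : hermForm 3 F q (b 2) (b 2) = 0)
    (h11 : hermForm 3 F q (b 1) (b 1) ≠ 0) (h02 : hermForm 3 F q (b 0) (b 2) ≠ 0)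
    (hres : ∀ H, IsMaximalIn (GU 3 F q ⊓ specialLinear (Fin 3) F) H → g ∈ H → ¬ InUnitaryResidualClass H)
    {K : Subgroup (GL (Fin 3) F)} (hK : K < GU 3 F q ⊓ specialLinear (Fin 3) F) (hg : g ∈ K) :
    ∃ i, ∀ h ∈ K, Fix h (b i) := by
  obtain ⟨M, hM, hKM⟩ := Cfsg.Agent.H905.exists_isMaximalIn_of_lt hK
  obtain ⟨i, hi⟩ := R.fix_line hF h00 h22 h11 h02 hM (hKM hg) (hres M hM (hKM hg))
  exact ⟨i, fun h hh => hi h (hKM hh)⟩

end Reg

end Cfsg.Agent.H987.R1
end

-- part: H987/R1/Ov
section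
/-!
# The rank one data of `PSU(3,q)`: overgroups of the torus (helper987, S5745 OwnR1)
-/

set_option autoImplicit false
set_option linter.unusedSectionVars false

namespace Cfsg.Agent.H987.R1

open Matrix Subgroup Module
open Cfsg Cfsg.Geo
open Cfsg.Agent Cfsg.Agent.UThreeGen.MatGroup
open Cfsg.Agent.HKS.EndU (tor tmat tor_val tor_mem act tor_emb ci ci_val wel_tor exists_tor tor_mem_center sne
  eq_of_emb_mul comm_of_a)
open Cfsg.Agent.LieRecognition.PSUThreeSylow (conjT Jm)
open Cfsg.Agent.H284 (cj mem_cj conj_mem_cj)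

/-- the change of basis -/
theorem exists_change {F : Type*} [Field F] [Fintype F] {σ : F →+* F} [hσ : Fact (∀ x, σ (σ x) = x)] {q : ℕ}
    (hq : 1 < q) (hs : ∀ x, σ x = x ^ q) (hF : Fintype.card F = q ^ 2) :
    ∃ S S' : Matrix (Fin 3) (Fin 3) F, S * S' = 1 ∧ Sᵀ * S.map σ = -Gm F := by
  by_cases h2 : (2 : F) = 0
  · have : CharP F 2 := CharTwo.of_one_ne_zero_of_two_eq_zero one_ne_zero h2
    obtain ⟨c, hc⟩ := LieClassical.HermBasic.exists_not_fixed (F := F) (q := q) hF
    rw [← hs] at hc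
    obtain ⟨T, T', h1, h3⟩ := LieRecognition.PSUThreeSylow.exists_T (σ := σ) hc
    refine ⟨T, T', h1, h3.trans ?_⟩
    ext i j
    (revert i j; simp [Jm, Gm, CharTwo.neg_eq, _root_.Fin.forall_fin_succ])
  · obtain ⟨v, hv⟩ := UThreeGen.Recog.exists_norm (σ := σ) hq hs (by rw [Nat.card_eq_fintype_card, hF]) (c := -1)
      (by rw [map_neg, map_one])
    exact UThreeGen.Recog.exists_T (σ := σ) h2 hv

section change

variable {F : Type*} [Field F] {S S' : Matrix (Fin 3) (Fin 3) F} (h : S * S' = 1) (h' : S' * S = 1)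

/-- the basis -/
noncomputable def bas : Basis (Fin 3) F (Fin 3 → F) :=
  (Pi.basisFun F (Fin 3)).map (Matrix.toLin'OfInv h' h)

theorem bas_apply (i : Fin 3) : bas h h' i = S *ᵥ Pi.single i 1 := by
  simp only [bas, Basis.map_apply, Pi.basisFun_apply]
  rfl

/-- the invertible matrix -/
def chg : GL (Fin 3) F := ⟨S, S', h, h'⟩

/-- the embedding of `SUG σ` -/
noncomputable def th (σ : F →+* F) : SUG σ →* GL (Fin 3) F :=
  (MulAut.conj (chg h h')).toMonoidHom.comp
    ((Matrix.SpecialLinearGroup.toGL : _root_.Matrix.SpecialLinearGroup (Fin 3) F →* GL (Fin 3) F).comp (SUG σ).subtype)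

theorem th_val {σ : F →+* F} (g : SUG σ) :
    ((th h h' σ g : GL (Fin 3) F) : Matrix (Fin 3) (Fin 3) F) = S * g.1.1 * S' := rfl

theorem th_inj {σ : F →+* F} {g k : SUG σ} (e : th h h' σ g = th h h' σ k) : g = k := by
  have h1 : S * g.1.1 * S' = S * k.1.1 * S' := congrArg (fun x : GL (Fin 3) F => (x : Matrix (Fin 3) (Fin 3) F)) e
  apply Subtype.ext
  apply Subtype.ext
  calc g.1.1 = (S' * S) * g.1.1 * (S' * S) := by rw [h', Matrix.one_mul, Matrix.mul_one]
    _ = S' * (S * g.1.1 * S') * S := by simp only [Matrix.mul_assoc]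
    _ = S' * (S * k.1.1 * S') * S := by rw [h1]
    _ = (S' * S) * k.1.1 * (S' * S) := by simp only [Matrix.mul_assoc]
    _ = k.1.1 := by rw [h', Matrix.one_mul, Matrix.mul_one]

theorem th_mulVec {σ : F →+* F} (g : SUG σ) (v : Fin 3 → F) :
    ((th h h' σ g : GL (Fin 3) F) : Matrix (Fin 3) (Fin 3) F) *ᵥ (S *ᵥ v) = S *ᵥ (g.1.1 *ᵥ v) := by
  rw [th_val, mulVec_mulVec, mulVec_mulVec, Matrix.mul_assoc, h', Matrix.mul_one]

include h' in
theorem S_inj {v w : Fin 3 → F} (e : S *ᵥ v = S *ᵥ w) : v = w := by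
  have h1 := congrArg (fun u => S' *ᵥ u) e
  simpa only [mulVec_mulVec, h', one_mulVec] using h1

/-- a fixed line gives a column -/
theorem col_of_fix {σ : F →+* F} {g : SUG σ} {i : Fin 3} (hf : Fix (th h h' σ g) (bas h h' i)) (j : Fin 3)
    (hj : j ≠ i) : g.1.1 j i = 0 := by
  obtain ⟨c, hc⟩ := hf
  rw [bas_apply, th_mulVec, ← mulVec_smul] at hc
  have h1 := congrFun (S_inj h' hc) j
  rw [mulVec_single_one, Pi.smul_apply, Pi.single_eq_of_ne hj, smul_zero] at h1
  exact h1

theorem herm_bas {σ : F →+* F} {q : ℕ} (hs : ∀ x, σ x = x ^ q) (hS : Sᵀ * S.map σ = -Gm F) (i j : Fin 3) :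
    hermForm 3 F q (bas h h' i) (bas h h' j) = -Gm F i j := by
  have h1 := congrFun (congrFun hS i) j
  rw [Matrix.neg_apply] at h1
  rw [← h1, Matrix.mul_apply, hermForm]
  refine Finset.sum_congr rfl fun k _ => ?_
  rw [bas_apply, bas_apply, mulVec_single_one, mulVec_single_one, Matrix.map_apply, hs, Matrix.transpose_apply]
  rfl

theorem mem_range_iff {σ : F →+* F} [Fact (∀ x, σ (σ x) = x)] {q : ℕ} (hs : ∀ x, σ x = x ^ q)
    (hS : Sᵀ * S.map σ = -Gm F) (x : GL (Fin 3) F) :
    x ∈ GU 3 F q ⊓ specialLinear (Fin 3) F ↔ ∃ g : SUG σ, th h h' σ g = x := by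
  have hmap := UThreeGen.Recog.SU_eq_map hs h hS
  constructor
  · rintro ⟨hx, hd⟩
    have hd' : (x : Matrix (Fin 3) (Fin 3) F).det = 1 := by
      have h1 : Matrix.GeneralLinearGroup.det x = 1 := hd
      have h2 := congrArg (fun u : Fˣ => (u : F)) h1
      simpa using h2
    have h1 : (⟨x, hd'⟩ : _root_.Matrix.SpecialLinearGroup (Fin 3) F) ∈ Cfsg.SU 3 F q := hx
    rw [← hmap] at h1
    obtain ⟨k, hk, e⟩ := h1
    refine ⟨⟨k, hk⟩, ?_⟩
    apply Units.ext
    exact congrArg Subtype.val e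
  · rintro ⟨g, rfl⟩
    have h1 : conjT h g.1 ∈ Cfsg.SU 3 F q := by
      rw [← hmap]
      exact ⟨g.1, g.2, rfl⟩
    refine ⟨h1, ?_⟩
    show Matrix.GeneralLinearGroup.det (th h h' σ g) = 1
    apply Units.ext
    show (S * g.1.1 * S').det = 1
    exact (conjT h g.1).2

end change

namespace Ctx

variable {F : Type*} [Field F] [Fintype F] {q : ℕ} {σ : F →+* F} [hσ : Fact (∀ x, σ (σ x) = x)] {T : Type*}
  [Group T] {π : SUG σ →* T} (C : Ctx q σ π)

include C

theorem tor_single (l : Fˣ) (i : Fin 3) :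
    (tor σ l).1.1 *ᵥ Pi.single i (1 : F) = ((tt q l i : Fˣ) : F) • Pi.single i (1 : F) := by
  have h4 := C.q4
  have h1 : σ (l : F) / (l : F) = ((l ^ (q - 1) : Fˣ) : F) := by
    rw [div_eq_iff (Units.ne_zero l), C.sig_units, ← Units.val_mul, ← pow_succ]
    congr 2
    omega
  have h2 : (σ (l : F))⁻¹ = (((l ^ q)⁻¹ : Fˣ) : F) := by
    rw [C.sig_units, Units.val_inv_eq_inv_val]
  rw [mulVec_single_one, tor_val]
  funext j
  fin_cases i
  · (revert j; simp only [tmat, tt, _root_.Fin.forall_fin_succ, _root_.Fin.zero_eta, Fin.isValue, _root_.Matrix.col_apply, _root_.Matrix.of_apply, _root_.Matrix.cons_val', _root_.Matrix.cons_val_zero, _root_.Matrix.cons_val_fin_one, _root_.Pi.smul_apply, _root_.smul_eq_mul, _root_.Pi.single_eq_same, _root_.mul_one, _root_.Matrix.cons_val_succ, _root_.ne_eq, _root_.Fin.succ_ne_zero, _root_.not_false_eq_true, _root_.Pi.single_eq_of_ne, _root_.MulZeroClass.mul_zero, _root_.implies_true, _root_.and_self])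
  · fin_cases j
    · simp [tmat, tt]
    · show σ (l : F) / (l : F) = ((l ^ (q - 1) : Fˣ) : F) • (Pi.single (1 : Fin 3) (1 : F) : Fin 3 → F) 1
      rw [Pi.single_eq_same, h1, smul_eq_mul, mul_one]
    · simp [tmat, tt]
  · fin_cases j
    · simp [tmat, tt]
    · simp [tmat, tt]
    · show (σ (l : F))⁻¹ = (((l ^ q)⁻¹ : Fˣ) : F) • (Pi.single (2 : Fin 3) (1 : F) : Fin 3 → F) 2
      rw [Pi.single_eq_same, h2, smul_eq_mul, mul_one]

theorem reg {S S' : Matrix (Fin 3) (Fin 3) F} (h : S * S' = 1) (h' : S' * S = 1) (hq : q = 4 ∨ 7 ≤ q) {l : Fˣ}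
    (hl : ∀ k : ℕ, l ^ k = 1 → q ^ 2 - 1 ∣ k) : Reg q l (bas h h') (th h h' σ (tor σ l)) where
  hq := hq
  ord := hl
  eig := by
    intro i
    rw [bas_apply, th_mulVec, C.tor_single, mulVec_smul]

/-- elements which fix the middle line commute with the homologies -/
theorem comm_mid {g : SUG σ} (h01 : g.1.1 0 1 = 0) (h21 : g.1.1 2 1 = 0) {l : Fˣ} (hl : (l : F) * σ (l : F) = 1) :
    tor σ l * g = g * tor σ l := by
  have e11 := entry_of_mem_SUG g.2 1 1
  have j11 : Gm F 1 1 = -1 := by simp [Gm]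
  simp only [h01, h21, j11, zero_mul, add_zero, zero_sub, neg_inj] at e11
  have h11 : g.1.1 1 1 ≠ 0 := by
    intro h0
    rw [h0, zero_mul] at e11
    exact zero_ne_one e11
  have hs11 : σ (g.1.1 1 1) ≠ 0 := (map_ne_zero σ).2 h11
  have e01 := entry_of_mem_SUG g.2 0 1
  have e21 := entry_of_mem_SUG g.2 2 1
  have j01 : Gm F 0 1 = 0 := by simp [Gm]
  have j21 : Gm F 2 1 = 0 := by simp [Gm]
  simp only [h01, h21, j01, map_zero, mul_zero, add_zero, zero_sub, neg_eq_zero, mul_eq_zero] at e01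
  simp only [h01, h21, j21, map_zero, mul_zero, add_zero, zero_sub, neg_eq_zero, mul_eq_zero] at e21
  have h10 : g.1.1 1 0 = 0 := e01.resolve_right hs11
  have h12 : g.1.1 1 2 = 0 := e21.resolve_right hs11
  have hl2 : (σ (l : F))⁻¹ = l := inv_eq_of_mul_eq_one_left hl
  apply Subtype.ext
  apply Subtype.ext
  rw [coe_mul_SUG, coe_mul_SUG, tor_val]
  ext i j
  rw [Matrix.mul_apply, Matrix.mul_apply, Fin.sum_univ_three, Fin.sum_univ_three]
  (revert i j; simp only [tmat, h01, h21, h10, h12, hl2, mul_comm, _root_.Fin.forall_fin_succ, Fin.isValue, _root_.Matrix.of_apply, _root_.Matrix.cons_val', _root_.Matrix.cons_val_zero, _root_.Matrix.cons_val_fin_one, _root_.Matrix.cons_val_one, _root_.Matrix.cons_val, _root_.MulZeroClass.zero_mul, _root_.add_zero, _root_.Matrix.cons_val_succ, _root_.Fin.succ_zero_eq_one, _root_.zero_add, _root_.Fin.succ_one_eq_two, _root_.IsEmpty.forall_iff, _root_.and_true, _root_.and_self, _root_.MulZeroClass.mul_zero, _root_.mul_eq_mul_left_iff,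 _root_.Units.ne_zero, _root_.or_false, _root_.zero_eq_mul, _root_.div_eq_zero_iff, _root_.map_eq_zero, _root_.or_self])

variable (p : ℕ) [Fact p.Prime] [CharP F p]

/-- the overgroups of the torus -/
theorem overg {S S' : Matrix (Fin 3) (Fin 3) F} (h : S * S' = 1) (h' : S' * S = 1) (hS : Sᵀ * S.map σ = -Gm F)
    (hq : q = 4 ∨ 7 ≤ q) {l : Fˣ} (hl : ∀ k : ℕ, l ^ k = 1 → q ^ 2 - 1 ∣ k)
    (hres : ∀ H, IsMaximalIn (GU 3 F q ⊓ specialLinear (Fin 3) F) H → th h h' σ (tor σ l) ∈ H →
      ¬ InUnitaryResidualClass H)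
    (K : Subgroup T) (hK : (C.dat p).T0 ≤ K) (hK' : K ≠ ⊤) :
    K ≤ (C.dat p).B ∨ K ≤ cj (C.dat p).w (C.dat p).B ∨ ∀ z ∈ C.Z p, ∀ k ∈ K, z * k = k * z := by
  have hlt : (K.comap π).map (th h h' σ) < GU 3 F q ⊓ specialLinear (Fin 3) F := by
    refine lt_of_le_of_ne ?_ ?_
    · rintro _ ⟨g, -, rfl⟩
      exact (mem_range_iff h h' C.hs hS _).2 ⟨g, rfl⟩
    · intro e
      apply hK'
      rw [eq_top_iff]
      rintro x -
      obtain ⟨g, rfl⟩ := C.sur x
      have h1 : th h h' σ g ∈ GU 3 F q ⊓ specialLinear (Fin 3) F := (mem_range_iff h h' C.hs hS _).2 ⟨g, rfl⟩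
      rw [← e] at h1
      obtain ⟨k, hk, e'⟩ := h1
      rw [← th_inj h h' e']
      exact hk
  have hg : th h h' σ (tor σ l) ∈ (K.comap π).map (th h h' σ) :=
    ⟨tor σ l, hK ((C.mem_T0 p).2 ⟨l, rfl⟩), rfl⟩
  have hb := herm_bas h h' C.hs hS
  obtain ⟨i, hi⟩ := (C.reg h h' hq hl).fix_line_of_lt C.hF (by rw [hb]; simp [Gm]) (by rw [hb]; simp [Gm])
    (by rw [hb]; simp [Gm]) (by rw [hb]; simp [Gm]) hres hlt hg
  have hcol : ∀ g : SUG σ, π g ∈ K → ∀ j, j ≠ i → g.1.1 j i = 0 := by
    intro g hg j hj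
    exact col_of_fix h h' (hi _ ⟨g, hg, rfl⟩) j hj
  fin_cases i
  · left
    intro x hx
    obtain ⟨g, rfl⟩ := C.sur x
    exact Subgroup.mem_map_of_mem π ⟨hcol g hx 1 (by decide), hcol g hx 2 (by decide)⟩
  · right; right
    intro z hz k hk
    obtain ⟨m, rfl⟩ := (C.mem_T0 p).1 hz.1
    obtain ⟨g, rfl⟩ := C.sur k
    rw [← map_mul, ← map_mul, C.comm_mid (hcol g hk 0 (by decide)) (hcol g hk 2 (by decide)) (C.norm_of_Z p hz)]
  · right; left
    intro x hx
    obtain ⟨g, rfl⟩ := C.sur x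
    show π g ∈ cj (π (wel σ)) ((_root_.Cfsg.Agent.UThreeGen.MatGroup.borel σ).map π)
    rw [mem_cj, ← map_inv, ← map_mul, ← map_mul]
    apply Subgroup.mem_map_of_mem π
    rw [wel_inv, mem_borel, coe_mul_SUG, coe_mul_SUG, wel_val]
    rw [(mul_Wm_apply _ 1).1, (Wm_mul_apply _ 2).2.1, neg_neg, (mul_Wm_apply _ 2).1, (Wm_mul_apply _ 2).2.2, neg_neg]
    exact ⟨hcol g hx 1 (by decide), hcol g hx 0 (by decide)⟩

/-- **the hypotheses** -/
theorem hyp {S S' : Matrix (Fin 3) (Fin 3) F} (h : S * S' = 1) (h' : S' * S = 1) (hS : Sᵀ * S.map σ = -Gm F)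
    (hq : q = 4 ∨ 7 ≤ q) {l : Fˣ} (hl : ∀ k : ℕ, l ^ k = 1 → q ^ 2 - 1 ∣ k)
    (hres : ∀ H, IsMaximalIn (GU 3 F q ⊓ specialLinear (Fin 3) F) H → th h h' σ (tor σ l) ∈ H →
      ¬ InUnitaryResidualClass H) : (C.dat p).Hyp where
  comm := C.comm p
  p2 := C.p2 p
  inv := fun _ φ hφ => C.inv p hq φ hφ
  ov := by
    refine (C.dat p).ov_of (C.Z p) (C.Z_ne_bot p) (C.Z_ne_top p) (C.Z_T0 p) fun K hK hK' => ?_
    rcases C.overg p h h' hS hq hl hres K hK hK' with h1 | h1 | h1
    · exact Or.inl h1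
    · exact Or.inr (Or.inl h1)
    · exact Or.inr (Or.inr fun φ hφ => C.Z_inv p hK h1 φ hφ)

end Ctx

end Cfsg.Agent.H987.R1
end

-- part: H987/R1/U3
section
/-!
# `R1` and `Hyp` for `PSU(3,q)`, `q = 4` or `q ≥ 7` (helper987, S5745 OwnR1)

* `NoRes` : no maximal subgroup of `SU(3,q)` of the residual class contains an element of order `q ^ 2 - 1`
  modulo scalars (from S5779, see `U3Res`);
* `r1_psu3` : the data and the hypotheses.
-/

set_option autoImplicit false

namespace Cfsg.Agent.H987.R1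

open Matrix Subgroup Module
open Cfsg Cfsg.Geo
open Cfsg.Agent Cfsg.Agent.UThreeGen.MatGroup
open Cfsg.Agent.HKS.EndU (tor)

/-- no maximal subgroup of the residual class contains a large cyclic torus -/
def NoRes : Prop :=
  ∀ (F : Type) [Field F] [Fintype F] (q : ℕ) (g : GL (Fin 3) F), Fintype.card F = q ^ 2 → (q = 4 ∨ 7 ≤ q) →
    (∀ k : ℕ, g ^ k ∈ scalars (Fin 3) F → q ^ 2 - 1 ∣ 3 * k) →
    ∀ H, IsMaximalIn (GU 3 F q ⊓ specialLinear (Fin 3) F) H → g ∈ H → ¬ InUnitaryResidualClass H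

theorem Reg.ord_scalar {F : Type*} [Field F] {q : ℕ} {l : Fˣ} {b : Basis (Fin 3) F (Fin 3 → F)} {g : GL (Fin 3) F}
    (R : Reg q l b g) (k : ℕ) (h : g ^ k ∈ scalars (Fin 3) F) : q ^ 2 - 1 ∣ 3 * k := by
  obtain ⟨c, hc⟩ := (mem_scalars_iff _).1 h
  have h1 : ∀ i, ((tt q l i : Fˣ) : F) ^ k = c := by
    intro i
    have h2 := R.eig_pow k i
    rw [hc, smul_mulVec, one_mulVec] at h2
    have h3 := congrArg (fun v => b.repr v i) h2
    simp only [map_smul, Finsupp.smul_apply, b.repr_self, Finsupp.single_eq_same, smul_eq_mul, mul_one] at h3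
    exact h3.symm
  apply dvd_of_zero_one R.four_le R.ord
  apply Units.ext
  rw [Units.val_pow_eq_pow_val, Units.val_pow_eq_pow_val, h1, h1]

/-- **`R1` and `Hyp` for `PSU(3,q)`** -/
theorem r1_psu3 (hN : NoRes) {F : Type} [Field F] [Fintype F] {p : ℕ} [hp : Fact p.Prime] [CharP F p] {q : ℕ}
    (hF : Fintype.card F = q ^ 2) (hq : q = 4 ∨ 7 ≤ q) {T : Type*} [Group T] (e : T ≃* PSU 3 F q) :
    ∃ D : H470.EPO.R1 p T, D.Hyp := by
  have h4 : 4 ≤ q := by omega
  obtain ⟨n, hn⟩ : ∃ n, q = p ^ n := by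
    obtain ⟨n, -, hn⟩ := FiniteField.card F p
    have h2 : q ∣ p ^ (n : ℕ) := by
      rw [← hn, hF]
      exact Dvd.intro_left (q ^ (2 - 1)) (by ring)
    obtain ⟨m, -, hm⟩ := (Nat.dvd_prime_pow hp.out).1 h2
    exact ⟨m, hm⟩
  let σ : F →+* F := iterateFrobenius F p n
  have hs : ∀ x, σ x = x ^ q := by
    intro x
    rw [hn]
    exact iterateFrobenius_def p n x
  have hσ : Fact (∀ x, σ (σ x) = x) := ⟨fun x => by
    rw [hs, hs, ← pow_mul, ← sq, ← hF, FiniteField.pow_card]⟩
  obtain ⟨π, hπ, hker⟩ := H212.U3.Model.exists_pi (σ := σ) (q := q) (by omega) hs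
    (by rw [Nat.card_eq_fintype_card, hF])
  have C : Ctx q σ (e.symm.toMonoidHom.comp π) :=
    { q4 := h4
      hF := hF
      hs := hs
      sur := e.symm.surjective.comp hπ
      ker := fun g => by
        rw [← hker]
        show e.symm (π g) = 1 ↔ π g = 1
        rw [map_eq_one_iff e.symm e.symm.injective] }
  obtain ⟨S, S', h1, hS⟩ := exists_change (σ := σ) (by omega) hs hF
  have h2 : S' * S = 1 := mul_eq_one_comm.1 h1
  obtain ⟨l, hl, -⟩ := C.gen
  refine ⟨C.dat p, C.hyp p h1 h2 hS hq hl fun H hH hg => ?_⟩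
  exact hN F q _ hF hq (C.reg h1 h2 hq hl).ord_scalar H hH hg

end Cfsg.Agent.H987.R1
end

private theorem dce_164cd752dc28 : _root_.True := by
  try have : _root_.True := by simp only [_root_.Cfsg.Agent.H987.R1.tt.eq_1]
  try have : _root_.True := by simp only [_root_.Cfsg.Agent.H987.R1.bas.eq_1]
  try have : _root_.True := by simp only [_root_.Matrix.toLin'OfInv.congr_simp]
  try have : _root_.True := by simp only [_root_.Cfsg.Agent.H987.R1.Ctx.dat.congr_simp]
  exact _root_.True.intro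
end
end
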